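import Mathlib

/-!
# The `r`-part of a product `∏ (x^i - 1)` (lifting the exponent)
-/

set_option autoImplicit false

namespace Cfsg.Agent.H902.Lte

open Finset

/-- the product `(x - 1)(x² - 1)⋯(xⁿ - 1)` -/
def W (x : ℤ) (n : ℕ) : ℤ := ∏ i ∈ range n, (x ^ (i + 1) - 1)

theorem pow_sub_one_ne_zero {x : ℤ} (hx : 2 ≤ |x|) {n : ℕ} (hn : n ≠ 0) : x ^ n - 1 ≠ 0 := by
  intro h
  have h1 : x ^ n = 1 := by linarith
  have h2 : |x| ^ n = 1 := by rw [← abs_pow, h1, abs_one]
  have h3 : 1 < |x| ^ n := one_lt_pow₀ (by omega) hn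
  omega

theorem W_ne_zero {x : ℤ} (hx : 2 ≤ |x|) (n : ℕ) : W x n ≠ 0 :=
  Finset.prod_ne_zero_iff.2 fun _ _ => pow_sub_one_ne_zero hx (Nat.succ_ne_zero _)

theorem dvd_pow_sub_one_iff {x : ℤ} {r : ℕ} (m : ℕ) :
    (r : ℤ) ∣ x ^ m - 1 ↔ orderOf (x : ZMod r) ∣ m := by
  rw [orderOf_dvd_iff_pow_eq_one, ← ZMod.intCast_zmod_eq_zero_iff_dvd]
  push_cast
  rw [sub_eq_zero]

theorem padicValInt_eq_of_emultiplicity {r : ℕ} (hr : r.Prime) {a : ℤ} (ha : a ≠ 0) {k : ℕ}
    (h : emultiplicity (r : ℤ) a = k) : padicValInt r a = k := by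
  have : Fact r.Prime := ⟨hr⟩
  have h1 : (k : ℕ) ≤ padicValInt r a := by
    rcases (padicValInt_dvd_iff k a).1 (pow_dvd_of_le_emultiplicity (by rw [h])) with h2 | h2
    · exact absurd h2 ha
    · exact h2
  have h2 : padicValInt r a ≤ k := by
    by_contra hcon
    push Not at hcon
    have h3 : (r : ℤ) ^ (k + 1) ∣ a := (padicValInt_dvd_iff (k + 1) a).2 (Or.inr hcon)
    have h4 := le_emultiplicity_of_pow_dvd h3
    rw [h] at h4
    exact absurd (by exact_mod_cast h4 : k + 1 ≤ k) (by omega)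
  omega

theorem lte_odd {r : ℕ} (hr : r.Prime) (hodd : Odd r) {x : ℤ} (hx : 2 ≤ |x|) (hrx : ¬ (r : ℤ) ∣ x) {i : ℕ}
    (hi : i ≠ 0) :
    padicValInt r (x ^ i - 1) = if orderOf (x : ZMod r) ∣ i then
      padicValInt r (x ^ orderOf (x : ZMod r) - 1) + padicValNat r (i / orderOf (x : ZMod r)) else 0 := by
  have : Fact r.Prime := ⟨hr⟩
  set e := orderOf (x : ZMod r) with he
  split_ifs with h
  · obtain ⟨j, rfl⟩ := h
    have he0 : e ≠ 0 := by rintro h0; rw [h0, zero_mul] at hi; exact hi rfl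
    have hj0 : j ≠ 0 := by rintro rfl; rw [mul_zero] at hi; exact hi rfl
    rw [Nat.mul_div_cancel_left _ (Nat.pos_of_ne_zero he0)]
    have hd : (r : ℤ) ∣ x ^ e - 1 := (dvd_pow_sub_one_iff e).2 dvd_rfl
    have hnd : ¬ (r : ℤ) ∣ x ^ e := fun h => hrx ((Nat.prime_iff_prime_int.1 hr).dvd_of_dvd_pow h)
    have key := Int.emultiplicity_pow_sub_pow hr hodd hd hnd j
    rw [one_pow, ← pow_mul] at key
    apply padicValInt_eq_of_emultiplicity hr (pow_sub_one_ne_zero hx hi)
    rw [key]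
    have h1 : emultiplicity (r : ℤ) (x ^ e - 1) = (padicValInt r (x ^ e - 1) : ℕ) := by
      rw [← Int.emultiplicity_natAbs, padicValInt,
        padicValNat_eq_emultiplicity (Int.natAbs_ne_zero.2 (pow_sub_one_ne_zero hx he0))]
    rw [h1, ← padicValNat_eq_emultiplicity hj0]
    push_cast; rfl
  · have h1 : ¬ (r : ℤ) ∣ x ^ i - 1 := fun h2 => h ((dvd_pow_sub_one_iff i).1 h2)
    exact padicValInt.eq_zero_of_not_dvd h1

theorem lte_two {x : ℤ} (hx : 2 ≤ |x|) (hrx : ¬ (2 : ℤ) ∣ x) {i : ℕ} (hi : i ≠ 0) :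
    padicValInt 2 (x ^ i - 1) = if Even i then
      padicValInt 2 (x ^ 2 - 1) + padicValNat 2 (i / 2) else padicValInt 2 (x - 1) := by
  have : Fact (Nat.Prime 2) := ⟨Nat.prime_two⟩
  have hxo : Odd x := Int.not_even_iff_odd.1 fun h => hrx h.two_dvd
  have hemu : ∀ {a : ℤ}, a ≠ 0 → emultiplicity (2 : ℤ) a = (padicValInt 2 a : ℕ) := by
    intro a ha
    have h0 : ((2 : ℕ) : ℤ) = 2 := rfl
    rw [← h0, ← Int.emultiplicity_natAbs, padicValInt,
      padicValNat_eq_emultiplicity (Int.natAbs_ne_zero.2 ha)]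
  have hx1 : x - 1 ≠ 0 := by have := pow_sub_one_ne_zero hx (n := 1) one_ne_zero; simpa using this
  have hx1' : x + 1 ≠ 0 := by
    intro h
    have : x = -1 := by linarith
    rw [this] at hx; norm_num at hx
  split_ifs with h
  · have hd : (2 : ℤ) ∣ x - 1 := (hxo.sub_odd odd_one).two_dvd
    have key := Int.two_pow_sub_pow (x := x) (y := 1) hd hrx h
    have key2 := Int.two_pow_sub_pow (x := x) (y := 1) (n := 2) hd hrx even_two
    rw [one_pow] at key key2
    have hi2 : (i : ℤ) ≠ 0 := by exact_mod_cast hi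
    rw [hemu (pow_sub_one_ne_zero hx hi), hemu hx1, hemu hx1', hemu hi2] at key
    rw [hemu (pow_sub_one_ne_zero hx two_ne_zero), hemu hx1, hemu hx1', hemu (by norm_num)] at key2
    norm_cast at key key2
    have h3 : padicValInt 2 (2 : ℤ) = 1 := by
      have h30 : padicValInt 2 ((2 : ℕ) : ℤ) = 1 := by rw [padicValInt.of_nat]; exact padicValNat_self
      exact h30
    have h4 : padicValInt 2 (i : ℤ) = 1 + padicValNat 2 (i / 2) := by
      rw [padicValInt.of_nat]
      obtain ⟨j, hj⟩ := h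
      have hj2 : i = 2 * j := by omega
      have hj0 : j ≠ 0 := by omega
      rw [hj2, Nat.mul_div_cancel_left _ (by norm_num), padicValNat.mul (by norm_num) hj0, padicValNat_self]
    rw [h3] at key2
    rw [h4] at key
    push_cast at key key2
    omega
  · have hodd : Odd i := Nat.not_even_iff_odd.1 h
    have h1 : x ^ i - 1 = (x - 1) * ∑ j ∈ range i, x ^ j := (mul_geom_sum x i).symm
    have h2 : ¬ ((2 : ℕ) : ℤ) ∣ ∑ j ∈ range i, x ^ j := by
      have h3 : Odd (∑ j ∈ range i, x ^ j) := by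
        have h5 : ∀ k : ℕ, Even (∑ j ∈ range k, x ^ j - (k : ℤ)) := by
          intro k
          induction k with
          | zero => simp
          | succ k ih =>
            rw [Finset.sum_range_succ]
            have h6 : Even (x ^ k - 1) := hxo.pow.sub_odd odd_one
            have h7 : ∑ j ∈ range k, x ^ j + x ^ k - ((k + 1 : ℕ) : ℤ) =
              (∑ j ∈ range k, x ^ j - (k : ℤ)) + (x ^ k - 1) := by push_cast; ring
            rw [h7]; exact ih.add h6
        have h6 := h5 i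
        have h8 : Odd ((i : ℕ) : ℤ) := by exact_mod_cast hodd
        have h9 := h6.add_odd h8
        rwa [sub_add_cancel] at h9
      intro h4
      exact (Int.not_even_iff_odd.2 h3) (even_iff_two_dvd.2 h4)
    have h3 : (∑ j ∈ range i, x ^ j) ≠ 0 := by
      intro h0; rw [h0] at h2; exact h2 (dvd_zero _)
    rw [h1, padicValInt.mul hx1 h3, padicValInt.eq_zero_of_not_dvd h2, add_zero]

theorem W_succ (x : ℤ) (n : ℕ) : W x (n + 1) = W x n * (x ^ (n + 1) - 1) := by
  rw [W, W, Finset.prod_range_succ]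

theorem val_W_odd {r : ℕ} (hr : r.Prime) (hodd : Odd r) {x : ℤ} (hx : 2 ≤ |x|) (hrx : ¬ (r : ℤ) ∣ x) (n : ℕ) :
    padicValInt r (W x n) = (n / orderOf (x : ZMod r)) * padicValInt r (x ^ orderOf (x : ZMod r) - 1) +
      padicValNat r (n / orderOf (x : ZMod r)).factorial := by
  have : Fact r.Prime := ⟨hr⟩
  induction n with
  | zero => simp [W, padicValInt]
  | succ n ih =>
    rw [W_succ, padicValInt.mul (W_ne_zero hx n) (pow_sub_one_ne_zero hx (Nat.succ_ne_zero n)), ih,
      lte_odd hr hodd hx hrx (Nat.succ_ne_zero n), Nat.succ_div]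
    split_ifs with h
    · rw [Nat.factorial_succ, padicValNat.mul (Nat.succ_ne_zero _) (Nat.factorial_ne_zero _)]
      ring
    · simp only [add_zero]

theorem val_W_two {x : ℤ} (hx : 2 ≤ |x|) (hrx : ¬ (2 : ℤ) ∣ x) (n : ℕ) :
    padicValInt 2 (W x n) = ((n + 1) / 2) * padicValInt 2 (x - 1) + (n / 2) * padicValInt 2 (x ^ 2 - 1) +
      padicValNat 2 (n / 2).factorial := by
  have : Fact (Nat.Prime 2) := ⟨Nat.prime_two⟩
  induction n with
  | zero => simp [W, padicValInt]
  | succ n ih =>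
    rw [W_succ, padicValInt.mul (W_ne_zero hx n) (pow_sub_one_ne_zero hx (Nat.succ_ne_zero n)), ih,
      lte_two hx hrx (Nat.succ_ne_zero n)]
    rcases Nat.even_or_odd (n + 1) with h | h
    · rw [if_pos h]
      obtain ⟨k, hk⟩ := h
      have h1 : (n + 1) / 2 = k := by omega
      have h2 : (n + 1 + 1) / 2 = k := by omega
      have h3 : n / 2 = k - 1 := by omega
      have h4 : k = k - 1 + 1 := by omega
      rw [h1, h2, h3]
      obtain ⟨j, rfl⟩ : ∃ j, k = j + 1 := ⟨k - 1, h4⟩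
      rw [Nat.add_sub_cancel, Nat.factorial_succ, padicValNat.mul (Nat.succ_ne_zero _) (Nat.factorial_ne_zero _)]
      ring
    · rw [if_neg (Nat.not_even_iff_odd.2 h)]
      obtain ⟨k, hk⟩ := h
      have h1 : (n + 1) / 2 = k := by omega
      have h2 : (n + 1 + 1) / 2 = k + 1 := by omega
      have h3 : n / 2 = k := by omega
      rw [h1, h2, h3]
      ring

/-- the factorial bound -/
theorem val_factorial_le {r : ℕ} (hr : r.Prime) {a : ℕ} (ha : a ≠ 0) :
    (r - 1) * padicValNat r a.factorial ≤ a - 1 := by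
  have : Fact r.Prime := ⟨hr⟩
  rw [sub_one_mul_padicValNat_factorial]
  have h1 : 1 ≤ (r.digits a).sum := by
    by_contra hcon
    have h0 : (r.digits a).sum = 0 := by omega
    have h2 : ∀ d ∈ r.digits a, d = 0 := by
      intro d hd
      have := List.single_le_sum (fun x _ => Nat.zero_le x) d hd
      omega
    have h3 := Nat.ofDigits_digits r a
    have h4 : ∀ l : List ℕ, (∀ d ∈ l, d = 0) → Nat.ofDigits r l = 0 := by
      intro l
      induction l with
      | nil => intro _; rfl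
      | cons d l ih =>
        intro h
        rw [Nat.ofDigits_cons, h d (by simp), ih fun x hx => h x (by simp [hx])]
        simp
    rw [h4 _ h2] at h3
    exact ha h3.symm
  omega

theorem sq_le_three_pow {r : ℕ} (hr : 3 ≤ r) : r ^ 2 ≤ 3 ^ (r - 1) := by
  obtain ⟨k, rfl⟩ := Nat.exists_eq_add_of_le hr
  have : 3 + k - 1 = k + 2 := by omega
  rw [this]
  induction k with
  | zero => norm_num
  | succ k ih =>
    have := ih (by omega) (by omega)
    have h2 : 3 ^ (k + 1 + 2) = 3 * 3 ^ (k + 2) := by ring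
    rw [h2]
    nlinarith

theorem pow_val_factorial_le {r : ℕ} (hr : r.Prime) (hr3 : 3 ≤ r) {a : ℕ} (ha : a ≠ 0) :
    (r ^ padicValNat r a.factorial) ^ 2 ≤ 3 ^ (a - 1) := by
  calc (r ^ padicValNat r a.factorial) ^ 2 = (r ^ 2) ^ padicValNat r a.factorial := by
        rw [← pow_mul, ← pow_mul, mul_comm]
    _ ≤ (3 ^ (r - 1)) ^ padicValNat r a.factorial := Nat.pow_le_pow_left (sq_le_three_pow hr3) _
    _ = 3 ^ ((r - 1) * padicValNat r a.factorial) := by rw [← pow_mul]
    _ ≤ 3 ^ (a - 1) := Nat.pow_le_pow_right (by norm_num) (val_factorial_le hr ha)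

theorem pow_val_factorial_two_le {a : ℕ} (ha : a ≠ 0) :
    2 ^ padicValNat 2 a.factorial ≤ 2 ^ (a - 1) := by
  have := val_factorial_le Nat.prime_two ha
  exact Nat.pow_le_pow_right (by norm_num) (by omega)

end Cfsg.Agent.H902.Lte
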