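import Mathlib
import Cfsg.Agent.H902.Lte

/-!
# Order formulas of the finite simple groups of Lie type: the shapes and the `r`-parts
-/

set_option autoImplicit false

namespace Cfsg.Agent.H902.Art

open Finset Cfsg.Agent.H902.Lte

/-- the shapes of the order formulas (`C` also serves for the odd-dimensional orthogonal groups) -/
inductive Sh
  | L (n : ℕ)
  | C (n : ℕ)
  | U (n : ℕ)
  | D (n : ℕ)
  | DD (n : ℕ)
  | G2
  | F4
  | E6
  | E7
  | E8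
  | TE6
  | TD4
  | Sz
  | Ree
  | TF4
  deriving DecidableEq

/-- the exponent of `q` in the order -/
def NN : Sh → ℕ
  | .L n => n * (n - 1) / 2
  | .C m => m ^ 2
  | .U n => n * (n - 1) / 2
  | .D m => m * (m - 1)
  | .DD m => m * (m - 1)
  | .G2 => 6
  | .F4 => 24
  | .E6 => 36
  | .E7 => 63
  | .E8 => 120
  | .TE6 => 36
  | .TD4 => 12
  | .Sz => 2
  | .Ree => 3
  | .TF4 => 12

/-- the part of the order prime to the characteristic, before dividing by `dd` -/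
def num : Sh → ℕ → ℕ
  | .L n, q => ∏ i ∈ range (n - 1), (q ^ (i + 2) - 1)
  | .C m, q => ∏ i ∈ range m, (q ^ (2 * (i + 1)) - 1)
  | .U n, q => ∏ i ∈ range (n - 1), (if Even i then q ^ (i + 2) - 1 else q ^ (i + 2) + 1)
  | .D m, q => (q ^ m - 1) * ∏ i ∈ range (m - 1), (q ^ (2 * (i + 1)) - 1)
  | .DD m, q => (q ^ m + 1) * ∏ i ∈ range (m - 1), (q ^ (2 * (i + 1)) - 1)
  | .G2, q => (q ^ 2 - 1) * (q ^ 6 - 1)
  | .F4, q => (q ^ 2 - 1) * (q ^ 6 - 1) * (q ^ 8 - 1) * (q ^ 12 - 1)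
  | .E6, q => (q ^ 2 - 1) * (q ^ 5 - 1) * (q ^ 6 - 1) * (q ^ 8 - 1) * (q ^ 9 - 1) * (q ^ 12 - 1)
  | .E7, q => (q ^ 2 - 1) * (q ^ 6 - 1) * (q ^ 8 - 1) * (q ^ 10 - 1) * (q ^ 12 - 1) * (q ^ 14 - 1) * (q ^ 18 - 1)
  | .E8, q => (q ^ 2 - 1) * (q ^ 8 - 1) * (q ^ 12 - 1) * (q ^ 14 - 1) * (q ^ 18 - 1) * (q ^ 20 - 1) * (q ^ 24 - 1) *
      (q ^ 30 - 1)
  | .TE6, q => (q ^ 2 - 1) * (q ^ 5 + 1) * (q ^ 6 - 1) * (q ^ 8 - 1) * (q ^ 9 + 1) * (q ^ 12 - 1)
  | .TD4, q => (q ^ 2 - 1) * (q ^ 6 - 1) * (q ^ 8 + q ^ 4 + 1)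
  | .Sz, q => (q - 1) * (q ^ 2 + 1)
  | .Ree, q => (q - 1) * (q ^ 3 + 1)
  | .TF4, q => (q - 1) * (q ^ 3 + 1) * (q ^ 4 - 1) * (q ^ 6 + 1)

/-- the order of the centre divided out -/
def dd : Sh → ℕ → ℕ
  | .L n, q => Nat.gcd n (q - 1)
  | .C _, q => Nat.gcd 2 (q - 1)
  | .U n, q => Nat.gcd n (q + 1)
  | .D m, q => Nat.gcd 4 (q ^ m - 1)
  | .DD m, q => Nat.gcd 4 (q ^ m + 1)
  | .E6, q => Nat.gcd 3 (q - 1)
  | .E7, q => Nat.gcd 2 (q - 1)
  | .TE6, q => Nat.gcd 3 (q + 1)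
  | _, _ => 1

/-- the admissible parameters -/
def Ok : Sh → ℕ → ℕ → Prop
  | .L n, p, f => 2 ≤ n ∧ (n = 2 → 4 ≤ p ^ f)
  | .C m, p, f => 2 ≤ m ∧ (m = 2 → 3 ≤ p ^ f)
  | .U n, p, f => 3 ≤ n ∧ (n = 3 → 3 ≤ p ^ f)
  | .D m, _, _ => 4 ≤ m
  | .DD m, _, _ => 4 ≤ m
  | .G2, p, f => 3 ≤ p ^ f
  | .F4, _, _ => True
  | .E6, _, _ => True
  | .E7, _, _ => True
  | .E8, _, _ => True
  | .TE6, _, _ => True
  | .TD4, _, _ => True
  | .Sz, p, f => p = 2 ∧ Odd f ∧ 3 ≤ f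
  | .Ree, p, f => p = 3 ∧ Odd f ∧ 3 ≤ f
  | .TF4, p, f => p = 2 ∧ Odd f ∧ 3 ≤ f

instance (X : Sh) (p f : ℕ) : Decidable (Ok X p f) := by
  cases X <;> unfold Ok <;> infer_instance

/-- `M` is the order of a simple group of shape `X` over the field of `p^f` elements -/
structure Real (X : Sh) (p f M : ℕ) : Prop where
  hp : p.Prime
  hf : 1 ≤ f
  ok : Ok X p f
  eq : dd X (p ^ f) * M = (p ^ f) ^ NN X * num X (p ^ f)

/-- the largest exponent -/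
def DM : Sh → ℕ
  | .L n => n
  | .C m => 2 * m
  | .U n => if Even n then 2 * (n - 1) else 2 * n
  | .D m => 2 * (m - 1)
  | .DD m => 2 * m
  | .G2 => 6
  | .F4 => 12
  | .E6 => 12
  | .E7 => 18
  | .E8 => 30
  | .TE6 => 18
  | .TD4 => 12
  | .Sz => 4
  | .Ree => 6
  | .TF4 => 12

/-- a bound for the other exponents; the second largest one if it is more than half of `DM` -/
def BM : Sh → ℕ
  | .L n => n - 1
  | .C m => 2 * (m - 1)
  | .U n => if Even n then (if n = 4 then 4 else 2 * (n - 3)) else 2 * (n - 2)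
  | .D m => 2 * (m - 2)
  | .DD m => 2 * (m - 1)
  | .G2 => 2
  | .F4 => 8
  | .E6 => 9
  | .E7 => 14
  | .E8 => 24
  | .TE6 => 12
  | .TD4 => 6
  | .Sz => 1
  | .Ree => 1
  | .TF4 => 6

/-! ### the `r`-part of a number -/

/-- the `r`-part -/
def P (r a : ℕ) : ℕ := r ^ a.factorization r

theorem P_pos {r a : ℕ} (hr : r.Prime) : 0 < P r a := pow_pos hr.pos _

theorem P_mul {r a b : ℕ} (ha : a ≠ 0) (hb : b ≠ 0) : P r (a * b) = P r a * P r b := by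
  rw [P, P, P, Nat.factorization_mul ha hb, Finsupp.add_apply, pow_add]

theorem P_dvd (r a : ℕ) : P r a ∣ a := Nat.ordProj_dvd a r

theorem P_le {r a : ℕ} (ha : a ≠ 0) : P r a ≤ a := Nat.le_of_dvd (Nat.pos_of_ne_zero ha) (P_dvd r a)

theorem P_mono {r a b : ℕ} (hr : r.Prime) (hb : b ≠ 0) (h : a ∣ b) : P r a ≤ P r b := by
  have ha : a ≠ 0 := fun h0 => hb (by rw [h0] at h; exact Nat.eq_zero_of_zero_dvd h)
  exact Nat.pow_le_pow_right hr.pos ((Nat.factorization_le_iff_dvd ha hb).2 h r)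

theorem P_eq_one {r a : ℕ} (h : ¬ r ∣ a) : P r a = 1 := by
  rw [P, Nat.factorization_eq_zero_of_not_dvd h, pow_zero]

theorem P_pow_self {r k a : ℕ} (hr : r.Prime) (ha : ¬ r ∣ a) : P r (r ^ k * a) = r ^ k := by
  have h0 : a ≠ 0 := fun h => ha (by rw [h]; exact dvd_zero _)
  rw [P_mul (pow_ne_zero _ hr.ne_zero) h0, P_eq_one ha, mul_one, P, hr.factorization_pow, Finsupp.single_eq_same]

theorem P_eq_natAbs {r : ℕ} (hr : r.Prime) (a : ℤ) : P r a.natAbs = r ^ padicValInt r a := by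
  rw [P, Nat.factorization_def _ hr, padicValInt]

/-- for odd `r`, the `r`-part of `q^(2j) - 1` is at most `q^j + 1` -/
theorem P_sq_sub_one_le {r q j : ℕ} (hr : r.Prime) (hr2 : r ≠ 2) (hq : 2 ≤ q) (hj : 1 ≤ j) :
    P r (q ^ (2 * j) - 1) ≤ q ^ j + 1 := by
  have h1 : 2 ≤ q ^ j := hq.trans (Nat.le_self_pow (by omega) q)
  have h2 : q ^ (2 * j) - 1 = (q ^ j - 1) * (q ^ j + 1) := by
    rw [two_mul, pow_add]
    obtain ⟨t, ht⟩ := Nat.exists_eq_add_of_le' (show 1 ≤ q ^ j by omega)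
    rw [ht, Nat.add_sub_cancel]
    have : (t + 1) * (t + 1) = t * (t + 1 + 1) + 1 := by ring
    rw [this, Nat.add_sub_cancel]
  rw [h2, P_mul (by omega) (by omega)]
  by_cases h3 : r ∣ q ^ j - 1
  · have h4 : ¬ r ∣ q ^ j + 1 := by
      intro h5
      have h6 : r ∣ (q ^ j + 1) - (q ^ j - 1) := Nat.dvd_sub h5 h3
      have h7 : (q ^ j + 1) - (q ^ j - 1) = 2 := by omega
      rw [h7] at h6
      exact hr2 ((Nat.prime_dvd_prime_iff_eq hr Nat.prime_two).1 h6)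
    rw [P_eq_one h4, mul_one]
    exact (P_le (by omega)).trans (by omega)
  · rw [P_eq_one h3, one_mul]
    exact P_le (by omega)

/-- for odd `q`, the `2`-part of `q^2 - 1` is at most `2 (q + 1)` -/
theorem P_two_sq_sub_one_le {q : ℕ} (hq : 3 ≤ q) (hodd : Odd q) : P 2 (q ^ 2 - 1) ≤ 2 * (q + 1) := by
  have h2 : q ^ 2 - 1 = (q - 1) * (q + 1) := by
    obtain ⟨t, rfl⟩ := Nat.exists_eq_add_of_le' (show 1 ≤ q by omega)
    rw [Nat.add_sub_cancel]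
    have : (t + 1) ^ 2 = t * (t + 1 + 1) + 1 := by ring
    rw [this, Nat.add_sub_cancel]
  rw [h2, P_mul (by omega) (by omega)]
  obtain ⟨k, rfl⟩ := hodd
  -- one of `q - 1`, `q + 1` is twice an odd number
  rcases Nat.even_or_odd k with hk | hk
  · -- `q + 1 = 2 (k + 1)`, `k + 1` odd
    have h3 : P 2 (2 * k + 1 + 1) = 2 := by
      have h4 : 2 * k + 1 + 1 = 2 ^ 1 * (k + 1) := by ring
      rw [h4, P_pow_self Nat.prime_two]
      · norm_num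
      · intro h5
        exact (Nat.not_even_iff_odd.2 hk.add_one) (even_iff_two_dvd.2 h5)
    rw [h3, mul_comm]
    exact Nat.mul_le_mul_left 2 ((P_le (by omega)).trans (by omega))
  · have h3 : P 2 (2 * k + 1 - 1) = 2 := by
      have h4 : 2 * k + 1 - 1 = 2 ^ 1 * k := by rw [Nat.add_sub_cancel]; ring
      rw [h4, P_pow_self Nat.prime_two]
      · norm_num
      · intro h5
        exact (Nat.not_even_iff_odd.2 hk) (even_iff_two_dvd.2 h5)
    rw [h3]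
    exact Nat.mul_le_mul_left 2 (P_le (by omega))

end Cfsg.Agent.H902.Art
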