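import Mathlib
import Cfsg.Agent.H902.Shape

/-!
# Artin's dominance: the `r`-part of the order of a group of Lie type for `r ≠ p`
-/

set_option autoImplicit false

namespace Cfsg.Agent.H902.Art

open Finset Cfsg.Agent.H902.Lte

theorem PW_odd {r : ℕ} (hr : r.Prime) (hr2 : r ≠ 2) {x : ℤ} (hx : 2 ≤ |x|) (hrx : ¬ (r : ℤ) ∣ x) (n : ℕ) :
    P r (W x n).natAbs = (P r (x ^ orderOf (x : ZMod r) - 1).natAbs) ^ (n / orderOf (x : ZMod r)) *
      r ^ padicValNat r (n / orderOf (x : ZMod r)).factorial := by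
  rw [P_eq_natAbs hr, P_eq_natAbs hr, val_W_odd hr (hr.odd_of_ne_two hr2) hx hrx, pow_add, ← pow_mul, mul_comm (n / _)]

/-- square bound for odd `r` -/
theorem PW_odd_sq {r : ℕ} (hr : r.Prime) (hr2 : r ≠ 2) {x : ℤ} (hx : 2 ≤ |x|) (hrx : ¬ (r : ℤ) ∣ x) (n B : ℕ)
    (hB : (P r (x ^ orderOf (x : ZMod r) - 1).natAbs) ^ 2 ≤ B) (hn : n / orderOf (x : ZMod r) ≠ 0) :
    (P r (W x n).natAbs) ^ 2 ≤ B ^ (n / orderOf (x : ZMod r)) * 3 ^ (n / orderOf (x : ZMod r) - 1) := by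
  have hr3 : 3 ≤ r := by
    have := hr.two_le
    omega
  rw [PW_odd hr hr2 hx hrx, mul_pow, ← pow_mul, mul_comm _ 2, pow_mul]
  exact Nat.mul_le_mul (Nat.pow_le_pow_left hB _) (pow_val_factorial_le hr hr3 hn)

theorem PW_zero {r : ℕ} (hr : r.Prime) (hr2 : r ≠ 2) {x : ℤ} (hx : 2 ≤ |x|) (hrx : ¬ (r : ℤ) ∣ x) (n : ℕ)
    (hn : n / orderOf (x : ZMod r) = 0) : P r (W x n).natAbs = 1 := by
  rw [PW_odd hr hr2 hx hrx, hn]
  simp

theorem PW_two {x : ℤ} (hx : 2 ≤ |x|) (hrx : ¬ (2 : ℤ) ∣ x) (n : ℕ) :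
    P 2 (W x n).natAbs = (P 2 (x - 1).natAbs) ^ ((n + 1) / 2) * (P 2 (x ^ 2 - 1).natAbs) ^ (n / 2) *
      2 ^ padicValNat 2 (n / 2).factorial := by
  rw [P_eq_natAbs Nat.prime_two, P_eq_natAbs Nat.prime_two, P_eq_natAbs Nat.prime_two, val_W_two hx hrx, pow_add,
    pow_add, ← pow_mul, ← pow_mul, mul_comm ((n + 1) / 2), mul_comm (n / 2)]

/-! ### the symplectic product -/

theorem W_sq {q : ℕ} (hq : 2 ≤ q) (m : ℕ) :
    (W ((q : ℤ) ^ 2) m).natAbs = ∏ i ∈ range m, (q ^ (2 * (i + 1)) - 1) := by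
  have h : W ((q : ℤ) ^ 2) m = ((∏ i ∈ range m, (q ^ (2 * (i + 1)) - 1) : ℕ) : ℤ) := by
    rw [W, Nat.cast_prod]
    apply Finset.prod_congr rfl
    intro i _
    have h1 : 1 ≤ q ^ (2 * (i + 1)) := Nat.one_le_pow _ _ (by omega)
    rw [Nat.cast_sub h1, ← pow_mul]
    push_cast; rfl
  rw [h, Int.natAbs_natCast]

theorem abs_sq_ge {q : ℕ} (hq : 2 ≤ q) : (2 : ℤ) ≤ |(q : ℤ) ^ 2| := by
  have h2 : (2 : ℤ) ≤ q := by exact_mod_cast hq
  have h1 : (2 : ℤ) ≤ (q : ℤ) ^ 2 := by nlinarith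
  rwa [abs_of_nonneg (by positivity)]

theorem not_dvd_cast {r q : ℕ} (h : ¬ r ∣ q) : ¬ (r : ℤ) ∣ (q : ℤ) := fun h1 => h (Int.natCast_dvd_natCast.1 h1)

theorem not_dvd_sq {r q : ℕ} (hr : r.Prime) (h : ¬ r ∣ q) : ¬ (r : ℤ) ∣ (q : ℤ) ^ 2 := fun h1 =>
  not_dvd_cast h ((Nat.prime_iff_prime_int.1 hr).dvd_of_dvd_pow h1)

theorem order_pos {r q : ℕ} (hr : r.Prime) {x : ℤ} (h : ¬ (r : ℤ) ∣ x) : 1 ≤ orderOf (x : ZMod r) := by
  have : Fact r.Prime := ⟨hr⟩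
  have h1 : (x : ZMod r) ≠ 0 := fun h2 => h ((ZMod.intCast_zmod_eq_zero_iff_dvd x r).1 h2)
  have h2 : IsOfFinOrder (x : ZMod r) := by
    rw [isOfFinOrder_iff_pow_eq_one]
    exact ⟨r - 1, by have := hr.two_le; omega, ZMod.pow_card_sub_one_eq_one h1⟩
  exact h2.orderOf_pos

/-- the symplectic product, `r` odd: square bound in terms of the order `e` of `q²` -/
theorem PC_odd {r q : ℕ} (hr : r.Prime) (hr2 : r ≠ 2) (hq : 2 ≤ q) (hrq : ¬ r ∣ q) (m : ℕ) :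
    ∃ e : ℕ, 1 ≤ e ∧ (e = 1 → r ∣ q ^ 2 - 1) ∧ ((m < e ∧ P r (∏ i ∈ range m, (q ^ (2 * (i + 1)) - 1)) = 1) ∨ (e ≤ m ∧
      (P r (∏ i ∈ range m, (q ^ (2 * (i + 1)) - 1))) ^ 2 ≤ ((q ^ e + 1) ^ 2) ^ (m / e) * 3 ^ (m / e - 1))) := by
  have hx := abs_sq_ge hq
  have hrx := not_dvd_sq hr hrq
  set x : ℤ := (q : ℤ) ^ 2 with hxdef
  refine ⟨orderOf (x : ZMod r), order_pos (q := q) hr hrx, ?_, ?_⟩
  · intro h
    have h1 : (r : ℤ) ∣ x ^ 1 - 1 := (dvd_pow_sub_one_iff 1).2 (by rw [h])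
    rw [pow_one, hxdef] at h1
    have h2 : ((q ^ 2 - 1 : ℕ) : ℤ) = (q : ℤ) ^ 2 - 1 := by
      rw [Nat.cast_sub (Nat.one_le_pow _ _ (by omega))]; push_cast; rfl
    rw [← h2] at h1
    exact Int.natCast_dvd_natCast.1 h1
  · have he := order_pos (q := q) hr hrx
    rcases Nat.lt_or_ge m (orderOf (x : ZMod r)) with h | h
    · left
      refine ⟨h, ?_⟩
      rw [← W_sq hq]
      exact PW_zero hr hr2 hx hrx m (Nat.div_eq_of_lt h)
    · right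
      refine ⟨h, ?_⟩
      rw [← W_sq hq]
      apply PW_odd_sq hr hr2 hx hrx
      · apply Nat.pow_le_pow_left
        have h1 : (x ^ orderOf (x : ZMod r) - 1).natAbs = q ^ (2 * orderOf (x : ZMod r)) - 1 := by
          have h2 : x ^ orderOf (x : ZMod r) - 1 = ((q ^ (2 * orderOf (x : ZMod r)) - 1 : ℕ) : ℤ) := by
            rw [Nat.cast_sub (Nat.one_le_pow _ _ (by omega)), hxdef, ← pow_mul]; push_cast; rfl
          rw [h2, Int.natAbs_natCast]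
        rw [h1]
        exact P_sq_sub_one_le hr hr2 hq he
      · exact (Nat.div_pos h (by omega)).ne'

theorem le_of_sq_le {a b : ℕ} (h : a ^ 2 ≤ b ^ 2) : a ≤ b := (Nat.pow_le_pow_iff_left (by norm_num)).1 h

/-- the symplectic product, `r = 2` -/
theorem PC_two {q : ℕ} (hq : 3 ≤ q) (hodd : Odd q) {m : ℕ} (hm : 1 ≤ m) :
    2 * P 2 (∏ i ∈ range m, (q ^ (2 * (i + 1)) - 1)) ≤ (4 * (q + 1)) ^ m := by
  have hq2 : ¬ 2 ∣ q := fun h => (Nat.not_even_iff_odd.2 hodd) (even_iff_two_dvd.2 h)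
  have hx := abs_sq_ge (show 2 ≤ q by omega)
  have hrx : ¬ (2 : ℤ) ∣ (q : ℤ) ^ 2 := not_dvd_sq Nat.prime_two hq2
  have key : ∀ m : ℕ, P 2 (∏ i ∈ range m, (q ^ (2 * (i + 1)) - 1)) =
      (P 2 (q ^ 2 - 1)) ^ m * 2 ^ padicValNat 2 m.factorial := by
    have : Fact (Nat.Prime 2) := ⟨Nat.prime_two⟩
    intro m
    induction m with
    | zero => simp [P]
    | succ m ih =>
      have hne : ∀ i : ℕ, q ^ (2 * (i + 1)) - 1 ≠ 0 := by
        intro i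
        have : q ^ 1 ≤ q ^ (2 * (i + 1)) := Nat.pow_le_pow_right (by omega) (by omega)
        rw [pow_one] at this; omega
      rw [Finset.prod_range_succ, P_mul (Finset.prod_ne_zero_iff.2 fun i _ => hne i) (hne m), ih]
      have h1 : P 2 (q ^ (2 * (m + 1)) - 1) = P 2 (q ^ 2 - 1) * 2 ^ padicValNat 2 (m + 1) := by
        have h2 := lte_two (x := (q : ℤ)) (by
          have h2 : (2 : ℤ) ≤ q := by exact_mod_cast (show 2 ≤ q by omega)
          rwa [abs_of_nonneg (by positivity)]) (not_dvd_cast (r := 2) hq2) (i := 2 * (m + 1)) (by omega)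
        rw [if_pos (even_two_mul _), Nat.mul_div_cancel_left _ (by norm_num)] at h2
        have h3 : ∀ k : ℕ, ((q : ℤ) ^ k - 1).natAbs = q ^ k - 1 := by
          intro k
          have h4 : (q : ℤ) ^ k - 1 = ((q ^ k - 1 : ℕ) : ℤ) := by
            rw [Nat.cast_sub (Nat.one_le_pow _ _ (by omega))]; push_cast; rfl
          rw [h4, Int.natAbs_natCast]
        rw [← h3, ← h3, P_eq_natAbs Nat.prime_two, P_eq_natAbs Nat.prime_two, h2, pow_add]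
      rw [h1, Nat.factorial_succ, padicValNat.mul (Nat.succ_ne_zero _) (Nat.factorial_ne_zero _), pow_add]
      ring
  rw [key]
  have h1 := pow_val_factorial_two_le (a := m) (by omega)
  have h2 := P_two_sq_sub_one_le hq hodd
  have h3 : 2 * ((P 2 (q ^ 2 - 1)) ^ m * 2 ^ padicValNat 2 m.factorial) ≤ 2 * ((2 * (q + 1)) ^ m * 2 ^ (m - 1)) :=
    Nat.mul_le_mul_left 2 (Nat.mul_le_mul (Nat.pow_le_pow_left h2 m) h1)
  refine h3.trans (le_of_eq ?_)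
  obtain ⟨k, rfl⟩ := Nat.exists_eq_add_of_le' hm
  rw [Nat.add_sub_cancel]
  have : (4 * (q + 1)) ^ (k + 1) = (2 * (q + 1)) ^ (k + 1) * 2 ^ (k + 1) := by rw [← mul_pow]; ring
  rw [this, pow_succ 2 k]; ring

/-- the symplectic product: `r`-part at most `q^(3m)` -/
theorem PC_le {r q : ℕ} (hr : r.Prime) (hq : 2 ≤ q) (hrq : ¬ r ∣ q) (m : ℕ) :
    P r (∏ i ∈ range m, (q ^ (2 * (i + 1)) - 1)) ≤ q ^ (3 * m) := by
  have hq0 : 0 < q := by omega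
  by_cases hr2 : r = 2
  · subst hr2
    have hodd : Odd q := Nat.not_even_iff_odd.1 fun h => hrq h.two_dvd
    have hq3 : 3 ≤ q := by
      rcases hodd with ⟨k, hk⟩; omega
    rcases Nat.eq_zero_or_pos m with rfl | hm
    · simp [P]
    · have h1 := PC_two hq3 hodd hm
      have h2 : 4 * (q + 1) ≤ q ^ 3 := by nlinarith [mul_le_mul hq3 hq3 (by norm_num) (by omega)]
      calc P 2 (∏ i ∈ range m, (q ^ (2 * (i + 1)) - 1)) ≤ 2 * P 2 (∏ i ∈ range m, (q ^ (2 * (i + 1)) - 1)) := by omega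
        _ ≤ (4 * (q + 1)) ^ m := h1
        _ ≤ (q ^ 3) ^ m := Nat.pow_le_pow_left h2 m
        _ = q ^ (3 * m) := by rw [pow_mul]
  · obtain ⟨e, he, -, h | ⟨hem, h⟩⟩ := PC_odd hr hr2 hq hrq m
    · rw [h.2]; exact Nat.one_le_pow _ _ hq0
    · apply le_of_sq_le
      refine h.trans ?_
      have h2 : 2 ≤ q ^ e := hq.trans (Nat.le_self_pow (by omega) q)
      have h3 : 3 * (q ^ e + 1) ^ 2 ≤ q ^ (2 * e + 3) := by
        have h4 : 8 ≤ q ^ 3 := by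
          calc 8 = 2 ^ 3 := by norm_num
            _ ≤ q ^ 3 := Nat.pow_le_pow_left hq 3
        have h5 : q ^ (2 * e + 3) = (q ^ e) ^ 2 * q ^ 3 := by rw [pow_add, mul_comm 2 e, pow_mul]
        rw [h5]
        have h6 : 3 * (q ^ e + 1) ^ 2 ≤ (q ^ e) ^ 2 * 8 := by nlinarith
        exact h6.trans (Nat.mul_le_mul_left _ h4)
      have ha : 1 ≤ m / e := Nat.div_pos hem (by omega)
      have hae : m / e * e ≤ m := Nat.div_mul_le_self m e
      have ham : m / e ≤ m := Nat.div_le_self m e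
      calc ((q ^ e + 1) ^ 2) ^ (m / e) * 3 ^ (m / e - 1) ≤ ((q ^ e + 1) ^ 2) ^ (m / e) * 3 ^ (m / e) :=
            Nat.mul_le_mul_left _ (Nat.pow_le_pow_right (by norm_num) (by omega))
        _ = (3 * (q ^ e + 1) ^ 2) ^ (m / e) := by rw [← mul_pow, mul_comm]
        _ ≤ (q ^ (2 * e + 3)) ^ (m / e) := Nat.pow_le_pow_left h3 _
        _ = q ^ ((2 * e + 3) * (m / e)) := by rw [← pow_mul]
        _ ≤ q ^ (2 * (3 * m)) := Nat.pow_le_pow_right hq0 (by nlinarith)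
        _ = (q ^ (3 * m)) ^ 2 := by rw [← pow_mul]; ring

end Cfsg.Agent.H902.Art
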