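import Mathlib
import Cfsg.Agent.H902.Dom

/-!
# Artin's dominance for the linear and unitary groups
-/

set_option autoImplicit false

namespace Cfsg.Agent.H902.Art

open Finset Cfsg.Agent.H902.Lte

theorem num_L {q n : ℕ} (hq : 2 ≤ q) (hn : 1 ≤ n) : num (.L n) q * (q - 1) = (W (q : ℤ) n).natAbs := by
  have h : W (q : ℤ) n = ((∏ i ∈ range n, (q ^ (i + 1) - 1) : ℕ) : ℤ) := by
    rw [W, Nat.cast_prod]
    apply Finset.prod_congr rfl
    intro i _
    have h1 : 1 ≤ q ^ (i + 1) := Nat.one_le_pow _ _ (by omega)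
    rw [Nat.cast_sub h1]; push_cast; rfl
  rw [h, Int.natAbs_natCast]
  obtain ⟨k, rfl⟩ := Nat.exists_eq_add_of_le' hn
  rw [Finset.prod_range_succ', zero_add, pow_one]
  rfl

theorem num_U {q n : ℕ} (hq : 2 ≤ q) (hn : 1 ≤ n) : num (.U n) q * (q + 1) = (W (-(q : ℤ)) n).natAbs := by
  have h : (W (-(q : ℤ)) n).natAbs = ∏ i ∈ range n, (if Even (i + 1) then q ^ (i + 1) - 1 else q ^ (i + 1) + 1) := by
    rw [W, ← Int.natAbsHom_apply, map_prod]
    apply Finset.prod_congr rfl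
    intro i _
    rw [Int.natAbsHom_apply]
    have h1 : 1 ≤ q ^ (i + 1) := Nat.one_le_pow _ _ (by omega)
    split_ifs with h2
    · rw [h2.neg_pow]
      have h4 : (q : ℤ) ^ (i + 1) - 1 = ((q ^ (i + 1) - 1 : ℕ) : ℤ) := by
        rw [Nat.cast_sub h1]; push_cast; rfl
      rw [h4, Int.natAbs_natCast]
    · rw [(Nat.not_even_iff_odd.1 h2).neg_pow]
      have h4 : -(q : ℤ) ^ (i + 1) - 1 = -((q ^ (i + 1) + 1 : ℕ) : ℤ) := by push_cast; ring
      rw [h4, Int.natAbs_neg, Int.natAbs_natCast]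
  rw [h]
  obtain ⟨k, rfl⟩ := Nat.exists_eq_add_of_le' hn
  rw [Finset.prod_range_succ', zero_add, pow_one, if_neg (by decide)]
  show (∏ i ∈ range k, (if Even i then q ^ (i + 2) - 1 else q ^ (i + 2) + 1)) * (q + 1) = _
  congr 1
  apply Finset.prod_congr rfl
  intro i _
  have : Even (i + 1 + 1) ↔ Even i := by
    rw [Nat.even_add_one, Nat.even_add_one, not_not]
  simp only [this]

theorem abs_eq_cases {x : ℤ} {q : ℕ} (hx : x = q ∨ x = -(q : ℤ)) : |x| = q := by
  rcases hx with rfl | rfl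
  · exact abs_of_nonneg (by positivity)
  · rw [abs_neg]; exact abs_of_nonneg (by positivity)

/-- odd `r` -/
theorem PLU_odd {r q n : ℕ} (hr : r.Prime) (hr2 : r ≠ 2) (hq : 2 ≤ q) (hrq : ¬ r ∣ q) (hn : 3 ≤ n) {x : ℤ}
    (hx : x = q ∨ x = -(q : ℤ)) {N : ℕ} (hN : N * (x - 1).natAbs = (W x n).natAbs) :
    (r ∣ (x - 1).natAbs ∧ P r N = (P r (x - 1).natAbs) ^ (n - 1) * r ^ padicValNat r n.factorial) ∨
      (P r N) ^ 2 ≤ q ^ (n * (n - 1)) := by
  have hxa : |x| = q := abs_eq_cases hx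
  have hx2 : 2 ≤ |x| := by rw [hxa]; exact_mod_cast hq
  have hrx : ¬ (r : ℤ) ∣ x := by
    rcases hx with rfl | rfl
    · exact not_dvd_cast hrq
    · intro h; exact not_dvd_cast hrq ((dvd_neg).1 h)
  have hW0 : (W x n).natAbs ≠ 0 := Int.natAbs_ne_zero.2 (W_ne_zero hx2 n)
  have hN0 : N ≠ 0 := by rintro rfl; rw [zero_mul] at hN; exact hW0 hN.symm
  have hy0 : (x - 1).natAbs ≠ 0 := by intro h; rw [h, mul_zero] at hN; exact hW0 hN.symm
  have hP : P r N * P r (x - 1).natAbs = P r (W x n).natAbs := by rw [← P_mul hN0 hy0, hN]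
  have he := order_pos (q := q) hr hrx
  set e := orderOf (x : ZMod r) with hedef
  by_cases h : r ∣ (x - 1).natAbs
  · left
    refine ⟨h, ?_⟩
    have h1 : (r : ℤ) ∣ x ^ 1 - 1 := by rw [pow_one]; exact Int.natCast_dvd.2 h
    have h2 : e ∣ 1 := (dvd_pow_sub_one_iff 1).1 h1
    have h3 : e = 1 := Nat.dvd_one.1 h2
    have h4 := PW_odd hr hr2 hx2 hrx n
    rw [← hedef, h3, Nat.div_one, pow_one] at h4
    rw [h4] at hP
    have h5 : (P r (x - 1).natAbs) ^ n = (P r (x - 1).natAbs) ^ (n - 1) * P r (x - 1).natAbs := by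
      rw [← pow_succ]; congr 1; omega
    rw [h5] at hP
    have h6 : 0 < P r (x - 1).natAbs := P_pos hr
    apply Nat.eq_of_mul_eq_mul_right h6
    rw [hP]; ring
  · right
    rw [P_eq_one h, mul_one] at hP
    rw [hP]
    have hq0 : 0 < q := by omega
    by_cases hz : n / e = 0
    · rw [PW_zero hr hr2 hx2 hrx n hz, one_pow]
      exact Nat.one_le_pow _ _ hq0
    · have he2 : 2 ≤ e := by
        by_contra hcon
        have h3 : e = 1 := by omega
        have h1 : (r : ℤ) ∣ x ^ 1 - 1 := (dvd_pow_sub_one_iff 1).2 (by rw [← hedef, h3])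
        rw [pow_one] at h1
        exact h (Int.natCast_dvd.1 h1)
      -- the `r`-part of `x^e - 1` is at most `q^e`
      have hA : P r (x ^ e - 1).natAbs ≤ q ^ e := by
        have hne : (x ^ e - 1).natAbs ≠ 0 := Int.natAbs_ne_zero.2 (pow_sub_one_ne_zero hx2 (by omega))
        have h1 : (x - 1).natAbs ∣ (x ^ e - 1).natAbs := by
          rw [Int.natAbs_dvd_natAbs]
          have := sub_dvd_pow_sub_pow x 1 e
          rwa [one_pow] at this
        have hcop : Nat.Coprime (P r (x ^ e - 1).natAbs) (x - 1).natAbs :=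
          Nat.Coprime.pow_left _ ((Nat.Prime.coprime_iff_not_dvd hr).2 h)
        have h2 : P r (x ^ e - 1).natAbs * (x - 1).natAbs ∣ (x ^ e - 1).natAbs :=
          Nat.Coprime.mul_dvd_of_dvd_of_dvd hcop (P_dvd _ _) h1
        have h3 := Nat.le_of_dvd (Nat.pos_of_ne_zero hne) h2
        have h4 : (x ^ e - 1).natAbs ≤ q ^ e + 1 := by
          have h5 := Int.natAbs_sub_le (x ^ e) 1
          have h6 : (x ^ e).natAbs = q ^ e := by
            rw [Int.natAbs_pow]
            congr 1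
            rcases hx with rfl | rfl <;> simp
          rw [h6] at h5
          simpa using h5
        rcases hx with hx | hx
        · have h7 : (x ^ e - 1).natAbs = q ^ e - 1 := by
            have h8 : x ^ e - 1 = ((q ^ e - 1 : ℕ) : ℤ) := by
              rw [Nat.cast_sub (Nat.one_le_pow _ _ hq0), hx]; push_cast; rfl
            rw [h8, Int.natAbs_natCast]
          have h9 : P r (x ^ e - 1).natAbs ≤ P r (x ^ e - 1).natAbs * (x - 1).natAbs :=
            Nat.le_mul_of_pos_right _ (Nat.pos_of_ne_zero hy0)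
          omega
        · have h7 : 2 ≤ (x - 1).natAbs := by rw [hx]; omega
          have h9 : P r (x ^ e - 1).natAbs * 2 ≤ P r (x ^ e - 1).natAbs * (x - 1).natAbs :=
            Nat.mul_le_mul_left _ h7
          have h10 : 1 ≤ q ^ e := Nat.one_le_pow _ _ hq0
          omega
      have h1 := PW_odd_sq hr hr2 hx2 hrx n ((q ^ e) ^ 2) (Nat.pow_le_pow_left hA 2) hz
      refine h1.trans ?_
      rw [← hedef]
      have hae : n / e * e ≤ n := Nat.div_mul_le_self n e
      set a := n / e with hadef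
      have ha1 : 1 ≤ a := Nat.pos_of_ne_zero hz
      rw [← pow_mul, ← pow_mul]
      rcases Nat.lt_or_ge a 2 with ha2 | ha2
      · have ha : a = 1 := by omega
        rw [ha] at hae ⊢
        simp only [Nat.sub_self, pow_zero, mul_one]
        apply Nat.pow_le_pow_right hq0
        have h2 : 2 ≤ n - 1 := by omega
        calc e * 2 ≤ n * 2 := by omega
          _ ≤ n * (n - 1) := Nat.mul_le_mul_left _ h2
      · have h3 : 3 ^ (a - 1) ≤ q ^ (2 * a) := by
          calc 3 ^ (a - 1) ≤ 4 ^ a := (Nat.pow_le_pow_left (by norm_num) _).trans (Nat.pow_le_pow_right (by norm_num) (by omega))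
            _ = 2 ^ (2 * a) := by rw [pow_mul]; norm_num
            _ ≤ q ^ (2 * a) := Nat.pow_le_pow_left hq _
        have hn4 : 4 ≤ n := by nlinarith
        calc q ^ (e * (2 * a)) * 3 ^ (a - 1) ≤ q ^ (e * (2 * a)) * q ^ (2 * a) := Nat.mul_le_mul_left _ h3
          _ = q ^ (e * (2 * a) + 2 * a) := by rw [← pow_add]
          _ ≤ q ^ (n * (n - 1)) := by
            apply Nat.pow_le_pow_right hq0
            have h5 : 2 * a ≤ a * e := by rw [mul_comm a e]; exact Nat.mul_le_mul_right a he2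
            have h6 : 3 ≤ n - 1 := by omega
            have h7 : n * 3 ≤ n * (n - 1) := Nat.mul_le_mul_left _ h6
            have h8 : e * (2 * a) = 2 * (a * e) := by ring
            omega

theorem two_mul_half (n : ℕ) : n * (n - 1) / 2 * 2 = n * (n - 1) :=
  Nat.div_mul_cancel (Nat.even_mul_pred_self n).two_dvd

/-- from the square bound -/
theorem le_of_sq {a q n : ℕ} (h : a ^ 2 ≤ q ^ (n * (n - 1))) : a ≤ q ^ (n * (n - 1) / 2) := by
  apply le_of_sq_le
  rw [← pow_mul, two_mul_half]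
  exact h

theorem PLU_odd' {r q n : ℕ} (hr : r.Prime) (hr2 : r ≠ 2) (hq : 2 ≤ q) (hrq : ¬ r ∣ q) (hn : 3 ≤ n) {x : ℤ}
    (hx : x = q ∨ x = -(q : ℤ)) {N : ℕ} (hN : N * (x - 1).natAbs = (W x n).natAbs)
    (h3 : r ∣ (x - 1).natAbs → 3 * (x - 1).natAbs ^ 2 ≤ q ^ n ∨ (r ≠ 3 ∧ n = 3 ∧ (x - 1).natAbs ^ 2 ≤ q ^ 3)) :
    P r N ≤ q ^ (n * (n - 1) / 2) := by
  rcases PLU_odd hr hr2 hq hrq hn hx hN with ⟨h, h1⟩ | h
  · have hy0 : (x - 1).natAbs ≠ 0 := by
      have hxa : |x| = q := abs_eq_cases hx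
      have hx2 : 2 ≤ |x| := by rw [hxa]; exact_mod_cast hq
      have := pow_sub_one_ne_zero hx2 (n := 1) one_ne_zero
      rw [pow_one] at this
      exact Int.natAbs_ne_zero.2 this
    rcases h3 h with h4 | ⟨h4, h5, h6⟩
    · apply le_of_sq
      have hr3 : 3 ≤ r := by have := hr.two_le; omega
      calc (P r N) ^ 2 = ((P r (x - 1).natAbs) ^ (n - 1)) ^ 2 * (r ^ padicValNat r n.factorial) ^ 2 := by
            rw [h1, mul_pow]
        _ ≤ ((x - 1).natAbs ^ (n - 1)) ^ 2 * 3 ^ (n - 1) :=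
            Nat.mul_le_mul (Nat.pow_le_pow_left (Nat.pow_le_pow_left (P_le hy0) _) _)
              (pow_val_factorial_le hr hr3 (by omega))
        _ = (3 * (x - 1).natAbs ^ 2) ^ (n - 1) := by
            rw [mul_pow, ← pow_mul, ← pow_mul, mul_comm (n - 1) 2, mul_comm]
        _ ≤ (q ^ n) ^ (n - 1) := Nat.pow_le_pow_left h4 _
        _ = q ^ (n * (n - 1)) := by rw [← pow_mul]
    · subst h5
      have hr5 : 5 ≤ r := by
        have h7 := hr.two_le
        have h8 : r ≠ 4 := by rintro rfl; exact absurd hr (by norm_num)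
        omega
      have h9 : padicValNat r (Nat.factorial 3) = 0 := by
        apply padicValNat.eq_zero_of_not_dvd
        intro h10
        have := (hr.dvd_factorial).1 h10
        omega
      rw [h9, pow_zero, mul_one] at h1
      rw [h1]
      show (P r (x - 1).natAbs) ^ 2 ≤ q ^ 3
      exact (Nat.pow_le_pow_left (P_le hy0) 2).trans h6
  · exact le_of_sq h

/-- `r = 2` -/
theorem PLU_two {q n : ℕ} (hq : 3 ≤ q) (hodd : Odd q) (hn : 3 ≤ n) {x : ℤ}
    (hx : x = q ∨ x = -(q : ℤ)) {N : ℕ} (hN : N * (x - 1).natAbs = (W x n).natAbs) :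
    P 2 N = (P 2 (x - 1).natAbs * P 2 (q ^ 2 - 1)) ^ ((n + 1) / 2 - 1) * (P 2 (q ^ 2 - 1)) ^ (n / 2 + 1 - (n + 1) / 2) *
      2 ^ padicValNat 2 (n / 2).factorial := by
  have hq2 : ¬ 2 ∣ q := fun h => (Nat.not_even_iff_odd.2 hodd) (even_iff_two_dvd.2 h)
  have hxa : |x| = q := abs_eq_cases hx
  have hx2 : 2 ≤ |x| := by rw [hxa]; exact_mod_cast (show 2 ≤ q by omega)
  have hrx : ¬ (2 : ℤ) ∣ x := by
    rcases hx with rfl | rfl
    · exact not_dvd_cast hq2
    · intro h; exact not_dvd_cast (r := 2) hq2 ((dvd_neg).1 h)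
  have hW0 : (W x n).natAbs ≠ 0 := Int.natAbs_ne_zero.2 (W_ne_zero hx2 n)
  have hN0 : N ≠ 0 := by rintro rfl; rw [zero_mul] at hN; exact hW0 hN.symm
  have hy0 : (x - 1).natAbs ≠ 0 := by intro h; rw [h, mul_zero] at hN; exact hW0 hN.symm
  have hP : P 2 N * P 2 (x - 1).natAbs = P 2 (W x n).natAbs := by rw [← P_mul hN0 hy0, hN]
  rw [PW_two hx2 hrx] at hP
  have h1 : (x ^ 2 - 1).natAbs = q ^ 2 - 1 := by
    have h2 : x ^ 2 = (q : ℤ) ^ 2 := by rw [← sq_abs, hxa]
    have h8 : x ^ 2 - 1 = ((q ^ 2 - 1 : ℕ) : ℤ) := by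
      rw [Nat.cast_sub (Nat.one_le_pow _ _ (by omega)), h2]; push_cast; rfl
    rw [h8, Int.natAbs_natCast]
  rw [h1] at hP
  have h6 : 0 < P 2 (x - 1).natAbs := P_pos Nat.prime_two
  apply Nat.eq_of_mul_eq_mul_right h6
  rw [hP, mul_pow]
  obtain ⟨k, hk⟩ : ∃ k, (n + 1) / 2 = k + 1 := ⟨(n + 1) / 2 - 1, by omega⟩
  have h7 : n / 2 = k + (n / 2 + 1 - (n + 1) / 2) := by omega
  have h8 : (P 2 (q ^ 2 - 1)) ^ (n / 2) = (P 2 (q ^ 2 - 1)) ^ k * (P 2 (q ^ 2 - 1)) ^ (n / 2 + 1 - (n + 1) / 2) := by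
    rw [← pow_add, ← h7]
  rw [h8, hk, Nat.add_sub_cancel, pow_succ]
  ring

/-- the product of the `2`-parts of `x - 1` and `x² - 1` -/
theorem P_two_mul {q : ℕ} (hq : 3 ≤ q) (hodd : Odd q) {y z : ℕ} (hyz : (y = q - 1 ∧ z = q + 1) ∨ (y = q + 1 ∧ z = q - 1)) :
    P 2 y * P 2 (q ^ 2 - 1) ≤ 4 * z ∨ P 2 y * P 2 (q ^ 2 - 1) ≤ 2 * y ^ 2 := by
  have h0 : q ^ 2 - 1 = y * z := by
    have h2 : q ^ 2 - 1 = (q - 1) * (q + 1) := by
      obtain ⟨t, rfl⟩ := Nat.exists_eq_add_of_le' (show 1 ≤ q by omega)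
      rw [Nat.add_sub_cancel]
      have : (t + 1) ^ 2 = t * (t + 1 + 1) + 1 := by ring
      rw [this, Nat.add_sub_cancel]
    rcases hyz with ⟨rfl, rfl⟩ | ⟨rfl, rfl⟩
    · exact h2
    · rw [h2, mul_comm]
  have hy0 : y ≠ 0 := by omega
  have hz0 : z ≠ 0 := by omega
  rw [h0, P_mul hy0 hz0]
  obtain ⟨k, hk⟩ := hodd
  have hor : P 2 y = 2 ∨ P 2 z = 2 := by
    have h3 : ∀ j : ℕ, Odd j → P 2 (2 * j) = 2 := by
      intro j hj
      have h4 : 2 * j = 2 ^ 1 * j := by ring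
      rw [h4, P_pow_self Nat.prime_two]
      · norm_num
      · intro h5
        exact (Nat.not_even_iff_odd.2 hj) (even_iff_two_dvd.2 h5)
    rcases Nat.even_or_odd k with hk2 | hk2
    · -- `q + 1 = 2 (k+1)`
      have h5 : q + 1 = 2 * (k + 1) := by omega
      rcases hyz with ⟨hy, hz⟩ | ⟨hy, hz⟩
      · right; rw [hz, h5]; exact h3 _ hk2.add_one
      · left; rw [hy, h5]; exact h3 _ hk2.add_one
    · have h5 : q - 1 = 2 * k := by omega
      rcases hyz with ⟨hy, hz⟩ | ⟨hy, hz⟩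
      · left; rw [hy, h5]; exact h3 _ hk2
      · right; rw [hz, h5]; exact h3 _ hk2
  rcases hor with h | h
  · left
    rw [h]
    have := P_le (r := 2) hz0
    omega
  · right
    rw [h]
    have h5 := P_le (r := 2) hy0
    nlinarith

theorem PLU_two' {q n : ℕ} (hq : 3 ≤ q) (hodd : Odd q) (hn : 3 ≤ n) {x : ℤ}
    (hx : x = q ∨ x = -(q : ℤ)) {N : ℕ} (hN : N * (x - 1).natAbs = (W x n).natAbs)
    (h3 : n = 3 → x = -(q : ℤ) → 5 ≤ q) :
    P 2 N ≤ q ^ (n * (n - 1) / 2) := by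
  have hyz : ((x - 1).natAbs = q - 1 ∧ q + 1 = q + 1) ∨ ((x - 1).natAbs = q + 1 ∧ q - 1 = q - 1) := by
    rcases hx with rfl | rfl
    · left; omega
    · right; omega
  have hmul : P 2 (x - 1).natAbs * P 2 (q ^ 2 - 1) ≤ 2 * (q + 1) ^ 2 := by
    rcases hyz with ⟨h, -⟩ | ⟨h, -⟩
    · rcases P_two_mul hq hodd (Or.inl ⟨h, rfl⟩) with h1 | h1
      · nlinarith
      · refine h1.trans (Nat.mul_le_mul_left 2 (Nat.pow_le_pow_left ?_ 2)); omega
    · rcases P_two_mul hq hodd (Or.inr ⟨h, rfl⟩) with h1 | h1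
      · refine h1.trans ?_
        have : q - 1 ≤ q + 1 := by omega
        nlinarith
      · rw [h] at h1 ⊢; exact h1
  have hB := P_two_sq_sub_one_le hq hodd
  rw [PLU_two hq hodd hn hx hN]
  have hq0 : 0 < q := by omega
  have hqq : 9 ≤ q * q := Nat.mul_le_mul hq hq
  rcases Nat.even_or_odd n with ⟨k, hk⟩ | ⟨k, hk⟩
  · -- `n = 2k`
    have h1 : (n + 1) / 2 - 1 = k - 1 := by omega
    have h2 : n / 2 + 1 - (n + 1) / 2 = 1 := by omega
    have h4 : n / 2 = k := by omega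
    rw [h1, h2, h4, pow_one]
    have hk2 : 2 ≤ k := by omega
    have h5 : 4 * (q + 1) ^ 2 ≤ q ^ 4 := by
      have : 2 * (q + 1) ≤ q ^ 2 := by nlinarith
      calc 4 * (q + 1) ^ 2 = (2 * (q + 1)) ^ 2 := by ring
        _ ≤ (q ^ 2) ^ 2 := Nat.pow_le_pow_left this 2
        _ = q ^ 4 := by ring
    have h6 : 2 * (q + 1) ≤ q ^ 2 := by nlinarith
    calc (P 2 (x - 1).natAbs * P 2 (q ^ 2 - 1)) ^ (k - 1) * P 2 (q ^ 2 - 1) * 2 ^ padicValNat 2 k.factorial
        ≤ (2 * (q + 1) ^ 2) ^ (k - 1) * (q ^ 2) * 2 ^ (k - 1) :=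
          Nat.mul_le_mul (Nat.mul_le_mul (Nat.pow_le_pow_left hmul _) (hB.trans h6)) (pow_val_factorial_two_le (by omega))
      _ = (4 * (q + 1) ^ 2) ^ (k - 1) * q ^ 2 := by
          have : 4 * (q + 1) ^ 2 = (2 * (q + 1) ^ 2) * 2 := by ring
          rw [this, mul_pow (2 * (q + 1) ^ 2) 2]; ring
      _ ≤ (q ^ 4) ^ (k - 1) * q ^ 2 := Nat.mul_le_mul_right _ (Nat.pow_le_pow_left h5 _)
      _ = q ^ (4 * (k - 1) + 2) := by rw [← pow_mul, ← pow_add]
      _ ≤ q ^ (n * (n - 1) / 2) := by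
          apply Nat.pow_le_pow_right hq0
          rw [Nat.le_div_iff_mul_le (by norm_num)]
          obtain ⟨j, rfl⟩ := Nat.exists_eq_add_of_le' hk2
          have h7 : n = 2 * j + 4 := by omega
          have h8 : n - 1 = 2 * j + 3 := by omega
          have h9 : j + 2 - 1 = j + 1 := by omega
          rw [h8, h7, h9]
          nlinarith
  · have h1 : (n + 1) / 2 - 1 = k := by omega
    have h2 : n / 2 + 1 - (n + 1) / 2 = 0 := by omega
    have h4 : n / 2 = k := by omega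
    rw [h1, h2, h4, pow_zero, mul_one]
    have hk1 : 1 ≤ k := by omega
    rcases Nat.lt_or_ge k 2 with hk2 | hk2
    · have hk' : k = 1 := by omega
      subst hk'
      have hn3 : n = 3 := by omega
      rw [pow_one]
      have h5 : padicValNat 2 (Nat.factorial 1) = 0 := by simp
      rw [h5, pow_zero, mul_one, hn3]
      show _ ≤ q ^ 3
      have hq3 : q ^ 3 = q * q * q := by ring
      rcases hx with hx | hx
      · rcases P_two_mul hq hodd (y := (x - 1).natAbs) (z := q + 1) (Or.inl ⟨by omega, rfl⟩) with h6 | h6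
        · refine h6.trans ?_
          rw [hq3]; nlinarith
        · refine h6.trans ?_
          have h7 : (x - 1).natAbs = q - 1 := by omega
          rw [h7, hq3]
          obtain ⟨t, rfl⟩ := Nat.exists_eq_add_of_le' (show 1 ≤ q by omega)
          rw [Nat.add_sub_cancel]
          nlinarith
      · have hq5 := h3 hn3 hx
        refine hmul.trans ?_
        rw [hq3]
        nlinarith [Nat.mul_le_mul hq5 hq5]
    · have h5 : 4 * (q + 1) ^ 2 ≤ q ^ 5 := by
        have h6 : 2 * (q + 1) ≤ q ^ 2 := by nlinarith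
        calc 4 * (q + 1) ^ 2 = (2 * (q + 1)) ^ 2 := by ring
          _ ≤ (q ^ 2) ^ 2 := Nat.pow_le_pow_left h6 2
          _ = q ^ 4 := by ring
          _ ≤ q ^ 5 := Nat.pow_le_pow_right hq0 (by norm_num)
      calc (P 2 (x - 1).natAbs * P 2 (q ^ 2 - 1)) ^ k * 2 ^ padicValNat 2 k.factorial
          ≤ (2 * (q + 1) ^ 2) ^ k * 2 ^ k :=
            Nat.mul_le_mul (Nat.pow_le_pow_left hmul _)
              ((pow_val_factorial_two_le (by omega)).trans (Nat.pow_le_pow_right (by norm_num) (by omega)))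
        _ = (4 * (q + 1) ^ 2) ^ k := by rw [← mul_pow]; congr 1; ring
        _ ≤ (q ^ 5) ^ k := Nat.pow_le_pow_left h5 _
        _ = q ^ (5 * k) := by rw [← pow_mul]
        _ ≤ q ^ (n * (n - 1) / 2) := by
            apply Nat.pow_le_pow_right hq0
            rw [Nat.le_div_iff_mul_le (by norm_num)]
            have h8 : n - 1 = 2 * k := by omega
            rw [h8, hk]
            nlinarith

/-- linear groups -/
theorem PL_le {r q n : ℕ} (hr : r.Prime) (hq : 2 ≤ q) (hrq : ¬ r ∣ q) (hn : 3 ≤ n) :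
    P r (num (.L n) q) ≤ q ^ (n * (n - 1) / 2) := by
  have h1 : num (.L n) q * ((q : ℤ) - 1).natAbs = (W (q : ℤ) n).natAbs := by
    rw [← num_L hq (by omega)]
    congr 1
    omega
  by_cases hr2 : r = 2
  · subst hr2
    have hodd : Odd q := Nat.not_even_iff_odd.1 fun h => hrq h.two_dvd
    have hq3 : 3 ≤ q := by rcases hodd with ⟨k, hk⟩; omega
    refine PLU_two' hq3 hodd hn (Or.inl rfl) h1 ?_
    intro _ h; omega
  · refine PLU_odd' hr hr2 hq hrq hn (Or.inl rfl) h1 ?_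
    intro h
    left
    have h2 : ((q : ℤ) - 1).natAbs = q - 1 := by omega
    rw [h2] at h ⊢
    have h3 : 3 ≤ q - 1 := by
      have := Nat.le_of_dvd (by omega) h
      have := hr.two_le
      omega
    calc 3 * (q - 1) ^ 2 ≤ q * q ^ 2 := Nat.mul_le_mul (by omega) (Nat.pow_le_pow_left (by omega) 2)
      _ = q ^ 3 := by ring
      _ ≤ q ^ n := Nat.pow_le_pow_right (by omega) hn

/-- unitary groups -/
theorem PU_le {r q n : ℕ} (hr : r.Prime) (hq : 2 ≤ q) (hrq : ¬ r ∣ q) (hn : 3 ≤ n)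
    (h32 : n = 3 → 3 ≤ q) (h33 : ¬ (n = 3 ∧ q = 3 ∧ r = 2)) (h42 : ¬ (n = 4 ∧ q = 2 ∧ r = 3)) :
    P r (num (.U n) q) ≤ q ^ (n * (n - 1) / 2) := by
  have h1 : num (.U n) q * (-(q : ℤ) - 1).natAbs = (W (-(q : ℤ)) n).natAbs := by
    rw [← num_U hq (by omega)]
    congr 1
    omega
  by_cases hr2 : r = 2
  · subst hr2
    have hodd : Odd q := Nat.not_even_iff_odd.1 fun h => hrq h.two_dvd
    have hq3 : 3 ≤ q := by rcases hodd with ⟨k, hk⟩; omega
    refine PLU_two' hq3 hodd hn (Or.inr rfl) h1 ?_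
    intro h _
    rcases hodd with ⟨k, hk⟩
    by_contra hcon
    have : q = 3 := by omega
    exact h33 ⟨h, this, rfl⟩
  · refine PLU_odd' hr hr2 hq hrq hn (Or.inr rfl) h1 ?_
    intro h
    have h2 : (-(q : ℤ) - 1).natAbs = q + 1 := by omega
    rw [h2] at h ⊢
    have hr3 : 3 ≤ r := by have := hr.two_le; omega
    rcases Nat.lt_or_ge n 4 with hn4 | hn4
    · have hn3 : n = 3 := by omega
      subst hn3
      have hq3 := h32 rfl
      have hq30 : q ^ 3 = q * q * q := by ring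
      rcases Nat.lt_or_ge q 5 with hq5 | hq5
      · right
        have hq34 : q = 3 ∨ q = 4 := by omega
        rcases hq34 with rfl | rfl
        · exfalso
          have h4 : r ∣ 2 ^ 2 := by simpa using h
          have h5 := hr.dvd_of_dvd_pow h4
          have := Nat.le_of_dvd (by norm_num) h5
          omega
        · refine ⟨?_, rfl, by norm_num⟩
          rintro rfl
          norm_num at h
      · left
        rw [hq30]
        nlinarith [Nat.mul_le_mul hq5 hq5]
    · left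
      rcases Nat.lt_or_ge n 5 with hn5 | hn5
      · have hn4' : n = 4 := by omega
        subst hn4'
        have hq3 : 3 ≤ q := by
          by_contra hcon
          have hq2 : q = 2 := by omega
          subst hq2
          have h4 : r ∣ 3 := by simpa using h
          have h5 : r = 3 := (Nat.prime_dvd_prime_iff_eq hr Nat.prime_three).1 h4
          exact h42 ⟨rfl, rfl, h5⟩
        have h6 : 3 * (q + 1) ^ 2 ≤ (q * q) * (q * q) := by
          have hqq := Nat.mul_le_mul hq3 hq3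
          nlinarith
        calc 3 * (q + 1) ^ 2 ≤ (q * q) * (q * q) := h6
          _ = q ^ 4 := by ring
      · have h6 : 3 * (q + 1) ^ 2 ≤ q ^ 5 := by
          have h7 : 8 ≤ q ^ 3 := by
            calc 8 = 2 ^ 3 := by norm_num
              _ ≤ q ^ 3 := Nat.pow_le_pow_left hq 3
          have h8 : q ^ 5 = q ^ 3 * q ^ 2 := by ring
          rw [h8]
          have h9 : 3 * (q + 1) ^ 2 ≤ 8 * q ^ 2 := by nlinarith
          exact h9.trans (Nat.mul_le_mul_right _ h7)
        exact h6.trans (Nat.pow_le_pow_right (by omega) hn5)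

end Cfsg.Agent.H902.Art
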