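import Mathlib
import Cfsg.Agent.H902.DomAll

/-!
# Sizes and parts of the orders of the groups of Lie type
-/

set_option autoImplicit false

namespace Cfsg.Agent.H902.Art

open Finset Cfsg.Agent.H902.Lte

/-! ### basic consequences of `Real` -/

section basic

variable {X : Sh} {p f M : ℕ}

theorem Real.q_ge (h : Real X p f M) : 2 ≤ p ^ f := by
  exact h.hp.two_le.trans (Nat.le_self_pow (by have := h.hf; omega) p)

theorem Real.D_ne (h : Real X p f M) : ∀ m, (X = .D m ∨ X = .DD m) → m ≠ 0 := by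
  intro m hm
  have := h.ok
  rcases hm with rfl | rfl
  · have h1 : 4 ≤ m := this
    omega
  · have h1 : 4 ≤ m := this
    omega

theorem Real.num_ne (h : Real X p f M) : num X (p ^ f) ≠ 0 := num_ne_zero h.q_ge X h.D_ne

theorem Real.M_ne (h : Real X p f M) : M ≠ 0 := by
  intro h0
  have := h.eq
  rw [h0, mul_zero] at this
  have h1 : (p ^ f) ^ NN X * num X (p ^ f) ≠ 0 :=
    Nat.mul_ne_zero (pow_ne_zero _ (by have := h.q_ge; omega)) h.num_ne
  exact h1 this.symm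

theorem Real.dd_ne (h : Real X p f M) : dd X (p ^ f) ≠ 0 := by
  intro h0
  have := h.eq
  rw [h0, zero_mul] at this
  have h1 : (p ^ f) ^ NN X * num X (p ^ f) ≠ 0 :=
    Nat.mul_ne_zero (pow_ne_zero _ (by have := h.q_ge; omega)) h.num_ne
  exact h1 this.symm

theorem not_dvd_sub_one {p f k : ℕ} (hp : p.Prime) (hf : 1 ≤ f) (hk : k ≠ 0) : ¬ p ∣ (p ^ f) ^ k - 1 := by
  intro h
  have h1 : p ∣ (p ^ f) ^ k := by
    rw [← pow_mul]; exact dvd_pow_self p (Nat.mul_ne_zero (by omega) hk)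
  have h2 : 1 ≤ (p ^ f) ^ k := Nat.one_le_pow _ _ (pow_pos hp.pos _)
  have h3 : p ∣ (p ^ f) ^ k - ((p ^ f) ^ k - 1) := Nat.dvd_sub h1 h
  rw [Nat.sub_sub_self h2] at h3
  exact hp.one_lt.ne' (Nat.dvd_one.1 h3)

theorem not_dvd_add_one {p f k : ℕ} (hp : p.Prime) (hf : 1 ≤ f) (hk : k ≠ 0) : ¬ p ∣ (p ^ f) ^ k + 1 := by
  intro h
  have h1 : p ∣ (p ^ f) ^ k := by
    rw [← pow_mul]; exact dvd_pow_self p (Nat.mul_ne_zero (by omega) hk)
  have h3 : p ∣ 1 := (Nat.dvd_add_right h1).1 h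
  exact hp.one_lt.ne' (Nat.dvd_one.1 h3)

theorem Real.not_dvd_num (h : Real X p f M) : ¬ p ∣ num X (p ^ f) := by
  have hp := h.hp
  have hf := h.hf
  have hs : ∀ k : ℕ, k ≠ 0 → ¬ p ∣ (p ^ f) ^ k - 1 := fun k hk => not_dvd_sub_one hp hf hk
  have ha : ∀ k : ℕ, k ≠ 0 → ¬ p ∣ (p ^ f) ^ k + 1 := fun k hk => not_dvd_add_one hp hf hk
  have h1 : ¬ p ∣ p ^ f - 1 := by have := hs 1 one_ne_zero; rwa [pow_one] at this
  have hm : ∀ {a b : ℕ}, ¬ p ∣ a → ¬ p ∣ b → ¬ p ∣ a * b := fun ha hb h => by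
    rcases hp.dvd_mul.1 h with h | h
    · exact ha h
    · exact hb h
  have hprod : ∀ (s : Finset ℕ) (g : ℕ → ℕ), (∀ i ∈ s, ¬ p ∣ g i) → ¬ p ∣ ∏ i ∈ s, g i := by
    intro s g hg hd
    obtain ⟨i, hi, hd⟩ := (hp.prime.dvd_finsetProd_iff g).1 hd
    exact hg i hi hd
  have hne := h.D_ne
  cases X with
  | L n => exact hprod _ _ fun i _ => hs _ (by omega)
  | C m => exact hprod _ _ fun i _ => hs _ (by omega)
  | U n =>
    refine hprod _ _ fun i _ => ?_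
    split_ifs
    · exact hs _ (by omega)
    · exact ha _ (by omega)
  | D m => exact hm (hs _ (hne m (Or.inl rfl))) (hprod _ _ fun i _ => hs _ (by omega))
  | DD m => exact hm (ha _ (hne m (Or.inr rfl))) (hprod _ _ fun i _ => hs _ (by omega))
  | G2 => exact hm (hs _ (by norm_num)) (hs _ (by norm_num))
  | F4 => exact hm (hm (hm (hs _ (by norm_num)) (hs _ (by norm_num))) (hs _ (by norm_num))) (hs _ (by norm_num))
  | E6 => exact hm (hm (hm (hm (hm (hs _ (by norm_num)) (hs _ (by norm_num))) (hs _ (by norm_num)))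
      (hs _ (by norm_num))) (hs _ (by norm_num))) (hs _ (by norm_num))
  | E7 => exact hm (hm (hm (hm (hm (hm (hs _ (by norm_num)) (hs _ (by norm_num))) (hs _ (by norm_num)))
      (hs _ (by norm_num))) (hs _ (by norm_num))) (hs _ (by norm_num))) (hs _ (by norm_num))
  | E8 => exact hm (hm (hm (hm (hm (hm (hm (hs _ (by norm_num)) (hs _ (by norm_num))) (hs _ (by norm_num)))
      (hs _ (by norm_num))) (hs _ (by norm_num))) (hs _ (by norm_num))) (hs _ (by norm_num))) (hs _ (by norm_num))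
  | TE6 => exact hm (hm (hm (hm (hm (hs _ (by norm_num)) (ha _ (by norm_num))) (hs _ (by norm_num)))
      (hs _ (by norm_num))) (ha _ (by norm_num))) (hs _ (by norm_num))
  | TD4 =>
    refine hm (hm (hs _ (by norm_num)) (hs _ (by norm_num))) ?_
    intro hd
    exact hs 12 (by norm_num) (hd.trans (dvd_twelve h.q_ge))
  | Sz => exact hm h1 (ha _ (by norm_num))
  | Ree => exact hm h1 (ha _ (by norm_num))
  | TF4 => exact hm (hm (hm h1 (ha _ (by norm_num))) (hs _ (by norm_num))) (ha _ (by norm_num))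

theorem Real.not_dvd_dd (h : Real X p f M) : ¬ p ∣ dd X (p ^ f) := by
  have hp := h.hp
  have hf := h.hf
  have hs : ∀ k : ℕ, k ≠ 0 → ¬ p ∣ (p ^ f) ^ k - 1 := fun k hk => not_dvd_sub_one hp hf hk
  have ha : ∀ k : ℕ, k ≠ 0 → ¬ p ∣ (p ^ f) ^ k + 1 := fun k hk => not_dvd_add_one hp hf hk
  have h1 : ¬ p ∣ p ^ f - 1 := by have := hs 1 one_ne_zero; rwa [pow_one] at this
  have h2 : ¬ p ∣ p ^ f + 1 := by have := ha 1 one_ne_zero; rwa [pow_one] at this
  have h11 : ¬ p ∣ 1 := fun h => hp.one_lt.ne' (Nat.dvd_one.1 h)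
  have hne := h.D_ne
  intro hd
  cases X with
  | L n => exact h1 (hd.trans (Nat.gcd_dvd_right _ _))
  | C m => exact h1 (hd.trans (Nat.gcd_dvd_right _ _))
  | U n => exact h2 (hd.trans (Nat.gcd_dvd_right _ _))
  | D m => exact hs _ (hne m (Or.inl rfl)) (hd.trans (Nat.gcd_dvd_right _ _))
  | DD m => exact ha _ (hne m (Or.inr rfl)) (hd.trans (Nat.gcd_dvd_right _ _))
  | G2 => exact h11 hd
  | F4 => exact h11 hd
  | E6 => exact h1 (hd.trans (Nat.gcd_dvd_right _ _))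
  | E7 => exact h1 (hd.trans (Nat.gcd_dvd_right _ _))
  | E8 => exact h11 hd
  | TE6 => exact h2 (hd.trans (Nat.gcd_dvd_right _ _))
  | TD4 => exact h11 hd
  | Sz => exact h11 hd
  | Ree => exact h11 hd
  | TF4 => exact h11 hd

/-- the `p`-part of the order -/
theorem Real.P_self (h : Real X p f M) : P p M = (p ^ f) ^ NN X := by
  have h1 : P p (dd X (p ^ f) * M) = P p M := by
    rw [P_mul h.dd_ne h.M_ne, P_eq_one h.not_dvd_dd, one_mul]
  rw [← h1, h.eq, ← pow_mul, P_pow_self h.hp h.not_dvd_num]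

theorem Real.P_other (h : Real X p f M) {r : ℕ} (hr : r.Prime) (hrp : r ≠ p) :
    P r (dd X (p ^ f)) * P r M = P r (num X (p ^ f)) := by
  rw [← P_mul h.dd_ne h.M_ne, h.eq, P_mul (pow_ne_zero _ (by have := h.q_ge; omega)) h.num_ne, P_eq_one (a := _ ^ _),
    one_mul]
  intro hd
  have h1 := hr.dvd_of_dvd_pow (hr.dvd_of_dvd_pow hd)
  exact hrp ((Nat.prime_dvd_prime_iff_eq hr h.hp).1 h1)

theorem Real.P_other_le (h : Real X p f M) {r : ℕ} (hr : r.Prime) (hrp : r ≠ p) :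
    P r M ≤ P r (num X (p ^ f)) := by
  rw [← h.P_other hr hrp]
  exact Nat.le_mul_of_pos_left _ (P_pos hr)

theorem Real.not_dvd_q (h : Real X p f M) {r : ℕ} (hr : r.Prime) (hrp : r ≠ p) : ¬ r ∣ p ^ f := by
  intro hd
  exact hrp ((Nat.prime_dvd_prime_iff_eq hr h.hp).1 (hr.dvd_of_dvd_pow hd))

theorem Real.M_le (h : Real X p f M) : M ≤ (p ^ f) ^ NN X * num X (p ^ f) := by
  rw [← h.eq]
  exact Nat.le_mul_of_pos_left _ (Nat.pos_of_ne_zero h.dd_ne)

end basic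

/-- **Artin's dominance.** -/
theorem Real.dom {X : Sh} {p f M : ℕ} (h : Real X p f M) (hX : X ≠ .L 2) {r : ℕ} (hr : r.Prime) (hrp : r ≠ p)
    (h33 : ¬ (X = .U 3 ∧ p ^ f = 3 ∧ r = 2)) (h42 : ¬ (X = .U 4 ∧ p ^ f = 2 ∧ r = 3)) :
    P r M ≤ (p ^ f) ^ NN X := by
  have hq := h.q_ge
  have hrq := h.not_dvd_q hr hrp
  have h0 := h.P_other_le hr hrp
  have hok := h.ok
  set q := p ^ f with hqdef
  cases X with
  | L n =>
    have hn : 2 ≤ n := hok.1
    have hn2 : n ≠ 2 := fun h => hX (by rw [h])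
    exact h0.trans (PL_le hr hq hrq (by omega))
  | U n =>
    have hn : 3 ≤ n := hok.1
    refine h0.trans (PU_le hr hq hrq hn hok.2 ?_ ?_)
    · rintro ⟨rfl, h2, h3⟩; exact h33 ⟨rfl, h2, h3⟩
    · rintro ⟨rfl, h2, h3⟩; exact h42 ⟨rfl, h2, h3⟩
  | C m =>
    have hm : 2 ≤ m := hok.1
    show P r M ≤ q ^ (m ^ 2)
    rcases Nat.lt_or_ge m 3 with hm3 | hm3
    · have hm2 : m = 2 := by omega
      subst hm2
      have hq3 : 3 ≤ q := hok.2 rfl
      by_cases hr2 : r = 2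
      · subst hr2
        have hodd : Odd q := Nat.not_even_iff_odd.1 fun h => hrq h.two_dvd
        have h1 := PC_two (m := 2) hq3 hodd (by norm_num)
        have h2 := h.P_other hr hrp
        have h3 : dd (.C 2) (p ^ f) = 2 := by
          rw [← hqdef]
          show Nat.gcd 2 (q - 1) = 2
          rcases hodd with ⟨k, hk⟩
          apply Nat.gcd_eq_left
          exact ⟨k, by omega⟩
        rw [h3] at h2
        have h4 : P 2 2 = 2 := by
          have := P_pow_self (r := 2) (k := 1) (a := 1) Nat.prime_two (by norm_num)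
          simpa using this
        rw [h4] at h2
        have h5 : num (.C 2) (p ^ f) = ∏ i ∈ range 2, (q ^ (2 * (i + 1)) - 1) := rfl
        rw [h5] at h2
        rw [← h2] at h1
        have h6 : 4 * (q + 1) ^ 2 ≤ q ^ 4 := by
          have : 2 * (q + 1) ≤ q ^ 2 := by nlinarith
          calc 4 * (q + 1) ^ 2 = (2 * (q + 1)) ^ 2 := by ring
            _ ≤ (q ^ 2) ^ 2 := Nat.pow_le_pow_left this 2
            _ = q ^ 4 := by ring
        have h7 : (4 * (q + 1)) ^ 2 = 4 * (4 * (q + 1) ^ 2) := by ring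
        rw [h7] at h1
        show P 2 M ≤ q ^ 4
        omega
      · refine h0.trans ?_
        have h5 : num (.C 2) q = ∏ i ∈ range 2, (q ^ (2 * (i + 1)) - 1) := rfl
        rw [h5]
        show _ ≤ q ^ 4
        obtain ⟨e, he, -, h1 | ⟨hem, h1⟩⟩ := PC_odd hr hr2 hq hrq 2
        · rw [h1.2]; exact Nat.one_le_pow _ _ (by omega)
        · apply le_of_sq_le
          refine h1.trans ?_
          have he2 : e = 1 ∨ e = 2 := by omega
          have hqq := Nat.mul_le_mul hq3 hq3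
          rcases he2 with rfl | rfl
          · have h2 : 3 * (q + 1) ^ 4 ≤ q ^ 8 := by
              have h3 : 2 * (q + 1) ≤ q ^ 2 := by nlinarith
              have h4 : (2 * (q + 1)) ^ 4 ≤ (q ^ 2) ^ 4 := Nat.pow_le_pow_left h3 4
              have h6 : (2 * (q + 1)) ^ 4 = 16 * (q + 1) ^ 4 := by ring
              have h7 : (q ^ 2) ^ 4 = q ^ 8 := by ring
              rw [h6, h7] at h4
              omega
            have h8 : ((q ^ 1 + 1) ^ 2) ^ (2 / 1) * 3 ^ (2 / 1 - 1) = 3 * (q + 1) ^ 4 := by norm_num; ring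
            rw [h8]
            calc 3 * (q + 1) ^ 4 ≤ q ^ 8 := h2
              _ = (q ^ 4) ^ 2 := by ring
          · have h8 : ((q ^ 2 + 1) ^ 2) ^ (2 / 2) * 3 ^ (2 / 2 - 1) = (q ^ 2 + 1) ^ 2 := by norm_num
            rw [h8]
            apply Nat.pow_le_pow_left
            have : q ^ 4 = q ^ 2 * q ^ 2 := by ring
            rw [this]
            nlinarith
    · refine h0.trans ((PC_le hr hq hrq m).trans (Nat.pow_le_pow_right (by omega) ?_))
      nlinarith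
  | D m =>
    have hm : 4 ≤ m := hok
    show P r M ≤ q ^ (m * (m - 1))
    have h1 : num (.D m) q ∣ ∏ i ∈ range m, (q ^ (2 * (i + 1)) - 1) := by
      obtain ⟨k, rfl⟩ := Nat.exists_eq_add_of_le' (show 1 ≤ m by omega)
      rw [Finset.prod_range_succ, mul_comm]
      exact mul_dvd_mul (pow_sub_one_dvd (Dvd.intro_left 2 rfl)) dvd_rfl
    refine h0.trans ((P_mono hr ?_ h1).trans ((PC_le hr hq hrq m).trans (Nat.pow_le_pow_right (by omega) ?_)))
    · exact Finset.prod_ne_zero_iff.2 fun i _ => sub_one_ne hq (by omega)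
    · have : 3 ≤ m - 1 := by omega
      nlinarith
  | DD m =>
    have hm : 4 ≤ m := hok
    show P r M ≤ q ^ (m * (m - 1))
    have h1 : num (.DD m) q ∣ ∏ i ∈ range m, (q ^ (2 * (i + 1)) - 1) := by
      obtain ⟨k, rfl⟩ := Nat.exists_eq_add_of_le' (show 1 ≤ m by omega)
      rw [Finset.prod_range_succ, mul_comm]
      exact mul_dvd_mul (pow_add_one_dvd (by omega)) dvd_rfl
    refine h0.trans ((P_mono hr ?_ h1).trans ((PC_le hr hq hrq m).trans (Nat.pow_le_pow_right (by omega) ?_)))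
    · exact Finset.prod_ne_zero_iff.2 fun i _ => sub_one_ne hq (by omega)
    · have : 3 ≤ m - 1 := by omega
      nlinarith
  | G2 => exact h0.trans (PG2_le hr hq hrq)
  | F4 => exact h0.trans (PF4_le hr hq hrq)
  | E6 => exact h0.trans (PE6_le hr hq hrq)
  | E7 => exact h0.trans (PE7_le hr hq hrq)
  | E8 => exact h0.trans (PE8_le hr hq hrq)
  | TE6 => exact h0.trans (PTE6_le hr hq hrq)
  | TD4 => exact h0.trans (PTD4_le hr hq hrq)
  | Sz =>
    obtain ⟨hp2, hodd, hf3⟩ := hok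
    subst hp2
    exact h0.trans (PSz_le hr hrp hodd hf3)
  | Ree =>
    obtain ⟨hp3, hodd, hf3⟩ := hok
    subst hp3
    have hq3 : 3 ≤ q := by
      rw [hqdef]; exact Nat.le_self_pow (by omega) 3
    exact h0.trans (PRee_le hr hq3 (Odd.pow (by decide)))
  | TF4 =>
    obtain ⟨hp2, hodd, hf3⟩ := hok
    subst hp2
    exact h0.trans (PTF4_le hr hrp hq)

/-! ### sizes -/

theorem prodC_le {q : ℕ} (m : ℕ) :
    ∏ i ∈ range m, (q ^ (2 * (i + 1)) - 1) ≤ q ^ (m * (m + 1)) := by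
  induction m with
  | zero => simp
  | succ m ih =>
    rw [Finset.prod_range_succ]
    calc (∏ i ∈ range m, (q ^ (2 * (i + 1)) - 1)) * (q ^ (2 * (m + 1)) - 1)
        ≤ q ^ (m * (m + 1)) * q ^ (2 * (m + 1)) := Nat.mul_le_mul ih (Nat.sub_le _ _)
      _ = q ^ ((m + 1) * (m + 1 + 1)) := by rw [← pow_add]; congr 1; ring

theorem numL_sq_le {q : ℕ} (n : ℕ) : (∏ i ∈ range n, (q ^ (i + 2) - 1)) ^ 2 ≤ q ^ (n * (n + 3)) := by
  induction n with
  | zero => simp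
  | succ n ih =>
    rw [Finset.prod_range_succ, mul_pow]
    calc (∏ i ∈ range n, (q ^ (i + 2) - 1)) ^ 2 * (q ^ (n + 2) - 1) ^ 2
        ≤ q ^ (n * (n + 3)) * (q ^ (n + 2)) ^ 2 := Nat.mul_le_mul ih (Nat.pow_le_pow_left (Nat.sub_le _ _) 2)
      _ = q ^ ((n + 1) * (n + 1 + 3)) := by rw [← pow_mul, ← pow_add]; congr 1; ring

theorem numU_sq_le {q : ℕ} (hq : 2 ≤ q) (n : ℕ) :
    (∏ i ∈ range n, (if Even i then q ^ (i + 2) - 1 else q ^ (i + 2) + 1)) ^ 2 ≤ q ^ (n * (n + 3)) := by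
  have key : ∀ k : ℕ, (∏ i ∈ range (2 * k), (if Even i then q ^ (i + 2) - 1 else q ^ (i + 2) + 1)) ^ 2 ≤
      q ^ (2 * k * (2 * k + 3)) := by
    intro k
    induction k with
    | zero => simp
    | succ k ih =>
      have h1 : 2 * (k + 1) = 2 * k + 1 + 1 := by ring
      rw [h1, Finset.prod_range_succ, Finset.prod_range_succ, if_pos (even_two_mul k),
        if_neg (Nat.not_even_iff_odd.2 (odd_two_mul_add_one k)), mul_assoc, mul_pow]
      have h2 : (q ^ (2 * k + 2) - 1) * (q ^ (2 * k + 1 + 2) + 1) ≤ q ^ (4 * k + 5) := by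
        have h3 : q ^ (2 * k + 1 + 2) = q * q ^ (2 * k + 2) := by ring
        have h4 : q ^ (4 * k + 5) = q * (q ^ (2 * k + 2) * q ^ (2 * k + 2)) := by ring
        rw [h3, h4]
        obtain ⟨t, ht⟩ := Nat.exists_eq_add_of_le' (Nat.one_le_pow (2 * k + 2) q (by omega))
        rw [ht, Nat.add_sub_cancel]
        nlinarith
      calc (∏ i ∈ range (2 * k), (if Even i then q ^ (i + 2) - 1 else q ^ (i + 2) + 1)) ^ 2 *
            ((q ^ (2 * k + 2) - 1) * (q ^ (2 * k + 1 + 2) + 1)) ^ 2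
          ≤ q ^ (2 * k * (2 * k + 3)) * (q ^ (4 * k + 5)) ^ 2 := Nat.mul_le_mul ih (Nat.pow_le_pow_left h2 2)
        _ = q ^ ((2 * k + 1 + 1) * (2 * k + 1 + 1 + 3)) := by rw [← pow_mul, ← pow_add]; congr 1; ring
  rcases Nat.even_or_odd n with ⟨k, hk⟩ | ⟨k, hk⟩
  · have h : n = 2 * k := by omega
    rw [h]; exact key k
  · rw [hk, Finset.prod_range_succ, if_pos (even_two_mul k), mul_pow]
    calc (∏ i ∈ range (2 * k), (if Even i then q ^ (i + 2) - 1 else q ^ (i + 2) + 1)) ^ 2 *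
            (q ^ (2 * k + 2) - 1) ^ 2
          ≤ q ^ (2 * k * (2 * k + 3)) * (q ^ (2 * k + 2)) ^ 2 :=
            Nat.mul_le_mul (key k) (Nat.pow_le_pow_left (Nat.sub_le _ _) 2)
        _ = q ^ ((2 * k + 1) * (2 * k + 1 + 3)) := by rw [← pow_mul, ← pow_add]; congr 1; ring

/-- the cube of the `p'`-part is at most the fifth power of the `p`-part -/
theorem Real.num_cube {X : Sh} {p f M : ℕ} (h : Real X p f M) (hX : X ≠ .L 2) :
    (num X (p ^ f)) ^ 3 ≤ ((p ^ f) ^ NN X) ^ 5 := by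
  have hq := h.q_ge
  have hok := h.ok
  set q := p ^ f with hqdef
  have hq0 : 0 < q := by omega
  have hsub : ∀ k : ℕ, q ^ k - 1 ≤ q ^ k := fun k => Nat.sub_le _ _
  have hadd : ∀ k : ℕ, q ^ k + 1 ≤ q ^ (k + 1) := by
    intro k
    have h1 : 1 ≤ q ^ k := Nat.one_le_pow _ _ hq0
    have h2 : q ^ (k + 1) = q * q ^ k := by ring
    rw [h2]; nlinarith
  -- reduce to an exponent bound
  have fin : ∀ (N k : ℕ), num X q ≤ q ^ k → 3 * k ≤ 5 * N → (num X q) ^ 3 ≤ (q ^ N) ^ 5 := by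
    intro N k h1 h2
    calc (num X q) ^ 3 ≤ (q ^ k) ^ 3 := Nat.pow_le_pow_left h1 3
      _ = q ^ (k * 3) := by rw [← pow_mul]
      _ ≤ q ^ (N * 5) := Nat.pow_le_pow_right hq0 (by omega)
      _ = (q ^ N) ^ 5 := pow_mul q N 5
  cases X with
  | L n =>
    have hn : 2 ≤ n := hok.1
    have hn2 : n ≠ 2 := fun h => hX (by rw [h])
    have h1 := numL_sq_le (q := q) (n - 1)
    apply le_of_sq_le
    show ((num (.L n) q) ^ 3) ^ 2 ≤ ((q ^ (n * (n - 1) / 2)) ^ 5) ^ 2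
    have h2 : ((q ^ (n * (n - 1) / 2)) ^ 5) ^ 2 = q ^ (5 * (n * (n - 1))) := by
      rw [← pow_mul, ← pow_mul]; congr 1; have := two_mul_half n; omega
    rw [h2]
    calc ((num (.L n) q) ^ 3) ^ 2 = ((num (.L n) q) ^ 2) ^ 3 := by rw [← pow_mul, ← pow_mul]
      _ ≤ (q ^ ((n - 1) * (n - 1 + 3))) ^ 3 := Nat.pow_le_pow_left h1 3
      _ = q ^ ((n - 1) * (n - 1 + 3) * 3) := by rw [← pow_mul]
      _ ≤ q ^ (5 * (n * (n - 1))) := by
        apply Nat.pow_le_pow_right hq0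
        obtain ⟨k, rfl⟩ := Nat.exists_eq_add_of_le' (show 3 ≤ n by omega)
        have : k + 3 - 1 = k + 2 := by omega
        rw [this]; nlinarith
  | U n =>
    have hn : 3 ≤ n := hok.1
    have h1 := numU_sq_le hq (n - 1)
    apply le_of_sq_le
    show ((num (.U n) q) ^ 3) ^ 2 ≤ ((q ^ (n * (n - 1) / 2)) ^ 5) ^ 2
    have h2 : ((q ^ (n * (n - 1) / 2)) ^ 5) ^ 2 = q ^ (5 * (n * (n - 1))) := by
      rw [← pow_mul, ← pow_mul]; congr 1; have := two_mul_half n; omega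
    rw [h2]
    calc ((num (.U n) q) ^ 3) ^ 2 = ((num (.U n) q) ^ 2) ^ 3 := by rw [← pow_mul, ← pow_mul]
      _ ≤ (q ^ ((n - 1) * (n - 1 + 3))) ^ 3 := Nat.pow_le_pow_left h1 3
      _ = q ^ ((n - 1) * (n - 1 + 3) * 3) := by rw [← pow_mul]
      _ ≤ q ^ (5 * (n * (n - 1))) := by
        apply Nat.pow_le_pow_right hq0
        obtain ⟨k, rfl⟩ := Nat.exists_eq_add_of_le' (show 3 ≤ n by omega)
        have : k + 3 - 1 = k + 2 := by omega
        rw [this]; nlinarith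
  | C m =>
    have hm : 2 ≤ m := hok.1
    refine fin (m ^ 2) (m * (m + 1)) (prodC_le m) ?_
    nlinarith
  | D m =>
    have hm : 4 ≤ m := hok
    obtain ⟨k, rfl⟩ := Nat.exists_eq_add_of_le' (show 1 ≤ m by omega)
    have h1 : num (.D (k + 1)) q ≤ q ^ (k + 1) * q ^ (k * (k + 1)) := Nat.mul_le_mul (hsub _) (prodC_le k)
    rw [← pow_add] at h1
    refine fin ((k + 1) * k) (k + 1 + k * (k + 1)) h1 ?_
    nlinarith
  | DD m =>
    have hm : 4 ≤ m := hok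
    obtain ⟨k, rfl⟩ := Nat.exists_eq_add_of_le' (show 1 ≤ m by omega)
    have h1 : num (.DD (k + 1)) q ≤ q ^ (k + 1 + 1) * q ^ (k * (k + 1)) := Nat.mul_le_mul (hadd _) (prodC_le k)
    rw [← pow_add] at h1
    refine fin ((k + 1) * k) (k + 1 + 1 + k * (k + 1)) h1 ?_
    nlinarith
  | G2 =>
    refine fin 6 8 ?_ (by norm_num)
    calc (q ^ 2 - 1) * (q ^ 6 - 1) ≤ q ^ 2 * q ^ 6 := Nat.mul_le_mul (hsub _) (hsub _)
      _ = q ^ 8 := by ring
  | F4 =>
    refine fin 24 28 ?_ (by norm_num)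
    calc (q ^ 2 - 1) * (q ^ 6 - 1) * (q ^ 8 - 1) * (q ^ 12 - 1) ≤ q ^ 2 * q ^ 6 * q ^ 8 * q ^ 12 :=
          Nat.mul_le_mul (Nat.mul_le_mul (Nat.mul_le_mul (hsub _) (hsub _)) (hsub _)) (hsub _)
      _ = q ^ 28 := by ring
  | E6 =>
    refine fin 36 42 ?_ (by norm_num)
    calc (q ^ 2 - 1) * (q ^ 5 - 1) * (q ^ 6 - 1) * (q ^ 8 - 1) * (q ^ 9 - 1) * (q ^ 12 - 1) ≤
          q ^ 2 * q ^ 5 * q ^ 6 * q ^ 8 * q ^ 9 * q ^ 12 :=
          Nat.mul_le_mul (Nat.mul_le_mul (Nat.mul_le_mul (Nat.mul_le_mul (Nat.mul_le_mul (hsub _) (hsub _)) (hsub _))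
            (hsub _)) (hsub _)) (hsub _)
      _ = q ^ 42 := by ring
  | E7 =>
    refine fin 63 70 ?_ (by norm_num)
    calc (q ^ 2 - 1) * (q ^ 6 - 1) * (q ^ 8 - 1) * (q ^ 10 - 1) * (q ^ 12 - 1) * (q ^ 14 - 1) * (q ^ 18 - 1) ≤
          q ^ 2 * q ^ 6 * q ^ 8 * q ^ 10 * q ^ 12 * q ^ 14 * q ^ 18 :=
          Nat.mul_le_mul (Nat.mul_le_mul (Nat.mul_le_mul (Nat.mul_le_mul (Nat.mul_le_mul (Nat.mul_le_mul
            (hsub _) (hsub _)) (hsub _)) (hsub _)) (hsub _)) (hsub _)) (hsub _)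
      _ = q ^ 70 := by ring
  | E8 =>
    refine fin 120 128 ?_ (by norm_num)
    calc (q ^ 2 - 1) * (q ^ 8 - 1) * (q ^ 12 - 1) * (q ^ 14 - 1) * (q ^ 18 - 1) * (q ^ 20 - 1) * (q ^ 24 - 1) *
          (q ^ 30 - 1) ≤ q ^ 2 * q ^ 8 * q ^ 12 * q ^ 14 * q ^ 18 * q ^ 20 * q ^ 24 * q ^ 30 :=
          Nat.mul_le_mul (Nat.mul_le_mul (Nat.mul_le_mul (Nat.mul_le_mul (Nat.mul_le_mul (Nat.mul_le_mul
            (Nat.mul_le_mul (hsub _) (hsub _)) (hsub _)) (hsub _)) (hsub _)) (hsub _)) (hsub _)) (hsub _)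
      _ = q ^ 128 := by ring
  | TE6 =>
    refine fin 36 44 ?_ (by norm_num)
    calc (q ^ 2 - 1) * (q ^ 5 + 1) * (q ^ 6 - 1) * (q ^ 8 - 1) * (q ^ 9 + 1) * (q ^ 12 - 1) ≤
          q ^ 2 * q ^ (5 + 1) * q ^ 6 * q ^ 8 * q ^ (9 + 1) * q ^ 12 :=
          Nat.mul_le_mul (Nat.mul_le_mul (Nat.mul_le_mul (Nat.mul_le_mul (Nat.mul_le_mul (hsub _) (hadd _)) (hsub _))
            (hsub _)) (hadd _)) (hsub _)
      _ = q ^ 44 := by ring
  | TD4 =>
    refine fin 12 17 ?_ (by norm_num)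
    have h1 : q ^ 8 + q ^ 4 + 1 ≤ q ^ 9 := by
      have h2 := hadd 4
      have h3 : q ^ (4 + 1) ≤ q ^ 8 := Nat.pow_le_pow_right hq0 (by norm_num)
      have h4 : q ^ 9 = q * q ^ 8 := by ring
      have h5 : 2 * q ^ 8 ≤ q * q ^ 8 := Nat.mul_le_mul_right _ hq
      rw [h4]; omega
    calc (q ^ 2 - 1) * (q ^ 6 - 1) * (q ^ 8 + q ^ 4 + 1) ≤ q ^ 2 * q ^ 6 * q ^ 9 :=
          Nat.mul_le_mul (Nat.mul_le_mul (hsub _) (hsub _)) h1
      _ = q ^ 17 := by ring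
  | Sz =>
    refine fin 2 3 ?_ (by norm_num)
    show (q - 1) * (q ^ 2 + 1) ≤ q ^ 3
    obtain ⟨t, ht⟩ := Nat.exists_eq_add_of_le' (show 1 ≤ q by omega)
    rw [ht, Nat.add_sub_cancel]
    nlinarith
  | Ree =>
    refine fin 3 4 ?_ (by norm_num)
    show (q - 1) * (q ^ 3 + 1) ≤ q ^ 4
    have h1 : (q - 1) * (q ^ 3 + 1) + q ^ 3 + 1 = q ^ 4 + q := by
      have : 1 ≤ q := by omega
      zify [this]; ring
    have h2 : q ^ 1 ≤ q ^ 3 := Nat.pow_le_pow_right hq0 (by norm_num)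
    rw [pow_one] at h2
    omega
  | TF4 =>
    refine fin 12 15 ?_ (by norm_num)
    have h0 : (q - 1) * (q ^ 3 + 1) ≤ q ^ 4 := by
      have h1 : (q - 1) * (q ^ 3 + 1) + q ^ 3 + 1 = q ^ 4 + q := by
        have : 1 ≤ q := by omega
        zify [this]; ring
      have h2 : q ^ 1 ≤ q ^ 3 := Nat.pow_le_pow_right hq0 (by norm_num)
      rw [pow_one] at h2
      omega
    calc (q - 1) * (q ^ 3 + 1) * (q ^ 4 - 1) * (q ^ 6 + 1) ≤ q ^ 4 * q ^ 4 * q ^ (6 + 1) :=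
          Nat.mul_le_mul (Nat.mul_le_mul h0 (hsub _)) (hadd _)
      _ = q ^ 15 := by ring

/-- `M³ ≤ (M_p)⁸` unless `X = L₂` -/
theorem Real.cube {X : Sh} {p f M : ℕ} (h : Real X p f M) (hX : X ≠ .L 2) : M ^ 3 ≤ (P p M) ^ 8 := by
  rw [h.P_self]
  calc M ^ 3 ≤ ((p ^ f) ^ NN X * num X (p ^ f)) ^ 3 := Nat.pow_le_pow_left h.M_le 3
    _ = ((p ^ f) ^ NN X) ^ 3 * (num X (p ^ f)) ^ 3 := mul_pow _ _ _
    _ ≤ ((p ^ f) ^ NN X) ^ 3 * ((p ^ f) ^ NN X) ^ 5 := Nat.mul_le_mul_left _ (h.num_cube hX)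
    _ = ((p ^ f) ^ NN X) ^ 8 := by rw [← pow_add]

theorem NN_pos {X : Sh} {p f M : ℕ} (h : Real X p f M) : 1 ≤ NN X := by
  have hok := h.ok
  cases X with
  | L n =>
    have hn : 2 ≤ n := hok.1
    show 1 ≤ n * (n - 1) / 2
    rw [Nat.le_div_iff_mul_le (by norm_num)]
    have : 1 ≤ n - 1 := by omega
    nlinarith
  | U n =>
    have hn : 3 ≤ n := hok.1
    show 1 ≤ n * (n - 1) / 2
    rw [Nat.le_div_iff_mul_le (by norm_num)]
    have : 1 ≤ n - 1 := by omega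
    nlinarith
  | C m => have hm : 2 ≤ m := hok.1; show 1 ≤ m ^ 2; nlinarith
  | D m => have hm : 4 ≤ m := hok; show 1 ≤ m * (m - 1); have : 1 ≤ m - 1 := by omega
           nlinarith
  | DD m => have hm : 4 ≤ m := hok; show 1 ≤ m * (m - 1); have : 1 ≤ m - 1 := by omega
            nlinarith
  | G2 => show 1 ≤ 6; norm_num
  | F4 => show 1 ≤ 24; norm_num
  | E6 => show 1 ≤ 36; norm_num
  | E7 => show 1 ≤ 63; norm_num
  | E8 => show 1 ≤ 120; norm_num
  | TE6 => show 1 ≤ 36; norm_num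
  | TD4 => show 1 ≤ 12; norm_num
  | Sz => show 1 ≤ 2; norm_num
  | Ree => show 1 ≤ 3; norm_num
  | TF4 => show 1 ≤ 12; norm_num

/-- `M < (M_p)³` -/
theorem Real.lt_cube {X : Sh} {p f M : ℕ} (h : Real X p f M) : M < (P p M) ^ 3 := by
  have hq := h.q_ge
  by_cases hX : X = .L 2
  · subst hX
    rw [h.P_self]
    show M < ((p ^ f) ^ 1) ^ 3
    rw [pow_one]
    refine h.M_le.trans_lt ?_
    show (p ^ f) ^ 1 * (∏ i ∈ range 1, ((p ^ f) ^ (i + 2) - 1)) < _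
    rw [Finset.prod_range_one, pow_one, zero_add]
    have h1 : 1 ≤ (p ^ f) ^ 2 := Nat.one_le_pow _ _ (by omega)
    calc p ^ f * ((p ^ f) ^ 2 - 1) < p ^ f * (p ^ f) ^ 2 := Nat.mul_lt_mul_of_pos_left (by omega) (by omega)
      _ = (p ^ f) ^ 3 := by ring
  · have h1 := h.cube hX
    have h2 : 2 ≤ P p M := by
      rw [h.P_self]
      exact hq.trans (Nat.le_self_pow (by have := NN_pos h; omega) _)
    by_contra hcon
    push Not at hcon
    have h3 : (P p M) ^ 9 ≤ (P p M) ^ 8 := by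
      calc (P p M) ^ 9 = ((P p M) ^ 3) ^ 3 := by ring
        _ ≤ M ^ 3 := Nat.pow_le_pow_left hcon 3
        _ ≤ _ := h1
    have h4 : (P p M) ^ 8 < (P p M) ^ 9 := Nat.pow_lt_pow_right (by omega) (by norm_num)
    omega

end Cfsg.Agent.H902.Art
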