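import Mathlib
import Cfsg.Agent.H902.Zs

/-!
# Equal characteristic: reduction to a few pairs of shapes
-/

set_option autoImplicit false

namespace Cfsg.Agent.H902.Art

/-- `4 NN = DM · kap` -/
def kap : Sh → ℕ
  | .L n => 2 * (n - 1)
  | .C m => 2 * m
  | .U n => if Even n then n else n - 1
  | .D m => 2 * m
  | .DD m => 2 * (m - 1)
  | .G2 => 4
  | .F4 => 8
  | .E6 => 12
  | .E7 => 14
  | .E8 => 16
  | .TE6 => 8
  | .TD4 => 4
  | .Sz => 2
  | .Ree => 2
  | .TF4 => 4

theorem four_NN {X : Sh} {p f M : ℕ} (h : Real X p f M) : 4 * NN X = DM X * kap X := by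
  have hok := h.ok
  cases X with
  | L n =>
    have hn : 2 ≤ n := hok.1
    show 4 * (n * (n - 1) / 2) = n * (2 * (n - 1))
    have h1 := two_mul_half n
    have h2 : n * (2 * (n - 1)) = 2 * (n * (n - 1)) := by ring
    omega
  | C m => show 4 * m ^ 2 = 2 * m * (2 * m); ring
  | U n =>
    have hn : 3 ≤ n := hok.1
    show 4 * (n * (n - 1) / 2) = (if Even n then 2 * (n - 1) else 2 * n) * (if Even n then n else n - 1)
    have h1 := two_mul_half n
    split_ifs
    · have h2 : 2 * (n - 1) * n = 2 * (n * (n - 1)) := by ring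
      omega
    · have h2 : 2 * n * (n - 1) = 2 * (n * (n - 1)) := by ring
      omega
  | D m => show 4 * (m * (m - 1)) = 2 * (m - 1) * (2 * m); ring
  | DD m => show 4 * (m * (m - 1)) = 2 * m * (2 * (m - 1)); ring
  | G2 => rfl
  | F4 => rfl
  | E6 => rfl
  | E7 => rfl
  | E8 => rfl
  | TE6 => rfl
  | TD4 => rfl
  | Sz => rfl
  | Ree => rfl
  | TF4 => rfl

theorem BM_lt {X : Sh} {p f M : ℕ} (h : Real X p f M) : BM X < DM X := by
  have hok := h.ok
  cases X with
  | L n => have hn : 2 ≤ n := hok.1; show n - 1 < n; omega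
  | C m => have hn : 2 ≤ m := hok.1; show 2 * (m - 1) < 2 * m; omega
  | U n =>
    have hn : 3 ≤ n := hok.1
    show (if Even n then (if n = 4 then 4 else 2 * (n - 3)) else 2 * (n - 2)) < if Even n then 2 * (n - 1) else 2 * n
    split_ifs <;> omega
  | D m => have hn : 4 ≤ m := hok; show 2 * (m - 2) < 2 * (m - 1); omega
  | DD m => have hn : 4 ≤ m := hok; show 2 * (m - 1) < 2 * m; omega
  | G2 => decide
  | F4 => decide
  | E6 => decide
  | E7 => decide
  | E8 => decide
  | TE6 => decide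
  | TD4 => decide
  | Sz => decide
  | Ree => decide
  | TF4 => decide

/-- the pairs of shapes with two exponents that need a closer look -/
def SpecA (X Y : Sh) : Prop :=
  (∃ n, 4 ≤ n ∧ X = .L n ∧ Y = .DD n) ∨ (X = .L 3 ∧ Y = .U 4) ∨ (X = .D 4 ∧ Y = .F4) ∨ (X = .D 4 ∧ Y = .TE6) ∨
    (X = .F4 ∧ Y = .TE6)

/-- the pairs of shapes with one exponent that need a closer look -/
def SpecB (X Y : Sh) : Prop :=
  (X = .L 2 ∧ Y = .U 3) ∨ (X = .L 2 ∧ Y = .Sz) ∨ (X = .L 2 ∧ Y = .Ree) ∨ (X = .U 3 ∧ Y = .Ree) ∨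
    (X = .U 3 ∧ Y = .Sz) ∨ (X = .Sz ∧ Y = .Ree) ∨ (X = .C 2 ∧ Y = .G2) ∨ (X = .C 2 ∧ Y = .TD4) ∨
    (X = .C 2 ∧ Y = .TF4) ∨ (X = .G2 ∧ Y = .TD4) ∨ (X = .G2 ∧ Y = .TF4) ∨ (X = .TD4 ∧ Y = .TF4)

/-- the shapes with at least two large exponents: a numerical description -/
inductive TypA : Sh → ℕ → ℕ → ℕ → Prop
  | L (n : ℕ) (h : 3 ≤ n) : TypA (.L n) n 1 (2 * n - 2)
  | C (n : ℕ) (h : 3 ≤ n) : TypA (.C n) (2 * n) 2 (2 * n)
  | U4 : TypA (.U 4) 6 2 4
  | Ue (n : ℕ) (h : 3 ≤ n) : TypA (.U (2 * n)) (4 * n - 2) 4 (2 * n)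
  | Uo (n : ℕ) (h : 2 ≤ n) : TypA (.U (2 * n + 1)) (4 * n + 2) 4 (2 * n)
  | D (n : ℕ) (h : 4 ≤ n) : TypA (.D n) (2 * n - 2) 2 (2 * n)
  | DD (n : ℕ) (h : 4 ≤ n) : TypA (.DD n) (2 * n) 2 (2 * n - 2)
  | F4 : TypA .F4 12 4 8
  | E6 : TypA .E6 12 3 12
  | E7 : TypA .E7 18 4 14
  | E8 : TypA .E8 30 6 16
  | TE6 : TypA .TE6 18 6 8

theorem typA {X : Sh} {p f M : ℕ} (h : Real X p f M) (hB : DM X < 2 * BM X) :
    TypA X (DM X) (DM X - BM X) (kap X) := by
  have hok := h.ok
  cases X with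
  | L n =>
    have hn : 2 ≤ n := hok.1
    have hB' : n < 2 * (n - 1) := hB
    have h1 := TypA.L n (by omega)
    have h2 : DM (.L n) - BM (.L n) = 1 := by show n - (n - 1) = 1; omega
    have h3 : kap (.L n) = 2 * n - 2 := by show 2 * (n - 1) = 2 * n - 2; omega
    rw [h2, h3]; exact h1
  | C n =>
    have hn : 2 ≤ n := hok.1
    have hB' : 2 * n < 2 * (2 * (n - 1)) := hB
    have h1 := TypA.C n (by omega)
    have h2 : DM (.C n) - BM (.C n) = 2 := by show 2 * n - 2 * (n - 1) = 2; omega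
    rw [h2]; exact h1
  | U n =>
    have hn : 3 ≤ n := hok.1
    have hDM : DM (.U n) = if Even n then 2 * (n - 1) else 2 * n := rfl
    have hBM : BM (.U n) = if Even n then (if n = 4 then 4 else 2 * (n - 3)) else 2 * (n - 2) := rfl
    have hK : kap (.U n) = if Even n then n else n - 1 := rfl
    by_cases he : Even n
    · rw [if_pos he] at hDM hBM hK
      by_cases h4 : n = 4
      · subst h4; exact TypA.U4
      · rw [if_neg h4] at hBM
        obtain ⟨k, hk⟩ := he
        have hk2 : n = 2 * k := by omega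
        subst hk2
        have h1 := TypA.Ue k (by omega)
        have h2 : DM (.U (2 * k)) - BM (.U (2 * k)) = 4 := by rw [hDM, hBM]; omega
        have h3 : DM (.U (2 * k)) = 4 * k - 2 := by rw [hDM]; omega
        rw [h2, h3, hK]; exact h1
    · rw [if_neg he] at hDM hBM hK
      obtain ⟨k, hk⟩ := Nat.not_even_iff_odd.1 he
      subst hk
      rw [hDM, hBM] at hB
      have h1 := TypA.Uo k (by omega)
      have h2 : DM (.U (2 * k + 1)) - BM (.U (2 * k + 1)) = 4 := by rw [hDM, hBM]; omega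
      have h3 : DM (.U (2 * k + 1)) = 4 * k + 2 := by rw [hDM]; omega
      have h4 : kap (.U (2 * k + 1)) = 2 * k := by rw [hK]; omega
      rw [h2, h3, h4]; exact h1
  | D n =>
    have hn : 4 ≤ n := hok
    have h1 := TypA.D n hn
    have h2 : DM (.D n) - BM (.D n) = 2 := by show 2 * (n - 1) - 2 * (n - 2) = 2; omega
    have h3 : DM (.D n) = 2 * n - 2 := by show 2 * (n - 1) = 2 * n - 2; omega
    rw [h2, h3]; exact h1
  | DD n =>
    have hn : 4 ≤ n := hok
    have h1 := TypA.DD n hn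
    have h2 : DM (.DD n) - BM (.DD n) = 2 := by show 2 * n - 2 * (n - 1) = 2; omega
    have h3 : kap (.DD n) = 2 * n - 2 := by show 2 * (n - 1) = 2 * n - 2; omega
    rw [h2, h3]; exact h1
  | G2 => exact absurd hB (by decide)
  | F4 => exact TypA.F4
  | E6 => exact TypA.E6
  | E7 => exact TypA.E7
  | E8 => exact TypA.E8
  | TE6 => exact TypA.TE6
  | TD4 => exact absurd hB (by decide)
  | Sz => exact absurd hB (by decide)
  | Ree => exact absurd hB (by decide)
  | TF4 => exact absurd hB (by decide)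

theorem pairsA {X Y : Sh} {D d k D' d' k' : ℕ} (hX : TypA X D d k) (hY : TypA Y D' d' k') (hk : k = k')
    (hD : D * d' = D' * d) : X = Y ∨ SpecA X Y ∨ SpecA Y X := by
  cases hX <;> cases hY <;>
    first
      | exact Or.inl rfl
      | (exfalso; omega)
      | (left; congr 1; omega)
      | (left; congr 1; done)
      | (right; left; unfold SpecA; simp; omega)
      | (right; right; unfold SpecA; simp; omega)
      | (right; left; unfold SpecA; simp; done)
      | (right; right; unfold SpecA; simp; done)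

/-- the shapes with only one large exponent -/
inductive TypB : Sh → ℕ → ℕ → Prop
  | L2 : TypB (.L 2) 2 2
  | C2 : TypB (.C 2) 4 4
  | U3 : TypB (.U 3) 6 2
  | G2 : TypB .G2 6 4
  | TD4 : TypB .TD4 12 4
  | Sz : TypB .Sz 4 2
  | Ree : TypB .Ree 6 2
  | TF4 : TypB .TF4 12 4

theorem typB {X : Sh} {p f M : ℕ} (h : Real X p f M) (hB : ¬ DM X < 2 * BM X) :
    TypB X (DM X) (kap X) := by
  have hok := h.ok
  cases X with
  | L n =>
    have hn : 2 ≤ n := hok.1
    have hB' : ¬ n < 2 * (n - 1) := hB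
    have : n = 2 := by omega
    subst this; exact TypB.L2
  | C n =>
    have hn : 2 ≤ n := hok.1
    have hB' : ¬ 2 * n < 2 * (2 * (n - 1)) := hB
    have : n = 2 := by omega
    subst this; exact TypB.C2
  | U n =>
    have hn : 3 ≤ n := hok.1
    have hDM : DM (.U n) = if Even n then 2 * (n - 1) else 2 * n := rfl
    have hBM : BM (.U n) = if Even n then (if n = 4 then 4 else 2 * (n - 3)) else 2 * (n - 2) := rfl
    rw [hDM, hBM] at hB
    have : n = 3 := by
      split_ifs at hB with h1 h2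
      · omega
      · obtain ⟨k, hk⟩ := h1; omega
      · obtain ⟨k, hk⟩ := Nat.not_even_iff_odd.1 h1; omega
    subst this
    exact TypB.U3
  | D n =>
    have hn : 4 ≤ n := hok
    have hB' : ¬ 2 * (n - 1) < 2 * (2 * (n - 2)) := hB
    omega
  | DD n =>
    have hn : 4 ≤ n := hok
    have hB' : ¬ 2 * n < 2 * (2 * (n - 1)) := hB
    omega
  | G2 => exact TypB.G2
  | F4 => exact absurd (by decide) hB
  | E6 => exact absurd (by decide) hB
  | E7 => exact absurd (by decide) hB
  | E8 => exact absurd (by decide) hB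
  | TE6 => exact absurd (by decide) hB
  | TD4 => exact TypB.TD4
  | Sz => exact TypB.Sz
  | Ree => exact TypB.Ree
  | TF4 => exact TypB.TF4

theorem pairsB {X Y : Sh} {D k D' k' : ℕ} (hX : TypB X D k) (hY : TypB Y D' k') (hk : k = k') :
    X = Y ∨ SpecB X Y ∨ SpecB Y X := by
  cases hX <;> cases hY <;>
    first
      | exact Or.inl rfl
      | (exfalso; omega)
      | (right; left; unfold SpecB; simp; done)
      | (right; right; unfold SpecB; simp; done)

end Cfsg.Agent.H902.Art
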