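import Mathlib
import Cfsg.Agent.H902.SameA

/-!
# Equal characteristic: the special pairs of shapes
-/

set_option autoImplicit false

namespace Cfsg.Agent.H902.Art

open Finset

theorem cross {X Y : Sh} {p f g M : ℕ} (hX : Real X p f M) (hY : Real Y p g M) :
    dd Y (p ^ g) * num X (p ^ f) = dd X (p ^ f) * num Y (p ^ g) := by
  have h1 := hX.P_self
  have h2 := hY.P_self
  have h3 : (p ^ f) ^ NN X = (p ^ g) ^ NN Y := by rw [← h1, ← h2]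
  have h4 := hX.eq
  have h5 := hY.eq
  rw [← h3] at h5
  have hA : 0 < (p ^ f) ^ NN X := pow_pos (by have := hX.q_ge; omega) _
  apply Nat.eq_of_mul_eq_mul_left hA
  calc (p ^ f) ^ NN X * (dd Y (p ^ g) * num X (p ^ f)) = dd Y (p ^ g) * ((p ^ f) ^ NN X * num X (p ^ f)) := by ring
    _ = dd Y (p ^ g) * (dd X (p ^ f) * M) := by rw [h4]
    _ = dd X (p ^ f) * (dd Y (p ^ g) * M) := by ring
    _ = dd X (p ^ f) * ((p ^ f) ^ NN X * num Y (p ^ g)) := by rw [h5]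
    _ = (p ^ f) ^ NN X * (dd X (p ^ f) * num Y (p ^ g)) := by ring

theorem gcd3 (a : ℕ) : Nat.gcd 3 a = 1 ∨ Nat.gcd 3 a = 3 := (Nat.dvd_prime Nat.prime_three).1 (Nat.gcd_dvd_left 3 a)

theorem gcd2 (a : ℕ) : Nat.gcd 2 a = 1 ∨ Nat.gcd 2 a = 2 := (Nat.dvd_prime Nat.prime_two).1 (Nat.gcd_dvd_left 2 a)

theorem gcd4_pos (a : ℕ) : 1 ≤ Nat.gcd 4 a := Nat.gcd_pos_of_pos_left _ (by norm_num)

theorem gcd4_le (a : ℕ) : Nat.gcd 4 a ≤ 4 := Nat.gcd_le_left _ (by norm_num)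

/-- `t ≥ 2`, and all powers are at least one -/
theorem pow_split {t a b : ℕ} (ht : 2 ≤ t) (hb : 1 ≤ b) (hab : b ≤ a) : 2 * t ^ (a - b) ≤ t ^ a := by
  have h : t ^ a = t ^ b * t ^ (a - b) := by rw [← pow_add]; congr 1; omega
  rw [h]
  have : 2 ≤ t ^ b := ht.trans (Nat.le_self_pow (by omega) t)
  exact Nat.mul_le_mul_right _ this

section arith

variable {t : ℕ}

/-- `ddU (t^6 - 1) = ddL (t² - 1)(t³ + 1)` -/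
theorem ar_L3U4 (ht : 2 ≤ t) {a b : ℕ} (ha : 1 ≤ a) (hb : b = 1 ∨ b = 3)
    (h : a * (((t ^ 2) ^ 2 - 1) * ((t ^ 2) ^ 3 - 1)) = b * ((t ^ 2 - 1) * (t ^ 3 + 1) * (t ^ 4 - 1))) : False := by
  obtain ⟨s, rfl⟩ := Nat.exists_eq_add_of_le' ht
  have e1 : ((s + 2) ^ 2) ^ 2 - 1 = (s + 2) ^ 4 - 1 := by ring_nf
  have e2 : ((s + 2) ^ 2) ^ 3 - 1 = ((s + 2) ^ 3 - 1) * ((s + 2) ^ 3 + 1) := by
    have : 1 ≤ (s + 2) ^ 3 := Nat.one_le_pow _ _ (by omega)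
    have h6 : 1 ≤ ((s + 2) ^ 2) ^ 3 := Nat.one_le_pow _ _ (by positivity)
    zify [this, h6]; ring
  rw [e1, e2] at h
  have hc : 0 < ((s + 2) ^ 4 - 1) * ((s + 2) ^ 3 + 1) := by
    have := sub_one_ne (q := s + 2) (k := 4) (by omega) (by norm_num)
    positivity
  have h1 : a * ((s + 2) ^ 3 - 1) = b * ((s + 2) ^ 2 - 1) := by
    apply Nat.eq_of_mul_eq_mul_right hc
    calc _ = a * (((s + 2) ^ 4 - 1) * (((s + 2) ^ 3 - 1) * ((s + 2) ^ 3 + 1))) := by ring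
      _ = _ := h
      _ = _ := by ring
  have e3 : (s + 2) ^ 3 - 1 = (s + 1) * (s ^ 2 + 5 * s + 7) := by
    have : 1 ≤ (s + 2) ^ 3 := Nat.one_le_pow _ _ (by omega)
    zify [this]; ring
  have e4 : (s + 2) ^ 2 - 1 = (s + 1) * (s + 3) := by
    have : 1 ≤ (s + 2) ^ 2 := Nat.one_le_pow _ _ (by omega)
    zify [this]; ring
  rw [e3, e4] at h1
  have h2 : a * (s ^ 2 + 5 * s + 7) = b * (s + 3) := by
    apply Nat.eq_of_mul_eq_mul_left (show 0 < s + 1 by omega)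
    calc _ = a * ((s + 1) * (s ^ 2 + 5 * s + 7)) := by ring
      _ = _ := h1
      _ = _ := by ring
  rcases Nat.lt_or_ge a 2 with ha2 | ha2
  · have ha1 : a = 1 := by omega
    subst ha1
    rcases hb with rfl | rfl
    · nlinarith
    · -- `s² + 5 s + 7 = 3 s + 9`
      have h3 : s ^ 2 + 2 * s = 2 := by omega
      rcases Nat.lt_or_ge s 1 with h4 | h4
      · have : s = 0 := by omega
        subst this; norm_num at h3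
      · nlinarith
  · have h3 : 2 * (s ^ 2 + 5 * s + 7) ≤ a * (s ^ 2 + 5 * s + 7) := Nat.mul_le_mul_right _ ha2
    have h4 : b * (s + 3) ≤ 3 * (s + 3) := Nat.mul_le_mul_right _ (by omega)
    nlinarith

theorem ar_D4F4 (ht : 2 ≤ t) {b : ℕ} (hb : b ≤ 4)
    (h : ((t ^ 2) ^ 4 - 1) * (((t ^ 2) ^ 2 - 1) * ((t ^ 2) ^ 4 - 1) * ((t ^ 2) ^ 6 - 1)) =
      b * ((t ^ 2 - 1) * (t ^ 6 - 1) * (t ^ 8 - 1) * (t ^ 12 - 1))) : False := by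
  have e1 : (t ^ 2) ^ 4 = t ^ 8 := by ring
  have e2 : (t ^ 2) ^ 2 = t ^ 4 := by ring
  have e3 : (t ^ 2) ^ 6 = t ^ 12 := by ring
  rw [e1, e2, e3] at h
  have h8 := sub_one_ne (q := t) (k := 8) ht (by norm_num)
  have h12 := sub_one_ne (q := t) (k := 12) ht (by norm_num)
  have h2 := sub_one_ne (q := t) (k := 2) ht (by norm_num)
  have h6 := sub_one_ne (q := t) (k := 6) ht (by norm_num)
  have e4 : t ^ 4 - 1 = (t ^ 2 - 1) * (t ^ 2 + 1) := by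
    have g2 : 1 ≤ t ^ 2 := Nat.one_le_pow _ _ (by omega)
    have g4 : 1 ≤ t ^ 4 := Nat.one_le_pow _ _ (by omega)
    zify [g2, g4]; ring
  rw [e4] at h
  have h1 : (t ^ 2 + 1) * (t ^ 8 - 1) = b * (t ^ 6 - 1) := by
    have hc : 0 < (t ^ 2 - 1) * (t ^ 8 - 1) * (t ^ 12 - 1) := by positivity
    apply Nat.eq_of_mul_eq_mul_left hc
    calc _ = (t ^ 8 - 1) * ((t ^ 2 - 1) * (t ^ 2 + 1) * (t ^ 8 - 1) * (t ^ 12 - 1)) := by ring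
      _ = _ := h
      _ = _ := by ring
  have h3 : 5 ≤ t ^ 2 + 1 := by nlinarith
  have h4 : t ^ 6 ≤ t ^ 8 := Nat.pow_le_pow_right (by omega) (by norm_num)
  have h5 : 5 * (t ^ 8 - 1) ≤ (t ^ 2 + 1) * (t ^ 8 - 1) := Nat.mul_le_mul_right _ h3
  have h7 : b * (t ^ 6 - 1) ≤ 4 * (t ^ 6 - 1) := Nat.mul_le_mul_right _ hb
  omega

theorem ar_D4TE6 (ht : 2 ≤ t) {a b : ℕ} (ha : 1 ≤ a) (hb : b ≤ 4)
    (h : a * (((t ^ 3) ^ 4 - 1) * (((t ^ 3) ^ 2 - 1) * ((t ^ 3) ^ 4 - 1) * ((t ^ 3) ^ 6 - 1))) =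
      b * ((t ^ 2 - 1) * (t ^ 5 + 1) * (t ^ 6 - 1) * (t ^ 8 - 1) * (t ^ 9 + 1) * (t ^ 12 - 1))) : False := by
  have e1 : (t ^ 3) ^ 4 = t ^ 12 := by ring
  have e2 : (t ^ 3) ^ 2 = t ^ 6 := by ring
  have e3 : (t ^ 3) ^ 6 = t ^ 18 := by ring
  rw [e1, e2, e3] at h
  have h12 := sub_one_ne (q := t) (k := 12) ht (by norm_num)
  have h6 := sub_one_ne (q := t) (k := 6) ht (by norm_num)
  have e4 : t ^ 18 - 1 = (t ^ 9 - 1) * (t ^ 9 + 1) := by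
    have g2 : 1 ≤ t ^ 9 := Nat.one_le_pow _ _ (by omega)
    have g4 : 1 ≤ t ^ 18 := Nat.one_le_pow _ _ (by omega)
    zify [g2, g4]; ring
  rw [e4] at h
  have h1 : a * ((t ^ 12 - 1) * (t ^ 9 - 1)) = b * ((t ^ 2 - 1) * (t ^ 5 + 1) * (t ^ 8 - 1)) := by
    have hc : 0 < (t ^ 12 - 1) * (t ^ 6 - 1) * (t ^ 9 + 1) := by positivity
    apply Nat.eq_of_mul_eq_mul_left hc
    calc _ = a * ((t ^ 12 - 1) * ((t ^ 6 - 1) * (t ^ 12 - 1) * ((t ^ 9 - 1) * (t ^ 9 + 1)))) := by ring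
      _ = _ := h
      _ = _ := by ring
  have h3 : (t ^ 2 - 1) * (t ^ 5 + 1) < t ^ 9 - 1 := by
    have g1 : (t ^ 2 - 1) * (t ^ 5 + 1) ≤ t ^ 2 * (t ^ 5 + 1) := Nat.mul_le_mul_right _ (Nat.sub_le _ _)
    have g2 : t ^ 2 * (t ^ 5 + 1) = t ^ 7 + t ^ 2 := by ring
    have g3 : t ^ 9 = t ^ 2 * t ^ 7 := by ring
    have g4 : 4 ≤ t ^ 2 := by nlinarith
    have g5 : 4 * t ^ 7 ≤ t ^ 2 * t ^ 7 := Nat.mul_le_mul_right _ g4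
    have g6 : t ^ 2 ≤ t ^ 7 := Nat.pow_le_pow_right (by omega) (by norm_num)
    omega
  have h4 : 4 * (t ^ 8 - 1) ≤ t ^ 12 - 1 := by
    have g3 : t ^ 12 = t ^ 4 * t ^ 8 := by ring
    have g4 : 16 ≤ t ^ 4 := by
      calc 16 = 2 ^ 4 := by norm_num
        _ ≤ t ^ 4 := Nat.pow_le_pow_left ht 4
    have g5 : 16 * t ^ 8 ≤ t ^ 4 * t ^ 8 := Nat.mul_le_mul_right _ g4
    have g6 : 1 ≤ t ^ 8 := Nat.one_le_pow _ _ (by omega)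
    omega
  have h8 := sub_one_ne (q := t) (k := 8) ht (by norm_num)
  have h5 : (t ^ 12 - 1) * (t ^ 9 - 1) ≤ a * ((t ^ 12 - 1) * (t ^ 9 - 1)) := Nat.le_mul_of_pos_left _ ha
  have h7 : b * ((t ^ 2 - 1) * (t ^ 5 + 1) * (t ^ 8 - 1)) ≤ 4 * ((t ^ 2 - 1) * (t ^ 5 + 1) * (t ^ 8 - 1)) :=
    Nat.mul_le_mul_right _ hb
  have h9 : 4 * ((t ^ 2 - 1) * (t ^ 5 + 1) * (t ^ 8 - 1)) = (4 * (t ^ 8 - 1)) * ((t ^ 2 - 1) * (t ^ 5 + 1)) := by ring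
  have h10 : (4 * (t ^ 8 - 1)) * ((t ^ 2 - 1) * (t ^ 5 + 1)) < (t ^ 12 - 1) * (t ^ 9 - 1) :=
    Nat.mul_lt_mul_of_le_of_lt h4 h3 (by omega)
  omega

theorem ar_F4TE6 (ht : 2 ≤ t)
    (h : ((t ^ 3) ^ 2 - 1) * ((t ^ 3) ^ 6 - 1) * ((t ^ 3) ^ 8 - 1) * ((t ^ 3) ^ 12 - 1) =
      ((t ^ 2) ^ 2 - 1) * ((t ^ 2) ^ 5 + 1) * ((t ^ 2) ^ 6 - 1) * ((t ^ 2) ^ 8 - 1) * ((t ^ 2) ^ 9 + 1) *
        ((t ^ 2) ^ 12 - 1)) : False := by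
  have g : ∀ k : ℕ, 1 ≤ t ^ k := fun k => Nat.one_le_pow _ _ (by omega)
  have g' : ∀ a k : ℕ, 1 ≤ (t ^ a) ^ k := fun a k => Nat.one_le_pow _ _ (g a)
  have h1 : ((t : ℤ) ^ 6 - 1) * (t ^ 18 - 1) * (t ^ 24 - 1) * (t ^ 36 - 1) =
      (t ^ 4 - 1) * (t ^ 10 + 1) * (t ^ 12 - 1) * (t ^ 16 - 1) * (t ^ 18 + 1) * (t ^ 24 - 1) := by
    have h2 := congrArg (Nat.cast : ℕ → ℤ) h
    push_cast [Nat.cast_sub (g' 3 2), Nat.cast_sub (g' 3 6), Nat.cast_sub (g' 3 8), Nat.cast_sub (g' 3 12),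
      Nat.cast_sub (g' 2 2), Nat.cast_sub (g' 2 6), Nat.cast_sub (g' 2 8), Nat.cast_sub (g' 2 12)] at h2
    linear_combination h2
  have h24 : ((t : ℤ) ^ 24 - 1) ≠ 0 := by
    have := sub_one_ne (q := t) (k := 24) ht (by norm_num)
    intro h0
    apply this
    have h3 : ((t ^ 24 - 1 : ℕ) : ℤ) = 0 := by rw [Nat.cast_sub (g 24)]; push_cast; exact h0
    exact_mod_cast h3
  have h18 : ((t : ℤ) ^ 18 + 1) ≠ 0 := by positivity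
  have h3 : ((t : ℤ) ^ 6 - 1) * (t ^ 18 - 1) * (t ^ 18 - 1) =
      (t ^ 4 - 1) * (t ^ 10 + 1) * (t ^ 12 - 1) * (t ^ 16 - 1) := by
    apply mul_right_cancel₀ h24
    apply mul_right_cancel₀ h18
    linear_combination h1
  have h4 : (t : ℤ) ^ 4 = (t : ℤ) ^ 6 * (1 + t ^ 4 - t ^ 6 - t ^ 8 + 2 * t ^ 12 + t ^ 14 - t ^ 16 - 2 * t ^ 18 + t ^ 22 +
      t ^ 24 - t ^ 26 - t ^ 30 + t ^ 32) := by
    linear_combination -h3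
  have h5 : (t : ℤ) ^ 6 ∣ (t : ℤ) ^ 4 := ⟨_, h4⟩
  have h6 : t ^ 6 ∣ t ^ 4 := by exact_mod_cast h5
  have h7 := Nat.le_of_dvd (by positivity) h6
  have h8 : t ^ 4 < t ^ 6 := Nat.pow_lt_pow_right (by omega) (by norm_num)
  omega

/-! class B -/

theorem ar_L2U3 (ht : 2 ≤ t) {a b : ℕ} (ha : 1 ≤ a) (hb : b ≤ 2)
    (h : a * ((t ^ 3) ^ 2 - 1) = b * ((t ^ 2 - 1) * (t ^ 3 + 1))) : False := by
  obtain ⟨s, rfl⟩ := Nat.exists_eq_add_of_le' ht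
  have g : ∀ k : ℕ, 1 ≤ (s + 2) ^ k := fun k => Nat.one_le_pow _ _ (by omega)
  have e2 : ((s + 2) ^ 3) ^ 2 - 1 = ((s + 2) ^ 3 - 1) * ((s + 2) ^ 3 + 1) := by
    have h6 : 1 ≤ ((s + 2) ^ 3) ^ 2 := Nat.one_le_pow _ _ (by positivity)
    zify [g 3, h6]; ring
  rw [e2] at h
  have h1 : a * ((s + 2) ^ 3 - 1) = b * ((s + 2) ^ 2 - 1) := by
    apply Nat.eq_of_mul_eq_mul_right (show 0 < (s + 2) ^ 3 + 1 by positivity)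
    calc _ = a * (((s + 2) ^ 3 - 1) * ((s + 2) ^ 3 + 1)) := by ring
      _ = _ := h
      _ = _ := by ring
  have e3 : (s + 2) ^ 3 - 1 = s ^ 3 + 6 * s ^ 2 + 12 * s + 7 := by zify [g 3]; ring
  have e4 : (s + 2) ^ 2 - 1 = s ^ 2 + 4 * s + 3 := by zify [g 2]; ring
  rw [e3, e4] at h1
  have h3 : s ^ 3 + 6 * s ^ 2 + 12 * s + 7 ≤ a * (s ^ 3 + 6 * s ^ 2 + 12 * s + 7) := Nat.le_mul_of_pos_left _ ha
  have h4 : b * (s ^ 2 + 4 * s + 3) ≤ 2 * (s ^ 2 + 4 * s + 3) := Nat.mul_le_mul_right _ hb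
  nlinarith [Nat.zero_le (s ^ 3)]

theorem ar_L2Sz (ht : 2 ≤ t) {b : ℕ} (hb : b ≤ 2)
    (h : (t ^ 2) ^ 2 - 1 = b * ((t - 1) * (t ^ 2 + 1))) : False := by
  have e2 : (t ^ 2) ^ 2 - 1 = (t + 1) * ((t - 1) * (t ^ 2 + 1)) := by
    have h1 : 1 ≤ t := by omega
    have h6 : 1 ≤ (t ^ 2) ^ 2 := Nat.one_le_pow _ _ (by positivity)
    zify [h1, h6]; ring
  rw [e2] at h
  have hc : 0 < (t - 1) * (t ^ 2 + 1) := Nat.mul_pos (by omega) (by positivity)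
  have := Nat.eq_of_mul_eq_mul_right hc h
  omega

theorem ar_L2Ree (ht : 2 ≤ t) {b : ℕ} (hb : b ≤ 2)
    (h : (t ^ 3) ^ 2 - 1 = b * ((t - 1) * (t ^ 3 + 1))) : False := by
  have e2 : (t ^ 3) ^ 2 - 1 = (t ^ 2 + t + 1) * ((t - 1) * (t ^ 3 + 1)) := by
    have h1 : 1 ≤ t := by omega
    have h6 : 1 ≤ (t ^ 3) ^ 2 := Nat.one_le_pow _ _ (by positivity)
    zify [h1, h6]; ring
  rw [e2] at h
  have hc : 0 < (t - 1) * (t ^ 3 + 1) := Nat.mul_pos (by omega) (by positivity)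
  have := Nat.eq_of_mul_eq_mul_right hc h
  nlinarith

theorem ar_U3Ree (ht : 3 ≤ t) {b : ℕ} (hb : b ≤ 3)
    (h : (t ^ 2 - 1) * (t ^ 3 + 1) = b * ((t - 1) * (t ^ 3 + 1))) : False := by
  have e2 : (t ^ 2 - 1) * (t ^ 3 + 1) = (t + 1) * ((t - 1) * (t ^ 3 + 1)) := by
    have h1 : 1 ≤ t := by omega
    have h6 : 1 ≤ t ^ 2 := Nat.one_le_pow _ _ (by omega)
    zify [h1, h6]; ring
  rw [e2] at h
  have hc : 0 < (t - 1) * (t ^ 3 + 1) := Nat.mul_pos (by omega) (by positivity)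
  have := Nat.eq_of_mul_eq_mul_right hc h
  omega

theorem ar_U3Sz (ht : 2 ≤ t) {b : ℕ} (hb : b ≤ 3)
    (h : ((t ^ 2) ^ 2 - 1) * ((t ^ 2) ^ 3 + 1) = b * ((t ^ 3 - 1) * ((t ^ 3) ^ 2 + 1))) : False := by
  have e1 : (t ^ 2) ^ 3 = t ^ 6 := by ring
  have e2 : (t ^ 3) ^ 2 = t ^ 6 := by ring
  have e3 : (t ^ 2) ^ 2 = t ^ 4 := by ring
  rw [e1, e2, e3] at h
  have h1 : t ^ 4 - 1 = b * (t ^ 3 - 1) := by
    apply Nat.eq_of_mul_eq_mul_right (show 0 < t ^ 6 + 1 by positivity)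
    rw [h]; ring
  obtain ⟨s, rfl⟩ := Nat.exists_eq_add_of_le' ht
  have g : ∀ k : ℕ, 1 ≤ (s + 2) ^ k := fun k => Nat.one_le_pow _ _ (by omega)
  have e4 : (s + 2) ^ 3 - 1 = s ^ 3 + 6 * s ^ 2 + 12 * s + 7 := by zify [g 3]; ring
  have e5 : (s + 2) ^ 4 - 1 = s ^ 4 + 8 * s ^ 3 + 24 * s ^ 2 + 32 * s + 15 := by zify [g 4]; ring
  rw [e4, e5] at h1
  interval_cases b
  · omega
  · nlinarith [Nat.zero_le (s ^ 3), Nat.zero_le (s ^ 4)]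
  · nlinarith [Nat.zero_le (s ^ 3), Nat.zero_le (s ^ 4)]
  · rcases Nat.lt_or_ge s 1 with hs | hs
    · have : s = 0 := by omega
      subst this; norm_num at h1
    · have h2 : s ^ 3 ≤ s ^ 4 := Nat.pow_le_pow_right hs (by norm_num)
      have h3 : s ^ 2 ≤ s ^ 3 := Nat.pow_le_pow_right hs (by norm_num)
      nlinarith

theorem ar_C2G2 (ht : 2 ≤ t) {b : ℕ} (hb : b ≤ 2)
    (h : ((t ^ 3) ^ 2 - 1) * ((t ^ 3) ^ 4 - 1) = b * (((t ^ 2) ^ 2 - 1) * ((t ^ 2) ^ 6 - 1))) : False := by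
  have e1 : (t ^ 2) ^ 2 = t ^ 4 := by ring
  have e2 : (t ^ 3) ^ 2 = t ^ 6 := by ring
  have e3 : (t ^ 2) ^ 6 = t ^ 12 := by ring
  have e4 : (t ^ 3) ^ 4 = t ^ 12 := by ring
  rw [e1, e2, e3, e4] at h
  have h12 := sub_one_ne (q := t) (k := 12) ht (by norm_num)
  have h1 : t ^ 6 - 1 = b * (t ^ 4 - 1) := by
    apply Nat.eq_of_mul_eq_mul_right (Nat.pos_of_ne_zero h12)
    rw [h]; ring
  have h2 : b * (t ^ 4 - 1) ≤ 2 * (t ^ 4 - 1) := Nat.mul_le_mul_right _ hb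
  have h3 : t ^ 6 = t ^ 2 * t ^ 4 := by ring
  have h4 : 4 ≤ t ^ 2 := by nlinarith
  have h5 : 4 * t ^ 4 ≤ t ^ 2 * t ^ 4 := Nat.mul_le_mul_right _ h4
  have h6 : 1 ≤ t ^ 4 := Nat.one_le_pow _ _ (by omega)
  omega

theorem ar_C2TD4 (ht : 2 ≤ t) {b : ℕ} (hb : b ≤ 2)
    (h : ((t ^ 3) ^ 2 - 1) * ((t ^ 3) ^ 4 - 1) = b * ((t ^ 2 - 1) * (t ^ 6 - 1) * (t ^ 8 + t ^ 4 + 1))) : False := by
  have g : ∀ k : ℕ, 1 ≤ t ^ k := fun k => Nat.one_le_pow _ _ (by omega)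
  have e1 : ((t ^ 3) ^ 2 - 1) * ((t ^ 3) ^ 4 - 1) = (t ^ 2 + 1) * ((t ^ 2 - 1) * (t ^ 6 - 1) * (t ^ 8 + t ^ 4 + 1)) := by
    have h6 : 1 ≤ (t ^ 3) ^ 2 := Nat.one_le_pow _ _ (g 3)
    have h7 : 1 ≤ (t ^ 3) ^ 4 := Nat.one_le_pow _ _ (g 3)
    zify [g 2, g 6, h6, h7]; ring
  rw [e1] at h
  have hc : 0 < (t ^ 2 - 1) * (t ^ 6 - 1) * (t ^ 8 + t ^ 4 + 1) := by
    have h2 := sub_one_ne (q := t) (k := 2) ht (by norm_num)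
    have h6 := sub_one_ne (q := t) (k := 6) ht (by norm_num)
    positivity
  have := Nat.eq_of_mul_eq_mul_right hc h
  nlinarith

theorem ar_C2TF4 (ht : 2 ≤ t) {b : ℕ} (hb : b ≤ 2)
    (h : ((t ^ 3) ^ 2 - 1) * ((t ^ 3) ^ 4 - 1) = b * ((t - 1) * (t ^ 3 + 1) * (t ^ 4 - 1) * (t ^ 6 + 1))) : False := by
  have g : ∀ k : ℕ, 1 ≤ t ^ k := fun k => Nat.one_le_pow _ _ (by omega)
  have e1 : ((t ^ 3) ^ 2 - 1) * ((t ^ 3) ^ 4 - 1) = ((t ^ 6 - 1) * (t ^ 3 - 1)) * ((t ^ 3 + 1) * (t ^ 6 + 1)) := by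
    have h6 : 1 ≤ (t ^ 3) ^ 2 := Nat.one_le_pow _ _ (g 3)
    have h7 : 1 ≤ (t ^ 3) ^ 4 := Nat.one_le_pow _ _ (g 3)
    zify [g 3, g 6, h6, h7]; ring
  rw [e1] at h
  have h1 : (t ^ 6 - 1) * (t ^ 3 - 1) = b * ((t - 1) * (t ^ 4 - 1)) := by
    apply Nat.eq_of_mul_eq_mul_right (show 0 < (t ^ 3 + 1) * (t ^ 6 + 1) by positivity)
    rw [h]; ring
  have h3 := sub_one_ne (q := t) (k := 3) ht (by norm_num)
  have h2 : b * ((t - 1) * (t ^ 4 - 1)) ≤ 2 * ((t - 1) * (t ^ 4 - 1)) := Nat.mul_le_mul_right _ hb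
  have h4 : t - 1 ≤ t ^ 3 - 1 := by
    have : t ≤ t ^ 3 := Nat.le_self_pow (by norm_num) t
    omega
  have h5 : 2 * (t ^ 4 - 1) < t ^ 6 - 1 := by
    have h3 : t ^ 6 = t ^ 2 * t ^ 4 := by ring
    have h4 : 4 ≤ t ^ 2 := by nlinarith
    have h5 : 4 * t ^ 4 ≤ t ^ 2 * t ^ 4 := Nat.mul_le_mul_right _ h4
    have h6 := g 4
    omega
  have h6 : (2 * (t ^ 4 - 1)) * (t - 1) < (t ^ 6 - 1) * (t ^ 3 - 1) :=
    Nat.mul_lt_mul_of_lt_of_le h5 h4 (by omega)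
  have h7 : 2 * ((t - 1) * (t ^ 4 - 1)) = (2 * (t ^ 4 - 1)) * (t - 1) := by ring
  omega

theorem ar_G2TD4 (ht : 2 ≤ t)
    (h : ((t ^ 2) ^ 2 - 1) * ((t ^ 2) ^ 6 - 1) = (t ^ 2 - 1) * (t ^ 6 - 1) * (t ^ 8 + t ^ 4 + 1)) : False := by
  have g : ∀ k : ℕ, 1 ≤ t ^ k := fun k => Nat.one_le_pow _ _ (by omega)
  have g2 : ∀ k : ℕ, 1 ≤ (t ^ 2) ^ k := fun k => Nat.one_le_pow _ _ (g 2)
  have e1 : ((t ^ 2) ^ 2 - 1) * ((t ^ 2) ^ 6 - 1) =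
      ((t ^ 2 + 1) * (t ^ 2 + 1)) * ((t ^ 2 - 1) * (t ^ 2 - 1) * (t ^ 8 + t ^ 4 + 1)) := by
    zify [g 2, g2 2, g2 6]; ring
  have e2 : (t ^ 2 - 1) * (t ^ 6 - 1) * (t ^ 8 + t ^ 4 + 1) =
      (t ^ 4 + t ^ 2 + 1) * ((t ^ 2 - 1) * (t ^ 2 - 1) * (t ^ 8 + t ^ 4 + 1)) := by
    zify [g 2, g 6]; ring
  rw [e1, e2] at h
  have hc : 0 < (t ^ 2 - 1) * (t ^ 2 - 1) * (t ^ 8 + t ^ 4 + 1) := by
    have h2 := sub_one_ne (q := t) (k := 2) ht (by norm_num)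
    positivity
  have := Nat.eq_of_mul_eq_mul_right hc h
  nlinarith

theorem ar_G2TF4 (ht : 2 ≤ t)
    (h : ((t ^ 2) ^ 2 - 1) * ((t ^ 2) ^ 6 - 1) = (t - 1) * (t ^ 3 + 1) * (t ^ 4 - 1) * (t ^ 6 + 1)) : False := by
  have g : ∀ k : ℕ, 1 ≤ t ^ k := fun k => Nat.one_le_pow _ _ (by omega)
  have g2 : ∀ k : ℕ, 1 ≤ (t ^ 2) ^ k := fun k => Nat.one_le_pow _ _ (g 2)
  have g1 : 1 ≤ t := by omega
  have e1 : ((t ^ 2) ^ 2 - 1) * ((t ^ 2) ^ 6 - 1) =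
      (t ^ 2 + t + 1) * ((t - 1) * (t ^ 3 + 1) * (t ^ 4 - 1) * (t ^ 6 + 1)) := by
    zify [g1, g 4, g2 2, g2 6]; ring
  rw [e1] at h
  have hc : 0 < (t - 1) * (t ^ 3 + 1) * (t ^ 4 - 1) * (t ^ 6 + 1) := by
    have h2 := sub_one_ne (q := t) (k := 4) ht (by norm_num)
    have h3 : 0 < t - 1 := by omega
    positivity
  have h5 : (t ^ 2 + t + 1) * ((t - 1) * (t ^ 3 + 1) * (t ^ 4 - 1) * (t ^ 6 + 1)) =
      1 * ((t - 1) * (t ^ 3 + 1) * (t ^ 4 - 1) * (t ^ 6 + 1)) := by rw [h, one_mul]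
  have := Nat.eq_of_mul_eq_mul_right hc h5
  nlinarith

theorem ar_TD4TF4 (ht : 2 ≤ t)
    (h : (t ^ 2 - 1) * (t ^ 6 - 1) * (t ^ 8 + t ^ 4 + 1) = (t - 1) * (t ^ 3 + 1) * (t ^ 4 - 1) * (t ^ 6 + 1)) :
    False := by
  have g : ∀ k : ℕ, 1 ≤ t ^ k := fun k => Nat.one_le_pow _ _ (by omega)
  have g1 : 1 ≤ t := by omega
  have e1 : (t ^ 2 - 1) * (t ^ 6 - 1) * (t ^ 8 + t ^ 4 + 1) =
      ((t - 1) * (t ^ 3 + 1)) * ((t + 1) * (t ^ 3 - 1) * (t ^ 8 + t ^ 4 + 1)) := by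
    zify [g1, g 2, g 3, g 6]; ring
  have h1 : (t + 1) * (t ^ 3 - 1) * (t ^ 8 + t ^ 4 + 1) = (t ^ 4 - 1) * (t ^ 6 + 1) := by
    have h3 : 0 < t - 1 := by omega
    apply Nat.eq_of_mul_eq_mul_left (show 0 < (t - 1) * (t ^ 3 + 1) by positivity)
    rw [← e1, h]; ring
  have h2 : t ^ 4 - 1 ≤ (t + 1) * (t ^ 3 - 1) := by
    have : (t + 1) * (t ^ 3 - 1) + t + 1 = t ^ 4 + t ^ 3 := by zify [g 3]; ring
    have h4 : t ≤ t ^ 3 := Nat.le_self_pow (by norm_num) t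
    omega
  have h3 : t ^ 6 + 1 < t ^ 8 + t ^ 4 + 1 := by
    have : t ^ 6 ≤ t ^ 8 := Nat.pow_le_pow_right g1 (by norm_num)
    have := g 4
    omega
  have h4 := sub_one_ne (q := t) (k := 4) ht (by norm_num)
  have h5 : (t ^ 4 - 1) * (t ^ 6 + 1) < (t + 1) * (t ^ 3 - 1) * (t ^ 8 + t ^ 4 + 1) :=
    Nat.mul_lt_mul_of_le_of_lt h2 h3 (by omega)
  omega

end arith

end Cfsg.Agent.H902.Art
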