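import Mathlib
import Cfsg.Agent.H902.SameB

/-!
# Equal characteristic: the special pairs do not occur
-/

set_option autoImplicit false

namespace Cfsg.Agent.H902.Art

open Finset

theorem le_two_pow_sub {n : ℕ} (hn : 4 ≤ n) : n ≤ 2 ^ (n - 2) := by
  induction n, hn using Nat.le_induction with
  | base => norm_num
  | succ k hk ih =>
    have h11 : k + 1 - 2 = (k - 2) + 1 := by omega
    rw [h11, pow_succ]
    omega

theorem specA_false {X Y : Sh} {p f g M : ℕ} (hX : Real X p f M) (hY : Real Y p g M)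
    (hD : f * DM X = g * DM Y) (h : SpecA X Y) : False := by
  have hc := cross hX hY
  have hqX := hX.q_ge
  have hqY := hY.q_ge
  have hf := hX.hf
  have hg := hY.hf
  rcases h with ⟨n, hn, rfl, rfl⟩ | ⟨rfl, rfl⟩ | ⟨rfl, rfl⟩ | ⟨rfl, rfl⟩ | ⟨rfl, rfl⟩
  · have h1 : f = 2 * g := by
      have h2 : f * n = g * (2 * n) := hD
      have h3 : f * n = (2 * g) * n := by rw [h2]; ring
      exact Nat.eq_of_mul_eq_mul_right (by omega) h3
    subst h1
    have hq : p ^ (2 * g) = (p ^ g) ^ 2 := by rw [mul_comm, pow_mul]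
    rw [hq] at hc
    set q := p ^ g with hqdef
    have ha : 1 ≤ dd (.DD n) q := gcd4_pos _
    have hb : dd (.L n) (q ^ 2) ≤ n := Nat.gcd_le_left _ (by omega)
    set a := dd (.DD n) q
    set b := dd (.L n) (q ^ 2)
    set A := ∏ i ∈ range (n - 1), (q ^ (2 * (i + 1)) - 1) with hA
    have hA0 : 0 < A := Nat.pos_of_ne_zero (Finset.prod_ne_zero_iff.2 fun i _ => sub_one_ne hqY (by omega))
    have h2 : num (.L n) (q ^ 2) * (q ^ 2 - 1) = A * (q ^ (2 * n) - 1) := by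
      have h3 : ∏ i ∈ range n, (q ^ (2 * (i + 1)) - 1) = num (.L n) (q ^ 2) * (q ^ 2 - 1) := by
        obtain ⟨k, rfl⟩ := Nat.exists_eq_add_of_le' (show 1 ≤ n by omega)
        rw [Finset.prod_range_succ']
        show _ = (∏ i ∈ range k, ((q ^ 2) ^ (i + 2) - 1)) * (q ^ 2 - 1)
        congr 1
        apply Finset.prod_congr rfl
        intro i _
        rw [← pow_mul q 2 (i + 2)]
      have h4 : ∏ i ∈ range n, (q ^ (2 * (i + 1)) - 1) = A * (q ^ (2 * n) - 1) := by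
        obtain ⟨k, rfl⟩ := Nat.exists_eq_add_of_le' (show 1 ≤ n by omega)
        rw [Finset.prod_range_succ, hA]
        rfl
      rw [← h3, h4]
    have h5 : num (.DD n) q = (q ^ n + 1) * A := rfl
    have h6 : q ^ (2 * n) - 1 = (q ^ n - 1) * (q ^ n + 1) := by
      have g1 : 1 ≤ q ^ n := Nat.one_le_pow _ _ (by omega)
      have g2 : 1 ≤ q ^ (2 * n) := Nat.one_le_pow _ _ (by omega)
      zify [g1, g2]; ring
    have h7 : a * (q ^ n - 1) = b * (q ^ 2 - 1) := by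
      apply Nat.eq_of_mul_eq_mul_left (show 0 < A * (q ^ n + 1) by positivity)
      calc A * (q ^ n + 1) * (a * (q ^ n - 1)) = a * (A * ((q ^ n - 1) * (q ^ n + 1))) := by ring
        _ = a * (num (.L n) (q ^ 2) * (q ^ 2 - 1)) := by rw [h2, h6]
        _ = (a * num (.L n) (q ^ 2)) * (q ^ 2 - 1) := by ring
        _ = (b * num (.DD n) q) * (q ^ 2 - 1) := by rw [hc]
        _ = A * (q ^ n + 1) * (b * (q ^ 2 - 1)) := by rw [h5]; ring
    have h8 : b * (q ^ 2 - 1) ≤ n * (q ^ 2 - 1) := Nat.mul_le_mul_right _ hb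
    have h9 : q ^ n - 1 ≤ a * (q ^ n - 1) := Nat.le_mul_of_pos_left _ ha
    have h10 : n ≤ q ^ (n - 2) := by
      exact (le_two_pow_sub hn).trans (Nat.pow_le_pow_left hqY _)
    have h11 : q ^ n = q ^ (n - 2) * q ^ 2 := by rw [← pow_add]; congr 1; omega
    have h12 : q ^ (n - 2) * (q ^ 2 - 1) + q ^ (n - 2) = q ^ n := by
      rw [h11]
      have g1 : 1 ≤ q ^ 2 := Nat.one_le_pow _ _ (by omega)
      zify [g1]; ring
    have h13 : n * (q ^ 2 - 1) ≤ q ^ (n - 2) * (q ^ 2 - 1) := Nat.mul_le_mul_right _ h10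
    omega
  · have h1 : f = 2 * g := by
      have h2 : f * 3 = g * 6 := hD
      omega
    subst h1
    have hq : p ^ (2 * g) = (p ^ g) ^ 2 := by rw [mul_comm, pow_mul]
    rw [hq] at hc
    exact ar_L3U4 hqY (a := dd (.U 4) (p ^ g)) (b := dd (.L 3) ((p ^ g) ^ 2)) (gcd4_pos _) (gcd3 _) (by
      have e1 : num (.L 3) ((p ^ g) ^ 2) = (((p ^ g) ^ 2) ^ 2 - 1) * (((p ^ g) ^ 2) ^ 3 - 1) := by
        show ∏ i ∈ range 2, (((p ^ g) ^ 2) ^ (i + 2) - 1) = _
        rw [Finset.prod_range_succ, Finset.prod_range_one]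
      have e2 : num (.U 4) (p ^ g) = ((p ^ g) ^ 2 - 1) * ((p ^ g) ^ 3 + 1) * ((p ^ g) ^ 4 - 1) := by
        show ∏ i ∈ range 3, (if Even i then (p ^ g) ^ (i + 2) - 1 else (p ^ g) ^ (i + 2) + 1) = _
        rw [Finset.prod_range_succ, Finset.prod_range_succ, Finset.prod_range_one]
        simp
      rw [e1, e2] at hc
      exact hc)
  · have h1 : f = 2 * g := by
      have h2 : f * 6 = g * 12 := hD
      omega
    subst h1
    have hq : p ^ (2 * g) = (p ^ g) ^ 2 := by rw [mul_comm, pow_mul]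
    rw [hq] at hc
    exact ar_D4F4 hqY (b := dd (.D 4) ((p ^ g) ^ 2)) (gcd4_le _) (by
      have e1 : num (.D 4) ((p ^ g) ^ 2) = (((p ^ g) ^ 2) ^ 4 - 1) * ((((p ^ g) ^ 2) ^ 2 - 1) *
          (((p ^ g) ^ 2) ^ 4 - 1) * (((p ^ g) ^ 2) ^ 6 - 1)) := by
        show (((p ^ g) ^ 2) ^ 4 - 1) * ∏ i ∈ range 3, (((p ^ g) ^ 2) ^ (2 * (i + 1)) - 1) = _
        rw [Finset.prod_range_succ, Finset.prod_range_succ, Finset.prod_range_one]
      have e2 : dd .F4 (p ^ g) = 1 := rfl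
      rw [e1, e2, one_mul] at hc
      exact hc)
  · have h1 : f = 3 * g := by
      have h2 : f * 6 = g * 18 := hD
      omega
    subst h1
    have hq : p ^ (3 * g) = (p ^ g) ^ 3 := by rw [mul_comm, pow_mul]
    rw [hq] at hc
    exact ar_D4TE6 hqY (a := dd .TE6 (p ^ g)) (b := dd (.D 4) ((p ^ g) ^ 3))
      (Nat.gcd_pos_of_pos_left _ (by norm_num)) (gcd4_le _) (by
      have e1 : num (.D 4) ((p ^ g) ^ 3) = (((p ^ g) ^ 3) ^ 4 - 1) * ((((p ^ g) ^ 3) ^ 2 - 1) *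
          (((p ^ g) ^ 3) ^ 4 - 1) * (((p ^ g) ^ 3) ^ 6 - 1)) := by
        show (((p ^ g) ^ 3) ^ 4 - 1) * ∏ i ∈ range 3, (((p ^ g) ^ 3) ^ (2 * (i + 1)) - 1) = _
        rw [Finset.prod_range_succ, Finset.prod_range_succ, Finset.prod_range_one]
      rw [e1] at hc
      exact hc)
  · have h2 : f * 12 = g * 18 := hD
    obtain ⟨k, hk⟩ : ∃ k, g = 2 * k := ⟨g / 2, by omega⟩
    have h1 : f = 3 * k := by omega
    subst h1 hk
    have hp := hX.hp
    have hq3 : p ^ (3 * k) = (p ^ k) ^ 3 := by rw [mul_comm, pow_mul]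
    have hq2 : p ^ (2 * k) = (p ^ k) ^ 2 := by rw [mul_comm, pow_mul]
    rw [hq3, hq2] at hc
    have hk1 : 1 ≤ k := by omega
    have ht : 2 ≤ p ^ k := hp.two_le.trans (Nat.le_self_pow (by omega) p)
    have e2 : dd .TE6 ((p ^ k) ^ 2) = 1 := by
      show Nat.gcd 3 ((p ^ k) ^ 2 + 1) = 1
      rcases gcd3 ((p ^ k) ^ 2 + 1) with h | h
      · exact h
      · exfalso
        have h3 : 3 ∣ (p ^ k) ^ 2 + 1 := by rw [← h]; exact Nat.gcd_dvd_right _ _
        have h4 : (p ^ k) % 3 = 0 ∨ (p ^ k) % 3 = 1 ∨ (p ^ k) % 3 = 2 := by omega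
        have h5 : ((p ^ k) ^ 2 + 1) % 3 = 0 := Nat.mod_eq_zero_of_dvd h3
        rcases h4 with h4 | h4 | h4 <;> rw [Nat.add_mod, Nat.pow_mod, h4] at h5 <;> norm_num at h5
    have e1 : dd .F4 ((p ^ k) ^ 3) = 1 := rfl
    rw [e1, e2, one_mul, one_mul] at hc
    exact ar_F4TE6 ht hc

theorem specB_false {X Y : Sh} {p f g M : ℕ} (hX : Real X p f M) (hY : Real Y p g M)
    (hD : f * DM X = g * DM Y) (h : SpecB X Y) : False := by
  have hc := cross hX hY
  have hqX := hX.q_ge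
  have hqY := hY.q_ge
  have hf := hX.hf
  have hg := hY.hf
  have hp := hX.hp
  have eL2 : ∀ q, num (.L 2) q = q ^ 2 - 1 := by
    intro q
    show ∏ i ∈ range 1, (q ^ (i + 2) - 1) = _
    rw [Finset.prod_range_one]
  have eU3 : ∀ q, num (.U 3) q = (q ^ 2 - 1) * (q ^ 3 + 1) := by
    intro q
    show ∏ i ∈ range 2, (if Even i then q ^ (i + 2) - 1 else q ^ (i + 2) + 1) = _
    rw [Finset.prod_range_succ, Finset.prod_range_one]
    simp
  have eC2 : ∀ q, num (.C 2) q = (q ^ 2 - 1) * (q ^ 4 - 1) := by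
    intro q
    show ∏ i ∈ range 2, (q ^ (2 * (i + 1)) - 1) = _
    rw [Finset.prod_range_succ, Finset.prod_range_one]
  have dL2 : ∀ q, dd (.L 2) q ≤ 2 := fun q => Nat.gcd_le_left _ (by norm_num)
  have dC2 : ∀ q, dd (.C 2) q ≤ 2 := fun q => Nat.gcd_le_left _ (by norm_num)
  have dU3 : ∀ q, dd (.U 3) q ≤ 3 := fun q => Nat.gcd_le_left _ (by norm_num)
  have dU3' : ∀ q, 1 ≤ dd (.U 3) q := fun q => Nat.gcd_pos_of_pos_left _ (by norm_num)
  have dSz : ∀ q, dd .Sz q = 1 := fun q => rfl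
  have dRee : ∀ q, dd .Ree q = 1 := fun q => rfl
  have dG2 : ∀ q, dd .G2 q = 1 := fun q => rfl
  have dTD4 : ∀ q, dd .TD4 q = 1 := fun q => rfl
  have dTF4 : ∀ q, dd .TF4 q = 1 := fun q => rfl
  have pw : ∀ a b : ℕ, p ^ (a * b) = (p ^ b) ^ a := fun a b => by rw [mul_comm, pow_mul]
  rcases h with ⟨rfl, rfl⟩ | ⟨rfl, rfl⟩ | ⟨rfl, rfl⟩ | ⟨rfl, rfl⟩ | ⟨rfl, rfl⟩ | ⟨rfl, rfl⟩ | ⟨rfl, rfl⟩ | ⟨rfl, rfl⟩ |
    ⟨rfl, rfl⟩ | ⟨rfl, rfl⟩ | ⟨rfl, rfl⟩ | ⟨rfl, rfl⟩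
  · -- L2, U3
    have h2 : f * 2 = g * 6 := hD
    have h1 : f = 3 * g := by omega
    subst h1
    rw [pw, eL2, eU3] at hc
    exact ar_L2U3 hqY (dU3' _) (dL2 _) hc
  · -- L2, Sz
    have h2 : f * 2 = g * 4 := hD
    have h1 : f = 2 * g := by omega
    subst h1
    rw [pw, eL2, dSz, one_mul] at hc
    exact ar_L2Sz hqY (dL2 _) hc
  · -- L2, Ree
    have h2 : f * 2 = g * 6 := hD
    have h1 : f = 3 * g := by omega
    subst h1
    rw [pw, eL2, dRee, one_mul] at hc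
    exact ar_L2Ree hqY (dL2 _) hc
  · -- U3, Ree
    have h2 : f * 6 = g * 6 := hD
    have h1 : f = g := by omega
    subst h1
    rw [eU3, dRee, one_mul] at hc
    have hok : p = 3 ∧ Odd f ∧ 3 ≤ f := hY.ok
    refine ar_U3Ree ?_ (dU3 _) hc
    rw [hok.1]; exact Nat.le_self_pow (by omega) 3
  · -- U3, Sz
    have h2 : f * 6 = g * 4 := hD
    obtain ⟨k, hk⟩ : ∃ k, g = 3 * k := ⟨g / 3, by omega⟩
    have h1 : f = 2 * k := by omega
    subst h1 hk
    have ht : 2 ≤ p ^ k := hp.two_le.trans (Nat.le_self_pow (by omega) p)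
    rw [pw, pw, eU3, dSz, one_mul] at hc
    exact ar_U3Sz ht (dU3 _) hc
  · -- Sz, Ree
    have h1 : p = 2 ∧ Odd f ∧ 3 ≤ f := hX.ok
    have h2 : p = 3 ∧ Odd g ∧ 3 ≤ g := hY.ok
    omega
  · -- C2, G2
    have h2 : f * 4 = g * 6 := hD
    obtain ⟨k, hk⟩ : ∃ k, g = 2 * k := ⟨g / 2, by omega⟩
    have h1 : f = 3 * k := by omega
    subst h1 hk
    have ht : 2 ≤ p ^ k := hp.two_le.trans (Nat.le_self_pow (by omega) p)
    rw [pw, pw, eC2, dG2, one_mul] at hc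
    exact ar_C2G2 ht (dC2 _) hc
  · -- C2, TD4
    have h2 : f * 4 = g * 12 := hD
    have h1 : f = 3 * g := by omega
    subst h1
    rw [pw, eC2, dTD4, one_mul] at hc
    exact ar_C2TD4 hqY (dC2 _) hc
  · -- C2, TF4
    have h2 : f * 4 = g * 12 := hD
    have h1 : f = 3 * g := by omega
    subst h1
    rw [pw, eC2, dTF4, one_mul] at hc
    exact ar_C2TF4 hqY (dC2 _) hc
  · -- G2, TD4
    have h2 : f * 6 = g * 12 := hD
    have h1 : f = 2 * g := by omega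
    subst h1
    rw [pw, dTD4, dG2, one_mul, one_mul] at hc
    exact ar_G2TD4 hqY hc
  · -- G2, TF4
    have h2 : f * 6 = g * 12 := hD
    have h1 : f = 2 * g := by omega
    subst h1
    rw [pw, dTF4, dG2, one_mul, one_mul] at hc
    exact ar_G2TF4 hqY hc
  · -- TD4, TF4
    have h2 : f * 12 = g * 12 := hD
    have h1 : f = g := by omega
    subst h1
    rw [dTF4, dTD4, one_mul, one_mul] at hc
    exact ar_TD4TF4 hqY hc

end Cfsg.Agent.H902.Art
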