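import Cfsg.Agent.OrdDiv.Main
import Cfsg.Agent.LieClassical.FieldTransfer
import Cfsg.Agent.UGT.U2.Rec.Congr
import Cfsg.Agent.ClassicalGeometry.OddInvolutions
import Cfsg.Agent.TypeD4Two.FieldIso
import Cfsg.Agent.H902.Binary

/-!
# Known simple groups with the same name are isomorphic
-/

set_option autoImplicit false

namespace Cfsg.Agent.H902.Iso

open Cfsg Cfsg.Lie Cfsg.Agent.OrdDiv Matrix
open Cfsg.Agent.TypeD4Two.FieldIso Cfsg.Agent.H902.Binary
open Cfsg.Agent.UGT.U2.Rec.Congr (nonempty_POmega)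

universe u v

/-! ### matrix groups generated by sets of matrices -/

section gen

variable {F K : Type*} [Field F] [Field K] {ι : Type} [Fintype ι] [DecidableEq ι]

theorem glmap_injective (σ : F ≃+* K) : Function.Injective (Matrix.GeneralLinearGroup.map (n := ι) σ.toRingHom) := by
  intro g h hgh
  apply Units.ext
  ext i j
  have h1 := congrFun (congrFun (congrArg (fun x : GL ι K => (x : Matrix ι ι K)) hgh) i) j
  exact σ.injective h1

theorem closure_map (σ : F ≃+* K) (S : Set (Matrix ι ι F)) (S' : Set (Matrix ι ι K))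
    (h : ∀ M : Matrix ι ι F, M ∈ S ↔ M.map σ ∈ S') :
    (Subgroup.closure {g : GL ι F | (g : Matrix ι ι F) ∈ S}).map (Matrix.GeneralLinearGroup.map (n := ι) σ.toRingHom) =
      Subgroup.closure {g : GL ι K | (g : Matrix ι ι K) ∈ S'} := by
  rw [MonoidHom.map_closure]
  congr 1
  ext g
  constructor
  · rintro ⟨g, hg, rfl⟩
    exact (h _).1 hg
  · intro hg
    refine ⟨Matrix.GeneralLinearGroup.map (n := ι) σ.symm.toRingHom g, ?_, ?_⟩
    · have h1 : ((Matrix.GeneralLinearGroup.map (n := ι) σ.symm.toRingHom g : GL ι F) : Matrix ι ι F) =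
        (g : Matrix ι ι K).map σ.symm := rfl
      show _ ∈ S
      rw [h1, h]
      have h2 : ((g : Matrix ι ι K).map σ.symm).map σ = (g : Matrix ι ι K) := by
        ext i j
        simp
      rw [h2]
      exact hg
    · apply Units.ext
      ext i j
      change σ (σ.symm ((g : Matrix ι ι K) i j)) = _
      rw [σ.apply_symm_apply]

theorem closure_congr (σ : F ≃+* K) (S : Set (Matrix ι ι F)) (S' : Set (Matrix ι ι K))
    (h : ∀ M : Matrix ι ι F, M ∈ S ↔ M.map σ ∈ S') :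
    Nonempty (↥(Subgroup.closure {g : GL ι F | (g : Matrix ι ι F) ∈ S}) ≃*
      ↥(Subgroup.closure {g : GL ι K | (g : Matrix ι ι K) ∈ S'})) :=
  ⟨(Subgroup.equivMapOfInjective _ _ (glmap_injective (ι := ι) σ)).trans
    (MulEquiv.subgroupCongr (closure_map σ S S' h))⟩

end gen

section fields

variable {F K : Type*} [Field F] [Field K] (σ : F ≃+* K)

/-! ### Chevalley groups -/

include σ in
theorem chev_congr (D : ChevalleyDatum) : Nonempty (↥(D.group F) ≃* ↥(D.group K)) := by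
  have h : (D.group F).map (Matrix.GeneralLinearGroup.map (n := D.Idx) σ.toRingHom) = D.group K := by
    unfold ChevalleyDatum.group
    rw [MonoidHom.map_closure]
    congr 1
    ext g
    constructor
    · rintro ⟨g, ⟨r, t, hg⟩, rfl⟩
      refine ⟨r, σ t, ?_⟩
      rw [← xMat_map, ← hg]
      rfl
    · rintro ⟨r, t, hg⟩
      refine ⟨Matrix.GeneralLinearGroup.map (n := D.Idx) σ.symm.toRingHom g, ⟨r, σ.symm t, ?_⟩, ?_⟩
      · have h1 : ((Matrix.GeneralLinearGroup.map (n := D.Idx) σ.symm.toRingHom g : GL D.Idx F) :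
            Matrix D.Idx D.Idx F) = (g : Matrix D.Idx D.Idx K).map σ.symm := rfl
        rw [h1, hg]
        exact xMat_map σ.symm D r t
      · apply Units.ext
        ext i j
        change σ (σ.symm ((g : Matrix D.Idx D.Idx K) i j)) = _
        rw [σ.apply_symm_apply]
  exact ⟨((D.group F).equivMapOfInjective _ (map_injective' σ D)).trans (MulEquiv.subgroupCongr h)⟩

theorem gen_congr (D : ChevalleyDatum) {S : Set (List (ℕ × F))} {S' : Set (List (ℕ × K))}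
    (h : mapW σ '' S = S') : Nonempty (↥(D.genSubgroup F S) ≃* ↥(D.genSubgroup K S')) :=
  ⟨((D.genSubgroup F S).equivMapOfInjective _ (map_injective' σ D)).trans
    (MulEquiv.subgroupCongr (by rw [genSubgroup_map, h]))⟩

theorem e6Words_map (q : ℕ) : mapW σ '' e6Words F q = e6Words K q := by
  apply Set.eq_of_subset_of_subset
  · rintro _ ⟨w, hw, rfl⟩
    rcases hw with ⟨t, ht, r, hr, rfl⟩ | ⟨t, rs, hrs, rfl⟩
    · exact Or.inl ⟨σ t, by rw [← map_pow, ht], r, hr, rfl⟩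
    · exact Or.inr ⟨σ t, rs, hrs, by simp [mapW]⟩
  · rintro w hw
    rcases hw with ⟨t, ht, r, hr, rfl⟩ | ⟨t, rs, hrs, rfl⟩
    · exact ⟨[(r, σ.symm t)], Or.inl ⟨σ.symm t, by rw [← map_pow, ht], r, hr, rfl⟩, by simp [mapW]⟩
    · exact ⟨[(rs.1, σ.symm t), (rs.2, σ.symm t ^ q)], Or.inr ⟨σ.symm t, rs, hrs, rfl⟩, by simp [mapW]⟩

theorem f4Words_sub (e : ℕ) {w : List (ℕ × F)} (hw : w ∈ f4Words F e) : mapW σ w ∈ f4Words K e := by
  rcases hw with ⟨t, ht | ht⟩ | ⟨t, u, ht | ht⟩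
  · exact Or.inl ⟨σ t, Or.inl (by rw [ht]; simp [mapW, f4PairWord])⟩
  · exact Or.inl ⟨σ t, Or.inr (by rw [ht]; simp [mapW, f4PairWord])⟩
  · exact Or.inr ⟨σ t, σ u, Or.inl (by rw [ht]; simp [mapW, b2ClassWord])⟩
  · exact Or.inr ⟨σ t, σ u, Or.inr (by rw [ht]; simp [mapW, b2ClassWord])⟩

theorem g2Words_sub (e : ℕ) {w : List (ℕ × F)} (hw : w ∈ g2Words F e) : mapW σ w ∈ g2Words K e := by
  obtain ⟨t, u, v, ht | ht⟩ := hw
  · exact ⟨σ t, σ u, σ v, Or.inl (by rw [ht]; simp [mapW, reeWordU])⟩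
  · exact ⟨σ t, σ u, σ v, Or.inr (by rw [ht]; simp [mapW, reeWordV, reeWordU, ChevalleyDatum.negWord])⟩

theorem mapW_symm (w : List (ℕ × K)) : mapW σ (mapW σ.symm w) = w := by
  unfold mapW
  rw [List.map_map]
  conv_rhs => rw [← List.map_id w]
  apply List.map_congr_left
  rintro ⟨a, b⟩ _
  simp

theorem f4Words_map (e : ℕ) : mapW σ '' f4Words F e = f4Words K e := by
  apply Set.eq_of_subset_of_subset
  · rintro _ ⟨w, hw, rfl⟩
    exact f4Words_sub σ e hw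
  · intro w hw
    exact ⟨mapW σ.symm w, f4Words_sub σ.symm e hw, mapW_symm σ w⟩

theorem g2Words_map (e : ℕ) : mapW σ '' g2Words F e = g2Words K e := by
  apply Set.eq_of_subset_of_subset
  · rintro _ ⟨w, hw, rfl⟩
    exact g2Words_sub σ e hw
  · intro w hw
    exact ⟨mapW σ.symm w, g2Words_sub σ.symm e hw, mapW_symm σ w⟩

/-! ### the Suzuki groups -/

/-- entrywise application of a field isomorphism -/
noncomputable def glEquiv : GL (Fin 4) F ≃* GL (Fin 4) K :=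
  Units.mapEquiv (σ.mapMatrix (m := Fin 4)).toMulEquiv

theorem glEquiv_val (g : GL (Fin 4) F) :
    ((glEquiv σ g : GL (Fin 4) K) : Matrix (Fin 4) (Fin 4) K) = (g : Matrix (Fin 4) (Fin 4) F).map σ := rfl

theorem glEquiv_symm (g : GL (Fin 4) K) : (glEquiv σ).symm g = glEquiv σ.symm g := by
  apply (glEquiv σ).injective
  rw [MulEquiv.apply_symm_apply]
  apply Units.ext
  ext i j
  rw [glEquiv_val, glEquiv_val]
  simp

theorem alt_map (u v : Fin 4 → F) :
    Cfsg.Lie.altForm4 (fun i => σ (u i)) (fun i => σ (v i)) = σ (Cfsg.Lie.altForm4 u v) := by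
  unfold Cfsg.Lie.altForm4
  simp only [map_add, map_mul]

theorem star_map (g : Matrix (Fin 4) (Fin 4) F) :
    Cfsg.Lie.star4 (g.map σ) = (Cfsg.Lie.star4 g).map σ := by
  ext i j
  simp only [Cfsg.Lie.star4, Matrix.of_apply, Matrix.map_apply, map_sub, map_mul]

theorem sp_map {g : GL (Fin 4) F} (hg : g ∈ Cfsg.Lie.Sp4 F) : glEquiv σ g ∈ Cfsg.Lie.Sp4 K := by
  intro u v
  have key : ∀ w : Fin 4 → K, (Units.coeHom (Matrix (Fin 4) (Fin 4) K) (glEquiv σ g)) *ᵥ w =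
      fun i => σ (((Units.coeHom (Matrix (Fin 4) (Fin 4) F) g) *ᵥ (fun i => σ.symm (w i))) i) := by
    intro w
    funext i
    show ((g : Matrix (Fin 4) (Fin 4) F).map σ *ᵥ w) i = σ (((g : Matrix (Fin 4) (Fin 4) F) *ᵥ (fun i => σ.symm (w i))) i)
    simp only [Matrix.mulVec, dotProduct, Matrix.map_apply, map_sum, map_mul, RingEquiv.apply_symm_apply]
  rw [key, key, alt_map, hg]
  have h1 := alt_map σ (fun i => σ.symm (u i)) (fun i => σ.symm (v i))
  rw [← h1]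
  simp

theorem sz_map_le (e : ℕ) : (Cfsg.Lie.Sz F e).map (glEquiv σ).toMonoidHom ≤ Cfsg.Lie.Sz K e := by
  rw [Subgroup.map_le_iff_le_comap]
  unfold Cfsg.Lie.Sz
  rw [Subgroup.closure_le]
  rintro g ⟨h1, h2⟩
  refine Subgroup.subset_closure ⟨sp_map σ h1, ?_⟩
  show Cfsg.Lie.star4 ((g : Matrix (Fin 4) (Fin 4) F).map σ) = ((g : Matrix (Fin 4) (Fin 4) F).map σ).map (fun x => x ^ e)
  rw [star_map, h2]
  ext i j
  simp

include σ in
theorem sz_congr (e : ℕ) : Nonempty (↥(Cfsg.Lie.Sz F e) ≃* ↥(Cfsg.Lie.Sz K e)) := by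
  have h1 : (Cfsg.Lie.Sz F e).map (glEquiv σ).toMonoidHom = Cfsg.Lie.Sz K e := by
    refine le_antisymm (sz_map_le σ e) ?_
    intro x hx
    refine ⟨(glEquiv σ).symm x, ?_, ?_⟩
    · rw [glEquiv_symm]
      exact sz_map_le σ.symm e ⟨x, hx, rfl⟩
    · exact (glEquiv σ).apply_symm_apply x
  exact ⟨((glEquiv σ).subgroupMap (Cfsg.Lie.Sz F e)).trans (MulEquiv.subgroupCongr h1)⟩

/-! ### the orthogonal groups of minus type -/

theorem minus_map (m : ℕ) (a b : F) (v : (Fin m ⊕ Fin m) ⊕ Fin 2 → F) :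
    quadFormMinus m K (σ a) (σ b) (σ ∘ v) = σ (quadFormMinus m F a b v) := by
  simp [quadFormMinus, map_add, map_sum, map_mul, map_pow]

theorem plus_map (m : ℕ) (v : Fin m ⊕ Fin m → F) : quadFormPlus m K (σ ∘ v) = σ (quadFormPlus m F v) := by
  simp [quadFormPlus, map_sum, map_mul]

theorem aniso_map {a b : F} (h : Aniso a b) : Aniso (σ a) (σ b) := by
  intro z₁ z₂ hz
  have h1 : (σ.symm z₁) ^ 2 + a * σ.symm z₁ * σ.symm z₂ + b * (σ.symm z₂) ^ 2 = 0 := by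
    apply σ.injective
    rw [map_zero]
    simpa using hz
  obtain ⟨h2, h3⟩ := h _ _ h1
  exact ⟨by simpa using h2, by simpa using h3⟩

end fields

section minus

variable {F : Type*} [Field F]

/-- the change of coordinates -/
def chM (m : ℕ) (s t : F) : Matrix ((Fin m ⊕ Fin m) ⊕ Fin 2) ((Fin m ⊕ Fin m) ⊕ Fin 2) F :=
  Matrix.fromBlocks 1 0 0 !![1, s; 0, t]

theorem det_chM (m : ℕ) (s t : F) : (chM m s t).det = t := by
  unfold chM
  rw [Matrix.det_fromBlocks_zero₂₁, Matrix.det_one, one_mul, Matrix.det_fin_two_of]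
  ring

theorem minus_chM (m : ℕ) {a b a' b' s t : F} (h1 : 2 * s + a * t = a') (h2 : s ^ 2 + a * s * t + b * t ^ 2 = b')
    (v : (Fin m ⊕ Fin m) ⊕ Fin 2 → F) :
    quadFormMinus m F a b (chM m s t *ᵥ v) = quadFormMinus m F a' b' v := by
  unfold chM
  rw [Matrix.fromBlocks_mulVec]
  unfold quadFormMinus
  simp only [Sum.elim_inl, Sum.elim_inr, Matrix.one_mulVec, Matrix.zero_mulVec, add_zero,
    zero_add, Function.comp_apply, Matrix.mulVec, dotProduct, Fin.sum_univ_two, Matrix.of_apply, Matrix.cons_val_zero,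
    Matrix.cons_val_one, Matrix.cons_val', Matrix.cons_val_fin_one]
  rw [← h1, ← h2]
  ring

theorem minus_congr [Finite F] (m : ℕ) {a b a' b' : F} (h : Aniso a b) (h' : Aniso a' b') :
    Nonempty (POmega F (quadFormMinus m F a b) ≃* POmega F (quadFormMinus m F a' b')) := by
  obtain ⟨s, t, ht, h1, h2⟩ := exists_change h h'
  have hP : (chM m s t).det ≠ 0 := by rw [det_chM]; exact ht
  have e := Cfsg.Agent.ClassicalGeometry.OddInvolutions.pomega_congr (quadFormMinus m F a b)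
    (Matrix.GeneralLinearGroup.mkOfDetNeZero (chM m s t) hP)
  have h3 : (fun v => quadFormMinus m F a b
      ((Matrix.GeneralLinearGroup.mkOfDetNeZero (chM m s t) hP : GL _ F) *ᵥ v)) = quadFormMinus m F a' b' := by
    funext v
    exact minus_chM m h1 h2 v
  rw [h3] at e
  obtain ⟨f⟩ := e
  exact ⟨f.symm⟩

end minus

/-! ### the Janko group `J₃` -/

section j3

open Cfsg.Spor

variable {F K : Type*} [Field F] [Field K] (σ : F ≃+* K)

theorem j3Gens_map (ω : F) {M : Matrix F9 F9 F} (h : M ∈ j3Gens F ω) : M.map σ ∈ j3Gens K (σ ω) := by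
  rcases h with (((h | h) | h) | h) | h
  · obtain ⟨Z, rfl⟩ := h
    left; left; left; left
    refine ⟨Z, ?_⟩
    unfold j3A omegaPow
    rw [Matrix.diagonal_map (map_zero σ)]
    congr 1
    funext z
    simp
  · obtain ⟨Z, rfl⟩ := h
    left; left; left; right
    refine ⟨Z, ?_⟩
    unfold j3E omegaPow
    rw [Matrix.diagonal_map (map_zero σ)]
    congr 1
    funext z
    simp
  · obtain ⟨Z, rfl⟩ := h
    left; left; right
    refine ⟨Z, ?_⟩
    ext i j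
    simp only [j3D, j3Lam, Matrix.of_apply, Matrix.map_apply]
    split_ifs <;> simp
  · obtain ⟨Z, hZ, rfl⟩ := h
    left; right
    refine ⟨Z, hZ, ?_⟩
    ext i j
    simp only [j3B, Matrix.of_apply, Matrix.map_apply]
    split_ifs <;> simp
  · obtain ⟨Z, hZ, rfl⟩ := h
    right
    refine ⟨Z, hZ, ?_⟩
    ext i j
    simp only [j3C, Matrix.of_apply, Matrix.map_apply]
    split_ifs <;> simp

theorem j3Gens_map_iff (ω : F) (M : Matrix F9 F9 F) : M ∈ j3Gens F ω ↔ M.map σ ∈ j3Gens K (σ ω) := by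
  refine ⟨j3Gens_map σ ω, fun h => ?_⟩
  have h1 := j3Gens_map σ.symm (σ ω) h
  rw [σ.symm_apply_apply] at h1
  have h2 : (M.map σ).map σ.symm = M := by
    ext i j
    simp
  rwa [h2] at h1

theorem j3_congr (ω : F) : Nonempty (J3 F ω ≃* J3 K (σ ω)) := by
  obtain ⟨f⟩ := closure_congr σ (j3Gens F ω) (j3Gens K (σ ω)) (j3Gens_map_iff σ ω)
  exact ⟨Cfsg.Agent.LieClassical.FieldTransfer.centralQuotientCongr f⟩

theorem exists_sigma [Fintype F] [Fintype K] (hF : Fintype.card F = 4) (hK : Fintype.card K = 4) {ω : F} {ω' : K}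
    (hω : ω ^ 2 + ω + 1 = 0) (hω' : ω' ^ 2 + ω' + 1 = 0) : ∃ σ : F ≃+* K, σ ω = ω' := by
  have e : F ≃+* K := FiniteField.ringEquivOfCardEq (hF.trans hK.symm)
  have h2 : (2 : K) = 0 := by
    have h4 : ((Fintype.card K : ℕ) : K) = 0 := FiniteField.cast_card_eq_zero K
    rw [hK] at h4
    have : ((4 : ℕ) : K) = 2 * 2 := by norm_num
    rw [this] at h4
    exact mul_self_eq_zero.1 h4
  have h1 : (e ω) ^ 2 + e ω + 1 = 0 := by
    have := congrArg e hω
    simpa using this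
  have h3 : (e ω - ω') * (e ω + ω' + 1) = 0 := by linear_combination h1 - hω'
  rcases mul_eq_zero.1 h3 with h | h
  · exact ⟨e, sub_eq_zero.1 h⟩
  · have hch : CharP K 2 := CharTwo.of_one_ne_zero_of_two_eq_zero one_ne_zero h2
    have : Fact (Nat.Prime 2) := ⟨Nat.prime_two⟩
    refine ⟨e.trans (frobeniusEquiv K 2), ?_⟩
    change (e ω) ^ 2 = ω'
    linear_combination h1 - h

theorem j3_unique {S : Type u} {T : Type v} [Group S] [Group T] (hS : IsoJ3 S) (hT : IsoJ3 T) : Nonempty (S ≃* T) := by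
  obtain ⟨F, _, _, ω, hF, hω, ⟨e⟩⟩ := hS
  obtain ⟨K, _, _, ω', hK, hω', ⟨e'⟩⟩ := hT
  obtain ⟨σ, rfl⟩ := exists_sigma hF hK hω hω'
  obtain ⟨f⟩ := j3_congr σ ω
  exact ⟨(e.trans f).trans e'.symm⟩

end j3

/-- **Same name, same group.** -/
theorem real_unique : ∀ (g : Grp) {S : Type u} {T : Type v} [Group S] [Group T], OrdDiv.Real g S → OrdDiv.Real g T →
    Nonempty (S ≃* T) := by
  have tr : ∀ {A B : Type} [Group A] [Group B] {S : Type u} {T : Type v} [Group S] [Group T],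
      Nonempty (S ≃* A) → Nonempty (T ≃* B) → Nonempty (A ≃* B) → Nonempty (S ≃* T) :=
    fun ⟨e⟩ ⟨e'⟩ ⟨f⟩ => ⟨(e.trans f).trans e'.symm⟩
  intro g S T _ _ h h'
  cases g with
  | alt n => exact tr h h' ⟨MulEquiv.refl _⟩
  | psl n q =>
    obtain ⟨F, _, _, hF, e⟩ := h
    obtain ⟨K, _, _, hK, e'⟩ := h'
    exact tr e e' ⟨LieClassical.FieldTransfer.pslCongr (FiniteField.ringEquivOfCardEq (hF.trans hK.symm))⟩
  | psp n q =>
    obtain ⟨F, _, _, hF, e⟩ := h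
    obtain ⟨K, _, _, hK, e'⟩ := h'
    exact tr e e' ⟨LieClassical.FieldTransfer.pspCongr n (FiniteField.ringEquivOfCardEq (hF.trans hK.symm))⟩
  | psu n q =>
    obtain ⟨F, _, _, hF, e⟩ := h
    obtain ⟨K, _, _, hK, e'⟩ := h'
    exact tr e e' ⟨LieClassical.FieldTransfer.psuCongr n q (FiniteField.ringEquivOfCardEq (hF.trans hK.symm))⟩
  | oodd n q =>
    obtain ⟨F, _, _, hF, e⟩ := h
    obtain ⟨K, _, _, hK, e'⟩ := h'
    exact tr e e' (UGT.U2.Rec.Congr.nonempty_POmegaOdd (FiniteField.ringEquivOfCardEq (hF.trans hK.symm)) n)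
  | oplus n q =>
    obtain ⟨F, _, _, hF, e⟩ := h
    obtain ⟨K, _, _, hK, e'⟩ := h'
    exact tr e e' (nonempty_POmega _ (plus_map (FiniteField.ringEquivOfCardEq (hF.trans hK.symm)) n))
  | ominus n q =>
    obtain ⟨F, _, _, a, b, hF, hab, e⟩ := h
    obtain ⟨K, _, _, a', b', hK, hab', e'⟩ := h'
    obtain ⟨f⟩ := nonempty_POmega _ (minus_map (FiniteField.ringEquivOfCardEq (hF.trans hK.symm)) (n - 1) a b)
    obtain ⟨f'⟩ := minus_congr (n - 1) (aniso_map (FiniteField.ringEquivOfCardEq (hF.trans hK.symm)) hab) hab'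
    exact tr e e' ⟨f.trans f'⟩
  | g2 q =>
    obtain ⟨F, _, _, hF, e⟩ := h
    obtain ⟨K, _, _, hK, e'⟩ := h'
    exact tr e e' (chev_congr (FiniteField.ringEquivOfCardEq (hF.trans hK.symm)) _)
  | f4 q =>
    obtain ⟨F, _, _, hF, e⟩ := h
    obtain ⟨K, _, _, hK, e'⟩ := h'
    exact tr e e' (chev_congr (FiniteField.ringEquivOfCardEq (hF.trans hK.symm)) _)
  | e6 q =>
    obtain ⟨F, _, _, hF, e⟩ := h
    obtain ⟨K, _, _, hK, e'⟩ := h'
    exact tr e e' (chev_congr (FiniteField.ringEquivOfCardEq (hF.trans hK.symm)) _)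
  | e7 q =>
    obtain ⟨F, _, _, hF, e⟩ := h
    obtain ⟨K, _, _, hK, e'⟩ := h'
    exact tr e e' (chev_congr (FiniteField.ringEquivOfCardEq (hF.trans hK.symm)) _)
  | e8 q =>
    obtain ⟨F, _, _, hF, e⟩ := h
    obtain ⟨K, _, _, hK, e'⟩ := h'
    exact tr e e' (chev_congr (FiniteField.ringEquivOfCardEq (hF.trans hK.symm)) _)
  | te6 q =>
    obtain ⟨F, _, _, hF, e⟩ := h
    obtain ⟨K, _, _, hK, e'⟩ := h'
    exact tr e e' (gen_congr _ _ (e6Words_map (FiniteField.ringEquivOfCardEq (hF.trans hK.symm)) q))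
  | td4 q =>
    obtain ⟨F, _, _, hF, e⟩ := h
    obtain ⟨K, _, _, hK, e'⟩ := h'
    exact tr e e' (gen_congr _ _ (d4Words_map (FiniteField.ringEquivOfCardEq (hF.trans hK.symm)) q))
  | sz q =>
    obtain ⟨F, _, _, m, hm, hF, hq, e⟩ := h
    obtain ⟨K, _, _, m', hm', hK, hq', e'⟩ := h'
    have hmm : m = m' := by
      have := Nat.pow_right_injective (le_refl 2) (hq.symm.trans hq')
      omega
    subst hmm
    exact tr e e' (sz_congr (FiniteField.ringEquivOfCardEq (hF.trans hK.symm)) _)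
  | ree q =>
    obtain ⟨F, _, _, m, hm, hF, hq, e⟩ := h
    obtain ⟨K, _, _, m', hm', hK, hq', e'⟩ := h'
    have hmm : m = m' := by
      have := Nat.pow_right_injective (by norm_num : 2 ≤ 3) (hq.symm.trans hq')
      omega
    subst hmm
    exact tr e e' (gen_congr _ _ (g2Words_map (FiniteField.ringEquivOfCardEq (hF.trans hK.symm)) _))
  | tf4 q =>
    obtain ⟨F, _, _, m, hm, hF, hq, e⟩ := h
    obtain ⟨K, _, _, m', hm', hK, hq', e'⟩ := h'
    have hmm : m = m' := by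
      have := Nat.pow_right_injective (le_refl 2) (hq.symm.trans hq')
      omega
    subst hmm
    exact tr e e' (gen_congr _ _ (f4Words_map (FiniteField.ringEquivOfCardEq (hF.trans hK.symm)) _))
  | j3 => exact j3_unique h h'
  | tits => obtain ⟨e⟩ := h; obtain ⟨e'⟩ := h'; exact ⟨e.trans e'.symm⟩
  | m11 => obtain ⟨e⟩ := h; obtain ⟨e'⟩ := h'; exact ⟨e.trans e'.symm⟩
  | m12 => obtain ⟨e⟩ := h; obtain ⟨e'⟩ := h'; exact ⟨e.trans e'.symm⟩
  | m22 => obtain ⟨e⟩ := h; obtain ⟨e'⟩ := h'; exact ⟨e.trans e'.symm⟩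
  | m23 => obtain ⟨e⟩ := h; obtain ⟨e'⟩ := h'; exact ⟨e.trans e'.symm⟩
  | m24 => obtain ⟨e⟩ := h; obtain ⟨e'⟩ := h'; exact ⟨e.trans e'.symm⟩
  | j1 => obtain ⟨e⟩ := h; obtain ⟨e'⟩ := h'; exact ⟨e.trans e'.symm⟩
  | j2 => obtain ⟨e⟩ := h; obtain ⟨e'⟩ := h'; exact ⟨e.trans e'.symm⟩
  | j4 => obtain ⟨e⟩ := h; obtain ⟨e'⟩ := h'; exact ⟨e.trans e'.symm⟩
  | co1 => obtain ⟨e⟩ := h; obtain ⟨e'⟩ := h'; exact ⟨e.trans e'.symm⟩
  | co2 => obtain ⟨e⟩ := h; obtain ⟨e'⟩ := h'; exact ⟨e.trans e'.symm⟩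
  | co3 => obtain ⟨e⟩ := h; obtain ⟨e'⟩ := h'; exact ⟨e.trans e'.symm⟩
  | mcl => obtain ⟨e⟩ := h; obtain ⟨e'⟩ := h'; exact ⟨e.trans e'.symm⟩
  | hs => obtain ⟨e⟩ := h; obtain ⟨e'⟩ := h'; exact ⟨e.trans e'.symm⟩
  | suz => obtain ⟨e⟩ := h; obtain ⟨e'⟩ := h'; exact ⟨e.trans e'.symm⟩
  | he => obtain ⟨e⟩ := h; obtain ⟨e'⟩ := h'; exact ⟨e.trans e'.symm⟩
  | ru => obtain ⟨e⟩ := h; obtain ⟨e'⟩ := h'; exact ⟨e.trans e'.symm⟩
  | on => obtain ⟨e⟩ := h; obtain ⟨e'⟩ := h'; exact ⟨e.trans e'.symm⟩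
  | ly => obtain ⟨e⟩ := h; obtain ⟨e'⟩ := h'; exact ⟨e.trans e'.symm⟩
  | fi22 => obtain ⟨e⟩ := h; obtain ⟨e'⟩ := h'; exact ⟨e.trans e'.symm⟩
  | fi23 => obtain ⟨e⟩ := h; obtain ⟨e'⟩ := h'; exact ⟨e.trans e'.symm⟩
  | fi24 => obtain ⟨e⟩ := h; obtain ⟨e'⟩ := h'; exact ⟨e.trans e'.symm⟩
  | hn => obtain ⟨e⟩ := h; obtain ⟨e'⟩ := h'; exact ⟨e.trans e'.symm⟩
  | th => obtain ⟨e⟩ := h; obtain ⟨e'⟩ := h'; exact ⟨e.trans e'.symm⟩
  | b => obtain ⟨e⟩ := h; obtain ⟨e'⟩ := h'; exact ⟨e.trans e'.symm⟩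
  | m => obtain ⟨e⟩ := h; obtain ⟨e'⟩ := h'; exact ⟨e.trans e'.symm⟩

end Cfsg.Agent.H902.Iso
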