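import Cfsg.Agent.H902.Nice
import Cfsg.Agent.OrdDiv.Table
import Cfsg.Agent.S0000

/-!
# The orders of the finite simple groups (Artin)
-/

set_option autoImplicit false

namespace Cfsg.Agent.H902.Artin

open Cfsg Cfsg.Agent.OrdDiv
open Cfsg.Agent.H902.Names

universe u v

/-- every nonabelian finite simple group has a canonical name -/
theorem exists_nice (S : Type u) [Group S] [Finite S] [IsSimpleGroup S] (hna : ¬ ∀ a b : S, a * b = b * a) :
    ∃ g, OrdDiv.Real g S ∧ Nice g (Nat.card S) :=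
  Names.exists_nice OrdDiv.table S0000.result hna

theorem prime_card {S : Type u} [Group S] [Finite S] [IsSimpleGroup S] (h : ∀ a b : S, a * b = b * a) :
    (Nat.card S).Prime := by
  let _ : CommGroup S := { (inferInstance : Group S) with mul_comm := h }
  exact IsSimpleGroup.prime_card

theorem comm_of_prime {S : Type u} [Group S] (h : (Nat.card S).Prime) : ∀ a b : S, a * b = b * a := by
  have : Fact (Nat.card S).Prime := ⟨h⟩
  have : IsCyclic S := isCyclic_of_prime_card (p := Nat.card S) rfl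
  exact fun a b => (IsCyclic.isMulCommutative (α := S)).is_comm.comm a b

theorem equiv_of_prime {S : Type u} {T : Type v} [Group S] [Group T] (h : Nat.card S = Nat.card T)
    (hp : (Nat.card S).Prime) : Nonempty (S ≃* T) := by
  have : Fact (Nat.card S).Prime := ⟨hp⟩
  have : IsCyclic S := isCyclic_of_prime_card (p := Nat.card S) rfl
  have : IsCyclic T := isCyclic_of_prime_card (p := Nat.card S) h.symm
  exact ⟨mulEquivOfCyclicCardEq h⟩

/-- **Artin's theorem.** Two finite simple groups of the same order are isomorphic, except for `A₈`, `L₃(4)` and for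
`PSp_{2m}(q)`, `Ω_{2m+1}(q)` with `m ≥ 3` and `q` odd. -/
theorem artin {S : Type u} {T : Type v} [Group S] [Finite S] [IsSimpleGroup S] [Group T] [Finite T] [IsSimpleGroup T]
    (h : Nat.card S = Nat.card T) : Nonempty (S ≃* T) ∨
      (OrdDiv.Real (.alt 8) S ∧ OrdDiv.Real (.psl 3 4) T) ∨ (OrdDiv.Real (.psl 3 4) S ∧ OrdDiv.Real (.alt 8) T) ∨
      (∃ m q, 3 ≤ m ∧ Odd q ∧ OrdDiv.Real (.psp m q) S ∧ OrdDiv.Real (.oodd m q) T) ∨
      (∃ m q, 3 ≤ m ∧ Odd q ∧ OrdDiv.Real (.oodd m q) S ∧ OrdDiv.Real (.psp m q) T) := by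
  by_cases hp : (Nat.card S).Prime
  · exact Or.inl (equiv_of_prime h hp)
  · have hS : ¬ ∀ a b : S, a * b = b * a := fun hc => hp (prime_card hc)
    have hT : ¬ ∀ a b : T, a * b = b * a := fun hc => hp (h ▸ prime_card hc)
    obtain ⟨g, hg, hn⟩ := exists_nice S hS
    obtain ⟨g', hg', hn'⟩ := exists_nice T hT
    rw [← h] at hn'
    rcases nice_cmp hn hn' with rfl | ⟨rfl, rfl⟩ | ⟨rfl, rfl⟩ | ⟨m, q, hm, hq, rfl, rfl⟩ | ⟨m, q, hm, hq, rfl, rfl⟩
    · exact Or.inl (Iso.real_unique _ hg hg')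
    · exact Or.inr (Or.inl ⟨hg, hg'⟩)
    · exact Or.inr (Or.inr (Or.inl ⟨hg, hg'⟩))
    · exact Or.inr (Or.inr (Or.inr (Or.inl ⟨m, q, hm, hq, hg, hg'⟩)))
    · exact Or.inr (Or.inr (Or.inr (Or.inr ⟨m, q, hm, hq, hg, hg'⟩)))

end Cfsg.Agent.H902.Artin
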