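import Mathlib
import Cfsg.Agent.H902.MonoCore
import Cfsg.Agent.S0157
import Cfsg.Agent.OddOrderCharacters.Clifford
import Cfsg.Agent.Characters.Linear

/-!
# A proper subgroup gives a nontrivial irreducible representation of degree smaller than the index
-/

set_option autoImplicit false

namespace Cfsg.Agent.H902.MonoDeg

open Cfsg Cfsg.Agent.Characters.Core MulAction

theorem exists_irr {S : Type*} [Group S] [Finite S] [IsSimpleGroup S] (hna : ¬ IsMulCommutative S) (H : Subgroup S)
    (hH : H ≠ ⊤) : ∃ (n : ℕ) (ρ : Representation ℂ S (Fin n → ℂ)), ρ.IsIrreducible ∧ 2 ≤ n ∧ n + 1 ≤ H.index := by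
  classical
  have := Fintype.ofFinite S
  have hX : Finite (S ⧸ H) := inferInstance
  obtain ⟨π, hπ⟩ : ∃ π : S → ℂ, π = fun g : S => (Nat.card (fixedBy (S ⧸ H) g) : ℂ) := ⟨_, rfl⟩
  have hπc : IsCharacter S π := hπ ▸ S0157.isCharacter_fixedBy (S ⧸ H)
  have hπ1 : classInner π 1 = 1 := by
    have := S0157.avg_fixedBy (G := S) (S ⧸ H)
    rw [S0157.card_orbits_of_pretransitive S (S ⧸ H)] at this
    rw [hπ]
    simpa [classInner] using this
  have hc := Cfsg.Agent.OddOrderCharacters.Clifford.isCharacter_sub_irr hπc isIrr_one (by rw [hπ1]; exact one_ne_zero)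
  have hπi : π 1 = (H.index : ℂ) := by
    rw [hπ]
    simp only
    have h3 : fixedBy (S ⧸ H) (1 : S) = Set.univ := by
      ext V; simp
    rw [h3, Nat.card_congr (Equiv.Set.univ (S ⧸ H))]
    rfl
  have hidx : 1 < H.index := by
    have h1 : H.index ≠ 1 := fun h => hH (Subgroup.index_eq_one.1 h)
    have h2 : H.index ≠ 0 := H.index_ne_zero_of_finite
    omega
  have hne : π - 1 ≠ 0 := by
    intro h
    have h1 : (π - 1) 1 = 0 := by rw [h]; rfl
    rw [Pi.sub_apply, hπi, Pi.one_apply, sub_eq_zero] at h1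
    have h2 : H.index = 1 := by exact_mod_cast h1
    omega
  obtain ⟨ψ, hψ, hin⟩ : ∃ ψ : S → ℂ, IsIrrCharacter S ψ ∧ classInner (π - 1) ψ ≠ 0 := by
    by_contra hno
    push Not at hno
    exact hne (classFunction_eq_zero (isCharacter_isClassFunction hc) hno)
  have hc2 := Cfsg.Agent.OddOrderCharacters.Clifford.isCharacter_sub_irr hc hψ hin
  obtain ⟨m, hm⟩ := isCharacter_apply_one hc2
  obtain ⟨n, hn0, hn⟩ := isIrr_apply_one hψ
  have hsum : H.index = n + 1 + m := by
    rw [Pi.sub_apply, Pi.sub_apply, hπi, hn, Pi.one_apply] at hm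
    have : (H.index : ℂ) = ((n + 1 + m : ℕ) : ℂ) := by
      push_cast
      linear_combination hm
    exact_mod_cast this
  have hn2 : n ≠ 1 := by
    rintro rfl
    obtain ⟨g, hg⟩ := Cfsg.Agent.Characters.Linear.exists_hom_of_isIrrCharacter hψ (by simpa using hn)
    have h1 : ψ = 1 := by
      rw [hg]
      funext s
      rw [Cfsg.Agent.H902.Mono.hom_trivial hna g s]
      rfl
    apply hin
    rw [h1, classInner_sub_left, hπ1, classInner_irr_self isIrr_one, sub_self]
  obtain ⟨k, ρ, hρ, hρψ⟩ := hψ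
  have hk : k = n := by
    have h1 : ρ.character 1 = (k : ℂ) := by
      rw [Representation.char_one, Module.finrank_fin_fun]
    rw [hρψ, hn] at h1
    exact_mod_cast h1.symm
  subst hk
  exact ⟨k, ρ, hρ, by omega, by omega⟩

end Cfsg.Agent.H902.MonoDeg
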