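import Cfsg.Agent.H902.MonoRankB
import Cfsg.Agent.H902.MonoTI
import Cfsg.Agent.H902.MonoDeg
import Cfsg.Agent.H410.RankOne
import Cfsg.Agent.Lib.Zsigmondy
import Cfsg.Agent.S1155
import Cfsg.Agent.S1073
import Cfsg.Agent.S2127
import Cfsg.Agent.S2343

/-!
# The small Ree groups (S4572)
-/

set_option autoImplicit false
set_option linter.unusedSectionVars false

namespace Cfsg.Agent.H902.MonoRee

open MulAction Cfsg Cfsg.Agent.H649.MN Cfsg.Agent.H902.Mono Cfsg.Agent.H902.MonoRank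
open scoped Pointwise

/-- A large primitive prime divisor. -/
theorem exists_ppd {p f e : ℕ} (hp : p.Prime) (h3 : 3 ≤ f * e) (h6 : ¬ (p = 2 ∧ f * e = 6)) :
    ∃ l : ℕ, l.Prime ∧ (∀ m, l ∣ (p ^ f) ^ m - 1 ↔ f * e ∣ f * m) ∧ f * e < l ∧ ¬ l ∣ p := by
  obtain ⟨l, hl, h1, h2, h4⟩ := Cfsg.Agent.Lib.Zsigmondy.exists_primitive hp.two_le (by omega : 2 ≤ f * e)
    (fun h => by omega) h6
  refine ⟨l, hl, fun m => ?_, ?_, h4⟩
  · rw [← pow_mul]
    exact h1 _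
  · have h5 := Nat.le_of_dvd (by have := hl.two_le; omega) h2
    have := hl.two_le
    omega

/-- The Sylow 3-subgroups of `²G₂(q)`. -/
theorem sylow {F : Type*} [Field F] [Fintype F] {m : ℕ} (hm : 1 ≤ m) (hF : Fintype.card F = 3 ^ (2 * m + 1))
    (P : Sylow 3 ↥(Cfsg.Lie.twistedG2 F (3 ^ m))) :
      Nat.card P = (3 ^ (2 * m + 1)) ^ 3 ∧
      Nat.card (Sylow 3 ↥(Cfsg.Lie.twistedG2 F (3 ^ m))) = (3 ^ (2 * m + 1)) ^ 3 + 1 ∧
      Nat.card (Subgroup.normalizer ((P : Subgroup ↥(Cfsg.Lie.twistedG2 F (3 ^ m))) :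
        Set ↥(Cfsg.Lie.twistedG2 F (3 ^ m)))) = (3 ^ (2 * m + 1)) ^ 3 * (3 ^ (2 * m + 1) - 1) := by
  have hs := (S1073.result hm hF).1
  have : Fact (Nat.Prime 3) := ⟨Nat.prime_three⟩
  have hcard := ChevalleyStructure.ReeCount.card_twistedG2 hF
  set q : ℕ := 3 ^ (2 * m + 1) with hq
  have hq27 : 27 ≤ q := by
    calc 27 = 3 ^ 3 := by norm_num
      _ ≤ 3 ^ (2 * m + 1) := Nat.pow_le_pow_right (by norm_num) (by omega)
  have hfin : Finite ↥(Cfsg.Lie.twistedG2 F (3 ^ m)) := by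
    apply Nat.finite_of_card_ne_zero
    rw [hcard]
    have : 0 < q - 1 := by omega
    positivity
  have hTI : ∀ P Q : Sylow 3 ↥(Cfsg.Lie.twistedG2 F (3 ^ m)), P ≠ Q →
      (P : Subgroup ↥(Cfsg.Lie.twistedG2 F (3 ^ m))) ⊓ Q = ⊥ := fun P Q hPQ => S1155.result hm hF P Q hPQ
  have h3q : 3 ∣ q := by rw [hq]; exact dvd_pow_self 3 (by omega)
  -- the order of a Sylow subgroup
  have hP : Nat.card P = q ^ 3 := by
    have h1 : Nat.card ↥(Cfsg.Lie.twistedG2 F (3 ^ m)) = 3 ^ ((2 * m + 1) * 3) * ((q - 1) * (q ^ 3 + 1)) := by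
      rw [hcard, pow_mul, ← hq, mul_assoc]
    have h2 : ¬ 3 ∣ (q - 1) * (q ^ 3 + 1) := by
      intro h3
      have hq3 : q % 3 = 0 := Nat.mod_eq_zero_of_dvd h3q
      rcases (Nat.Prime.dvd_mul Nat.prime_three).1 h3 with h4 | h4
      · omega
      · have : q ^ 3 % 3 = 0 := Nat.mod_eq_zero_of_dvd (dvd_pow h3q (by norm_num))
        omega
    have h4 := Sylow.card_eq_multiplicity P
    rw [h4, h1, Nat.factorization_mul (by positivity) (by
      intro h0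
      rw [h0] at h2
      exact h2 (dvd_zero 3)), Nat.Prime.factorization_pow Nat.prime_three]
    simp only [Finsupp.coe_add, Pi.add_apply, Finsupp.single_eq_same]
    rw [Nat.factorization_eq_zero_of_not_dvd h2, add_zero, pow_mul, ← hq]
  have hP1 : (P : Subgroup ↥(Cfsg.Lie.twistedG2 F (3 ^ m))) ≠ ⊥ := by
    intro h1
    have h2 : Nat.card P = 1 := Subgroup.card_eq_one.2 h1
    rw [hP] at h2
    have : 27 ^ 3 ≤ q ^ 3 := Nat.pow_le_pow_left hq27 3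
    omega
  have hN : Subgroup.normalizer ((P : Subgroup ↥(Cfsg.Lie.twistedG2 F (3 ^ m))) : Set ↥(Cfsg.Lie.twistedG2 F (3 ^ m))) ≠ ⊤ := by
    intro h1
    rcases hs.eq_bot_or_eq_top_of_normal _ (Subgroup.normalizer_eq_top_iff.1 h1) with h2 | h2
    · exact hP1 h2
    · have h3 : Nat.card P = Nat.card ↥(Cfsg.Lie.twistedG2 F (3 ^ m)) := by
        rw [← Subgroup.card_top (G := ↥(Cfsg.Lie.twistedG2 F (3 ^ m))), ← h2]
      rw [hP, hcard] at h3
      have h5 : q ^ 3 * 1 < q ^ 3 * ((q - 1) * (q ^ 3 + 1)) := by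
        refine Nat.mul_lt_mul_of_pos_left ?_ (by positivity)
        have : 1 < q - 1 := by omega
        nlinarith [Nat.zero_le (q ^ 3)]
      rw [mul_one, ← mul_assoc] at h5
      omega
  have hcs : Nat.card (Sylow 3 ↥(Cfsg.Lie.twistedG2 F (3 ^ m))) = q ^ 3 + 1 := by
    have h1 : Nat.card (Sylow 3 ↥(Cfsg.Lie.twistedG2 F (3 ^ m))) = (Subgroup.normalizer
        ((P : Subgroup ↥(Cfsg.Lie.twistedG2 F (3 ^ m))) : Set ↥(Cfsg.Lie.twistedG2 F (3 ^ m)))).index :=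
      Sylow.card_eq_index_normalizer P
    obtain ⟨N', hN'⟩ : Nat.card P ∣ Nat.card (Subgroup.normalizer ((P : Subgroup ↥(Cfsg.Lie.twistedG2 F (3 ^ m))) : Set ↥(Cfsg.Lie.twistedG2 F (3 ^ m)))) :=
      Subgroup.card_dvd_of_le Subgroup.le_normalizer
    have h2 := Subgroup.card_mul_index (Subgroup.normalizer ((P : Subgroup ↥(Cfsg.Lie.twistedG2 F (3 ^ m))) : Set ↥(Cfsg.Lie.twistedG2 F (3 ^ m))))
    refine H410.RankOne.arith (N' := N') (by omega) ?_ (hP ▸ H410.RankOne.card_sylow_dvd hTI P) ?_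
    · rw [h1]
      rw [hN', hcard, hP] at h2
      have h3 : 0 < q ^ 3 := by positivity
      apply Nat.eq_of_mul_eq_mul_left h3
      rw [← mul_assoc (q ^ 3) (q - 1), ← h2]
      ring
    · rw [h1]
      intro h3
      exact hN (Subgroup.index_eq_one.1 h3)
  refine ⟨hP, hcs, ?_⟩
  have h1 := card_mul P
  rw [hcs, hcard] at h1
  exact Nat.eq_of_mul_eq_mul_right (by positivity) h1

theorem good_ree {F : Type*} [Field F] [Fintype F] {m : ℕ} (hm : 1 ≤ m) (hF : Fintype.card F = 3 ^ (2 * m + 1))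
    (hgood : Cfsg.Agent.H408.Core.Good 3 ↥(Cfsg.Lie.twistedG2 F (3 ^ m))) :
    GoodMono ↥(Cfsg.Lie.twistedG2 F (3 ^ m)) := by
  have : Fact (Nat.Prime 3) := ⟨Nat.prime_three⟩
  have hs : IsSimpleGroup ↥(Cfsg.Lie.twistedG2 F (3 ^ m)) := (S1073.result hm hF).1
  have hna := (S1073.result hm hF).2
  have hcard := ChevalleyStructure.ReeCount.card_twistedG2 hF
  have hfin : Finite ↥(Cfsg.Lie.twistedG2 F (3 ^ m)) := by
    apply Nat.finite_of_card_ne_zero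
    rw [hcard]
    have : 0 < 3 ^ (2 * m + 1) - 1 := by
      have : 3 ^ 1 ≤ 3 ^ (2 * m + 1) := Nat.pow_le_pow_right (by norm_num) (by omega)
      omega
    positivity
  obtain ⟨P⟩ : Nonempty (Sylow 3 ↥(Cfsg.Lie.twistedG2 F (3 ^ m))) := inferInstance
  obtain ⟨hP, hcs, hN⟩ := sylow hm hF P
  obtain ⟨l, hl, hl1, hl2, hl3⟩ := exists_ppd (p := 3) (f := 2 * m + 1) (e := 6) Nat.prime_three (by omega) (by omega)
  have hdiv : ∀ k, l ∣ (3 ^ (2 * m + 1)) ^ k - 1 ↔ 6 ∣ k := fun k => by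
    rw [hl1, Nat.mul_dvd_mul_iff_left (by omega)]
  set q : ℕ := 3 ^ (2 * m + 1) with hq
  have hq27 : 27 ≤ q := by
    calc 27 = 3 ^ 3 := by norm_num
      _ ≤ 3 ^ (2 * m + 1) := Nat.pow_le_pow_right (by norm_num) (by omega)
  have hlq : l ∣ q ^ 3 + 1 := by
    have h1 : l ∣ q ^ 6 - 1 := (hdiv 6).2 dvd_rfl
    have h2 : q ^ 6 - 1 = (q ^ 3 - 1) * (q ^ 3 + 1) := by
      have h3 : 1 ≤ q ^ 3 := Nat.one_le_pow _ _ (by omega)
      obtain ⟨a, ha⟩ : ∃ a, q ^ 3 = a + 1 := ⟨q ^ 3 - 1, by omega⟩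
      have h4 : q ^ 6 = (a + 1) * (a + 1) := by rw [← ha]; ring
      rw [h4, ha, Nat.add_sub_cancel]
      have h5 : (a + 1) * (a + 1) = a * (a + 1 + 1) + 1 := by ring
      rw [h5, Nat.add_sub_cancel]
    rw [h2] at h1
    rcases hl.dvd_mul.1 h1 with h3 | h3
    · exact absurd ((hdiv 3).1 h3) (by norm_num)
    · exact h3
  have hlN : ¬ l ∣ q ^ 3 * (q - 1) := by
    intro h
    rcases hl.dvd_mul.1 h with h1 | h1
    · exact hl3 (hl.dvd_of_dvd_pow (hl.dvd_of_dvd_pow h1))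
    · have h2 : l ∣ q ^ 1 - 1 := by rwa [pow_one]
      exact absurd ((hdiv 1).1 h2) (by norm_num)
  obtain ⟨x, hxo, hx⟩ := exists_x P hl (by rw [hcs]; exact hlq) (by rw [hN]; exact hlN)
  obtain ⟨c, hc⟩ : ∃ c, c = (2 * m + 1).factorization 3 := ⟨_, rfl⟩
  have hc1 : 3 ^ c ∣ 2 * m + 1 := by rw [hc]; exact Nat.ordProj_dvd _ _
  have hc2 : ¬ 3 ^ (c + 1) ∣ 2 * m + 1 := by rw [hc]; exact Nat.pow_succ_factorization_not_dvd (by omega) Nat.prime_three
  have hc3 : 3 ^ c ≤ 2 * m + 1 := Nat.le_of_dvd (by omega) hc1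
  have hc4 : c < 3 ^ c := Nat.lt_pow_self (by norm_num)
  have hmq : 2 * m + 1 < q := by rw [hq]; exact Nat.lt_pow_self (by norm_num)
  refine good_of (r := 3) hna P (fun P Q hPQ => S1155.result hm hF P Q hPQ) (by rw [hcs, hP]) c
    (by rw [S2127.result hm hF]; exact hc2) ?_ hgood ?_ x hx ?_
  · intro H hH
    obtain ⟨n, ρ, hρ, hn2, hn⟩ := MonoDeg.exists_irr hna H hH
    have h1 := S2343.result m hm hF n ρ hρ hn2
    rw [← hq] at h1
    rw [hN, hP]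
    have h2 : 3 ^ c * (q - 1) < H.index := by
      have h3 : 3 ^ c * (q - 1) ≤ q * (q - 1) := Nat.mul_le_mul_right _ (by omega)
      have h4 : q * (q - 1) = q ^ 2 - q := by
        rw [Nat.mul_sub, mul_one, sq]
      omega
    calc 3 ^ c * (q ^ 3 * (q - 1)) = (3 ^ c * (q - 1)) * q ^ 3 := by ring
      _ < H.index * q ^ 3 := Nat.mul_lt_mul_of_pos_right h2 (by positivity)
  · rw [hP, hq, ← pow_mul]
    exact pow_dvd_pow 3 (by omega)
  · rw [hxo]
    omega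

end Cfsg.Agent.H902.MonoRee
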