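import Mathlib
import Cfsg.Agent.H902.MonoCore
import Cfsg.Agent.H464.AltExt
import Cfsg.Agent.H621.AltChar
import Cfsg.Agent.H202.TwoTransAltC
import Cfsg.Agent.H412.AltIndex
import Cfsg.Agent.H748.JordanTwoPower
import Cfsg.Agent.H529.ManyPrimes

/-!
# Non-monomial characters of almost simple groups with alternating socle (S4572)

`good_alt : 7 ≤ n → GoodMono (alternatingGroup (Fin n))`.

The characters of degree `n - 1` and (`n ≥ 8`) `(n - 1) (n - 2) / 2` are not monomial. For `n = 7` the general lemma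
`Mono.exists_sub` is used with an element of order `7` and the prime `3`.
-/

set_option autoImplicit false
set_option linter.unusedSectionVars false

namespace Cfsg.Agent.H902.MonoAlt

open Cfsg Cfsg.Agent.H649.MN Cfsg.Agent.Characters.Core Equiv MulAction
open Cfsg.Agent.H902.Mono

/-- `C(n, 3) ≤ C(n, k)` in the middle range. -/
theorem choose_three_le {n k : ℕ} (hk : 3 ≤ k) (hn : k + 3 ≤ n) : n.choose 3 ≤ n.choose k := by
  have key : ∀ j, 3 ≤ j → 2 * j ≤ n → n.choose 3 ≤ n.choose j := by
    intro j hj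
    induction j, hj using Nat.le_induction with
    | base => intro _; exact le_rfl
    | succ j hj ih =>
      intro h
      exact (ih (by omega)).trans (Nat.choose_le_succ_of_lt_half_left (by omega))
  rcases le_or_gt (2 * k) n with h | h
  · exact key k hk h
  · have h1 := key (n - k) (by omega) (by omega)
    rwa [Nat.choose_symm (by omega)] at h1

theorem not_choose_dvd {n k : ℕ} (hn : 7 ≤ n) (hk : 1 ≤ k) (hkn : k + 1 ≤ n) :
    ¬ n.choose k ∣ (n - 1) * (n - 2) := by
  intro h
  obtain ⟨m, rfl⟩ : ∃ m, n = m + 3 := ⟨n - 3, by omega⟩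
  have e1 : m + 3 - 1 = m + 2 := rfl
  have e2 : m + 3 - 2 = m + 1 := rfl
  rw [e1, e2] at h
  have c1 : ∀ j, j = 1 ∨ j = m + 2 → (m + 3).choose j = m + 3 := by
    rintro j (rfl | rfl)
    · simp
    · have := Nat.choose_succ_self_right (m + 2)
      simp
  have c2 : ∀ j, j = 2 ∨ j = m + 1 → 2 * (m + 3).choose j = (m + 3) * (m + 2) := by
    have h0 : 2 * (m + 3).choose 2 = (m + 3) * (m + 2) := by
      have := Nat.triangle_succ (m + 2)
      rw [Nat.choose_two_right]
      have h2 : 2 ∣ (m + 3) * (m + 3 - 1) := (Nat.even_mul_pred_self _).two_dvd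
      rw [Nat.mul_div_cancel' h2]
      rfl
    rintro j (rfl | rfl)
    · exact h0
    · have h1 : (m + 3).choose (m + 1) = (m + 3).choose 2 := by
        have := Nat.choose_symm (n := m + 3) (k := 2) (by omega)
        rw [← this]
        rfl
      rw [h1]; exact h0
  rcases Nat.lt_or_ge k 2 with h2 | h2
  · have hk1 : k = 1 := by omega
    rw [c1 k (Or.inl hk1)] at h
    -- m + 3 ∣ (m+2)(m+1) = (m+3) m + 2
    have h3 : m + 3 ∣ 2 := by
      have h4 : (m + 2) * (m + 1) = (m + 3) * m + 2 := by ring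
      rw [h4] at h
      exact (Nat.dvd_add_right (Dvd.intro _ rfl)).1 h
    have := Nat.le_of_dvd (by norm_num) h3
    omega
  rcases Nat.lt_or_ge k 3 with h3 | h3
  · have hk2 : k = 2 := by omega
    have h4 : 2 * (m + 3).choose k ∣ 2 * ((m + 2) * (m + 1)) := Nat.mul_dvd_mul_left 2 h
    rw [c2 k (Or.inl hk2)] at h4
    have h5 : (m + 2) * (m + 3) ∣ (m + 2) * (2 * (m + 1)) := by
      convert h4 using 1 <;> ring
    have h6 := Nat.dvd_of_mul_dvd_mul_left (by omega) h5
    have h7 : m + 3 ∣ 4 := by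
      have h8 : 2 * (m + 1) + 4 = (m + 3) * 2 := by ring
      have h9 : m + 3 ∣ 2 * (m + 1) + 4 := ⟨2, h8⟩
      exact (Nat.dvd_add_right h6).1 h9
    have := Nat.le_of_dvd (by norm_num) h7
    omega
  rcases Nat.lt_or_ge (m + 3) (k + 3) with h4 | h4
  · rcases Nat.lt_or_ge (m + 3) (k + 2) with h5 | h5
    · have hk1 : k = m + 2 := by omega
      rw [c1 k (Or.inr hk1)] at h
      have h3 : m + 3 ∣ 2 := by
        have h4 : (m + 2) * (m + 1) = (m + 3) * m + 2 := by ring
        rw [h4] at h
        exact (Nat.dvd_add_right (Dvd.intro _ rfl)).1 h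
      have := Nat.le_of_dvd (by norm_num) h3
      omega
    · have hk2 : k = m + 1 := by omega
      have h4 : 2 * (m + 3).choose k ∣ 2 * ((m + 2) * (m + 1)) := Nat.mul_dvd_mul_left 2 h
      rw [c2 k (Or.inr hk2)] at h4
      have h5 : (m + 2) * (m + 3) ∣ (m + 2) * (2 * (m + 1)) := by
        convert h4 using 1 <;> ring
      have h6 := Nat.dvd_of_mul_dvd_mul_left (by omega) h5
      have h7 : m + 3 ∣ 4 := by
        have h8 : 2 * (m + 1) + 4 = (m + 3) * 2 := by ring
        have h9 : m + 3 ∣ 2 * (m + 1) + 4 := ⟨2, h8⟩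
        exact (Nat.dvd_add_right h6).1 h9
      have := Nat.le_of_dvd (by norm_num) h7
      omega
  · have h5 := choose_three_le h3 h4
    have h6 := Nat.le_of_dvd (by positivity) h
    have h7 : 6 * (m + 3).choose 3 = (m + 3) * (m + 2) * (m + 1) := by
      have h8 := Nat.descFactorial_eq_factorial_mul_choose (m + 3) 3
      have h9 : (m + 3).descFactorial 3 = (m + 3) * (m + 2) * (m + 1) := by
        simp only [Nat.descFactorial]
        have a1 : m + 3 - 2 = m + 1 := by omega
        have a2 : m + 3 - 1 = m + 2 := by omega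
        have a3 : m + 3 - 0 = m + 3 := by omega
        rw [a1, a2, a3]
        ring
      rw [h9] at h8
      rw [h8]
      rfl
    have h8 : (m + 3) * (m + 2) * (m + 1) ≤ 6 * ((m + 2) * (m + 1)) := by
      rw [← h7]; exact Nat.mul_le_mul_left 6 (h5.trans h6)
    have h9 : 0 < (m + 2) * (m + 1) := by positivity
    nlinarith

/-- A prime between `n / 2` and `n - 3`. -/
theorem exists_prime {n : ℕ} (hn : 8 ≤ n) : ∃ p : ℕ, p.Prime ∧ n < 2 * p ∧ p + 3 ≤ n := by
  rcases Nat.lt_or_ge n 17 with h | h
  · rcases Nat.lt_or_ge n 10 with h1 | h1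
    · exact ⟨5, by norm_num, by omega, by omega⟩
    rcases Nat.lt_or_ge n 14 with h2 | h2
    · exact ⟨7, by norm_num, by omega, by omega⟩
    · exact ⟨11, by norm_num, by omega, by omega⟩
  · obtain ⟨p, q, hp, -, h1, h2, h3⟩ := Cfsg.Agent.H529.ManyPrimes.exists_two_primes h
    exact ⟨p, hp, h1, by omega⟩

section main

variable {n : ℕ} (hn : 7 ≤ n) {A : Type*} [Group A] [Fintype A] (f : alternatingGroup (Fin n) →* A)
  (hf : Function.Injective f) (hN : (f.range).Normal) (hC : Subgroup.centralizer (f.range : Set A) = ⊥)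

include hn hf hN hC in
/-- The action on the points. -/
theorem exists_phi : ∃ φ : A →* Perm (Fin n), Function.Injective φ ∧ ∀ s : alternatingGroup (Fin n), φ (f s) = s := by
  have := hN
  obtain ⟨φ, hφ⟩ := Cfsg.Agent.H464.AltExt.exists_act f.range hn (MonoidHom.ofInjective hf).symm
  have h1 : ∀ s : alternatingGroup (Fin n), φ (f s) = s := by
    intro s
    have h2 := hφ ⟨f s, ⟨s, rfl⟩⟩
    rw [h2]
    congr 1
    rw [MulEquiv.symm_apply_eq]
    rfl
  refine ⟨φ, ?_, h1⟩
  rw [injective_iff_map_eq_one]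
  intro a ha
  have h3 : a ∈ Subgroup.centralizer (f.range : Set A) := by
    rw [Subgroup.mem_centralizer_iff]
    rintro _ ⟨s, rfl⟩
    have h4 : a * f s * a⁻¹ ∈ f.range := hN.conj_mem _ ⟨s, rfl⟩ a
    obtain ⟨t, ht⟩ := h4
    have h5 : φ (f t) = φ (f s) := by
      rw [ht, map_mul, map_mul, ha, map_inv, ha, one_mul, inv_one, mul_one]
    rw [h1, h1] at h5
    have h6 : t = s := Subtype.ext h5
    rw [h6] at ht
    have h7 : f s * a = a * f s := by
      calc f s * a = (a * f s * a⁻¹) * a := by rw [← ht]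
        _ = a * f s := by group
    exact h7
  rw [hC] at h3
  exact h3

end main

section chars

variable {n : ℕ} {A : Type*} [Group A] [Fintype A] (φ : A →* Perm (Fin n))

theorem range_le {f : alternatingGroup (Fin n) →* A} (h : ∀ s : alternatingGroup (Fin n), φ (f s) = s) :
    alternatingGroup (Fin n) ≤ φ.range := fun g hg => ⟨f ⟨g, hg⟩, h ⟨g, hg⟩⟩

/-- The character of degree `(n-1)(n-2)/2`. -/
theorem exists_chi_b (hn : 7 ≤ n) {f : alternatingGroup (Fin n) →* A} (h : ∀ s : alternatingGroup (Fin n), φ (f s) = s) :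
    ∃ χ : A → ℂ, IsIrrCharacter A χ ∧ (∃ s, χ (f s) ≠ χ 1) ∧ ∃ d : ℕ, χ 1 = d ∧ 2 * d = (n - 1) * (n - 2) := by
  classical
  let _ := MulAction.compHom (Fin n) φ
  have hr := range_le φ h
  have h4 : IsMultiplyPretransitive A (Fin n) 4 := Cfsg.Agent.H464.AltExt.four_of_range (by omega) φ hr
  have hcard : Nat.card (Fin n) = n := by simp
  have h5 := Cfsg.Agent.H621.AltChar.irr_b A (Fin n) (by rw [hcard]; omega) h4
  have hev : ∃ d, (n - 1) * (n - 2) = 2 * d := by
    obtain ⟨k, hk⟩ := Nat.even_mul_pred_self (n - 1)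
    refine ⟨k, ?_⟩
    have : n - 2 = n - 1 - 1 := by omega
    rw [this, hk]; ring
  obtain ⟨d, hd⟩ := hev
  have h1 : ((Cfsg.Agent.H621.AltChar.nf (Fin n) (1 : A) : ℂ) ^ 2 - 3 * Cfsg.Agent.H621.AltChar.nf (Fin n) (1 : A) + 2 -
      Cfsg.Agent.H621.AltChar.nu (Fin n) (1 : A)) / 2 = d := by
    rw [Cfsg.Agent.H621.AltChar.nf_one, Cfsg.Agent.H621.AltChar.nu_one, hcard]
    obtain ⟨m, rfl⟩ : ∃ m, n = m + 2 := ⟨n - 2, by omega⟩
    have h6 : ((2 * d : ℕ) : ℂ) = (((m + 2 - 1) * (m + 2 - 2) : ℕ) : ℂ) := by rw [hd]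
    have e1 : m + 2 - 1 = m + 1 := rfl
    have e2 : m + 2 - 2 = m := rfl
    rw [e1, e2] at h6
    push_cast at h6 ⊢
    linear_combination (-1 / 2 : ℂ) * h6
  refine ⟨_, h5, ?_, d, h1, hd.symm⟩
  -- nontrivial
  obtain ⟨s, hs⟩ : ∃ s : alternatingGroup (Fin n), s ≠ 1 := by
    have : Nontrivial (alternatingGroup (Fin n)) := by
      apply alternatingGroup.nontrivial_of_three_le_card
      simp; omega
    exact exists_ne 1
  refine ⟨s, ?_⟩
  rw [h1]
  intro heq
  have hlt : Cfsg.Agent.H621.AltChar.nf (Fin n) (f s) < n := by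
    have h6 : ∃ i : Fin n, ((f s) • i : Fin n) ≠ i := by
      by_contra hcon
      push Not at hcon
      apply hs
      apply Subtype.ext
      apply Equiv.ext
      intro i
      have h7 := hcon i
      change φ (f s) i = i at h7
      rw [h] at h7
      exact h7
    obtain ⟨i, hi⟩ := h6
    have h8 : Nat.card (fixedBy (Fin n) (f s)) < Nat.card (Fin n) := by
      rw [Nat.card_eq_fintype_card, Nat.card_eq_fintype_card]
      exact Fintype.card_subtype_lt (x := i) hi
    rw [Cfsg.Agent.H621.AltChar.nf_eq]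
    rwa [hcard] at h8
  set u := Cfsg.Agent.H621.AltChar.nf (Fin n) (f s)
  set w := Cfsg.Agent.H621.AltChar.nu (Fin n) (f s)
  obtain ⟨m, rfl⟩ : ∃ m, n = m + 2 := ⟨n - 2, by omega⟩
  have e1 : m + 2 - 1 = m + 1 := rfl
  have e2 : m + 2 - 2 = m := rfl
  rw [e1, e2] at hd
  have h9 : (u : ℂ) ^ 2 - 3 * u + 2 - w = ((2 * d : ℕ) : ℂ) := by
    push_cast
    linear_combination 2 * heq
  rw [← hd] at h9
  have h10 : (u : ℤ) ^ 2 - 3 * u + 2 - w = (m + 1) * m := by
    have : (((u : ℤ) ^ 2 - 3 * u + 2 - w : ℤ) : ℂ) = (((m + 1) * m : ℤ) : ℂ) := by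
      push_cast at h9 ⊢
      exact h9
    exact_mod_cast this
  have h11 : (u : ℤ) ≤ m + 1 := by
    have : u ≤ m + 1 := by omega
    exact_mod_cast this
  have h12 : (0 : ℤ) ≤ u := by positivity
  have h13 : (0 : ℤ) ≤ w := by positivity
  have h14 : (5 : ℤ) ≤ m := by
    have : 5 ≤ m := by omega
    exact_mod_cast this
  nlinarith

theorem exists_chi_one (hn : 7 ≤ n) {f : alternatingGroup (Fin n) →* A} (h : ∀ s : alternatingGroup (Fin n), φ (f s) = s) :
    ∃ χ : A → ℂ, IsIrrCharacter A χ ∧ (∃ s, χ (f s) ≠ χ 1) ∧ χ 1 = ((n - 1 : ℕ) : ℂ) := by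
  classical
  have hr := range_le φ h
  have h1 := Cfsg.Agent.H464.AltExt.chi1_irr φ (by omega) hr
  refine ⟨_, h1, ?_, ?_⟩
  · obtain ⟨s, hs⟩ : ∃ s : alternatingGroup (Fin n), s ≠ 1 := by
      have : Nontrivial (alternatingGroup (Fin n)) := by
        apply alternatingGroup.nontrivial_of_three_le_card
        simp; omega
      exact exists_ne 1
    refine ⟨s, ?_⟩
    intro heq
    apply hs
    rw [Cfsg.Agent.H464.AltExt.chi1_one, Cfsg.Agent.H464.AltExt.chi1, h] at heq
    have h2 : ((Nat.card {i : Fin n // (s : Perm (Fin n)) i = i} : ℕ) : ℂ) = (n : ℂ) := by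
      linear_combination heq
    have h3 : Nat.card {i : Fin n // (s : Perm (Fin n)) i = i} = n := by exact_mod_cast h2
    apply Subtype.ext
    apply Equiv.ext
    intro i
    by_contra hi
    have h4 : Fintype.card {i : Fin n // (s : Perm (Fin n)) i = i} < Fintype.card (Fin n) :=
      Fintype.card_subtype_lt (x := i) hi
    rw [Nat.card_eq_fintype_card] at h3
    rw [h3, Fintype.card_fin] at h4
    exact lt_irrefl _ h4
  · rw [Cfsg.Agent.H464.AltExt.chi1_one, Nat.cast_sub (by omega), Nat.cast_one]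

/-- Dichotomy: a subgroup of `S_n` of index dividing `(n-1)(n-2)` contains `A_n` (`n ≥ 8`). -/
theorem alt_le (hn : 8 ≤ n) (K : Subgroup (Perm (Fin n))) (hK : K.index ∣ (n - 1) * (n - 2)) :
    alternatingGroup (Fin n) ≤ K := by
  classical
  obtain ⟨p, hp, h1, h2⟩ := exists_prime hn
  have := Fact.mk hp
  have hpK : p ∣ Nat.card K := by
    have h3 : p ∣ K.index * Nat.card K := by
      rw [K.index_mul_card, Nat.card_perm]
      simp only [Nat.card_eq_fintype_card, Fintype.card_fin]
      exact (hp.dvd_factorial).2 (by omega)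
    rcases hp.dvd_mul.1 h3 with h4 | h4
    · exfalso
      rcases hp.dvd_mul.1 (h4.trans hK) with h5 | h5
      · obtain ⟨k, hk⟩ := h5
        rcases k with _ | _ | k
        · omega
        · omega
        · have : 2 * p ≤ p * (k + 2) := by nlinarith
          have h6 : p * (k + 1 + 1) = p * (k + 2) := rfl
          omega
      · obtain ⟨k, hk⟩ := h5
        rcases k with _ | _ | k
        · omega
        · omega
        · have : 2 * p ≤ p * (k + 2) := by nlinarith
          have h6 : p * (k + 1 + 1) = p * (k + 2) := rfl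
          omega
    · exact h4
  -- transitivity
  have htr : IsPretransitive K (Fin n) := by
    by_contra hnt
    have hne : ∃ x y : Fin n, y ∉ orbit K x := by
      by_contra hcon
      push Not at hcon
      exact hnt ⟨fun x y => hcon x y⟩
    obtain ⟨x, y, hy⟩ := hne
    let s : Finset (Fin n) := Finset.univ.filter fun z => z ∈ orbit K x
    have hs : ∀ h ∈ K, ∀ z ∈ s, h z ∈ s := by
      intro h hh z hz
      rw [Finset.mem_filter] at hz ⊢
      exact ⟨Finset.mem_univ _, (mem_orbit_of_mem_orbit (⟨h, hh⟩ : K) hz.2)⟩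
    have h3 := Cfsg.Agent.H748.JordanTwoPower.choose_dvd_index s hs
    have h4 : 1 ≤ s.card := Finset.card_pos.2 ⟨x, by simp [s]⟩
    have h5 : s.card + 1 ≤ n := by
      have h6 : s.card < (Finset.univ : Finset (Fin n)).card :=
        Finset.card_lt_card (Finset.ssubset_univ_iff.2 fun h => hy (by
          have := Finset.mem_univ y
          rw [← h, Finset.mem_filter] at this
          exact this.2))
      simpa using h6
    exact not_choose_dvd (by omega) h4 h5 (h3.trans hK)
  -- primitivity
  obtain ⟨g, hg⟩ := exists_prime_orderOf_dvd_card' p hpK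
  have hg1 : ∃ x : Fin n, g • x ≠ x := by
    by_contra hcon
    push Not at hcon
    have : g = 1 := by
      apply Subtype.ext
      apply Equiv.ext
      intro i
      exact hcon i
    rw [this, orderOf_one] at hg
    exact hp.one_lt.ne hg
  obtain ⟨x, hx⟩ := hg1
  have hprim : IsPreprimitive K (Fin n) := by
    apply Cfsg.Agent.H412.AltIndex.isPreprimitive_of_prime hp g (fun z => ?_) hx (by simpa using h1)
    rw [← hg, pow_orderOf_eq_one, one_smul]
  exact Cfsg.Agent.H202.TwoTransAlt.alt_le_of_dvd hp (by simpa using h1) (by simp; omega) (by simpa using h2) K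
    hprim hpK

end chars

/-- **The alternating row.** -/
theorem good_alt {n : ℕ} (hn : 7 ≤ n) : GoodMono (alternatingGroup (Fin n)) := by
  classical
  intro A _ _ f hf hN hC _
  have h5 : 5 ≤ Nat.card (Fin n) := by simp; omega
  have hsimple : IsSimpleGroup (alternatingGroup (Fin n)) := alternatingGroup.isSimpleGroup h5
  have hna : ¬ IsMulCommutative (alternatingGroup (Fin n)) := by
    rw [alternatingGroup.isMulCommutative_iff_card_le_three]
    omega
  obtain ⟨φ, hφ, hφf⟩ := exists_phi hn f hf hN hC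
  obtain ⟨χ, hχ, hχn, hχ1⟩ := exists_chi_one φ hn hφf
  have hmin : ∀ K : Subgroup (alternatingGroup (Fin n)), K ≠ ⊤ → n ≤ K.index := by
    intro K hK
    have := Cfsg.Agent.H412.AltIndex.card_le_index h5 K hK
    simpa using this
  have hnm : NonMono f χ := nonMono_of_lt hna f hN hχ hχn hχ1 (fun K hK hd => by
    have h1 := hmin K hK
    have h2 := Nat.le_of_dvd (by omega) hd
    omega)
  rcases Nat.lt_or_ge n 8 with h8 | h8
  · -- n = 7
    have h7 : n = 7 := by omega
    subst h7
    by_contra hcon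
    push Not at hcon
    have hEq : ∀ ψ : A → ℂ, NonMono f ψ → ψ 1 = ((6 : ℕ) : ℂ) := by
      intro ψ hψ
      rw [hcon ψ χ hψ hnm, hχ1]
    have h3 : ¬ 3 ^ (0 + 1) ∣ (f.range).index := by
      have h11 : Nat.card φ.range = Nat.card A := Nat.card_congr (MonoidHom.ofInjective hφ).toEquiv.symm
      have h14 : φ.range.index * Nat.card A = Nat.factorial 7 := by
        rw [← h11, Subgroup.index_mul_card, Nat.card_perm]; simp
      have h15 : (f.range).index * Nat.card f.range = Nat.card A := Subgroup.index_mul_card _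
      have h16 : Nat.card f.range = Nat.card (alternatingGroup (Fin 7)) :=
        Nat.card_congr (MonoidHom.ofInjective hf).toEquiv.symm
      have h17 : 2 * Nat.card (alternatingGroup (Fin 7)) = Nat.factorial 7 := by
        have := two_mul_nat_card_alternatingGroup (α := Fin 7)
        rw [this, Nat.card_perm]; simp
      have h18 : 0 < Nat.card (alternatingGroup (Fin 7)) := Nat.card_pos
      have h19 : φ.range.index * (f.range).index = 2 := by
        apply Nat.eq_of_mul_eq_mul_right h18
        rw [h17, ← h14, ← h15, h16, mul_assoc]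
      rintro ⟨k, hk⟩
      rw [hk] at h19
      have : 3 ∣ 2 := ⟨φ.range.index * k, by rw [← h19]; ring⟩
      omega
    obtain ⟨x, hx1, hx2⟩ := Cfsg.Agent.H412.AltIndex.exists_cycle (α := Fin 7) (r := 7) (by norm_num) (by decide)
      (by simp)
    have hxne : x ≠ 1 := by
      rintro rfl
      simp at hx2
    obtain ⟨H, hH, hxH, hHi⟩ := exists_sub hna f hN Nat.prime_three h3 (D := 6) (by norm_num) hEq hf x hxne
    apply hH
    have hHi' : ¬ 3 ∣ H.index := by simpa using hHi
    obtain ⟨g, hg1, hg2⟩ := Cfsg.Agent.H412.AltIndex.exists_cycle (α := Fin 7) (r := 3) (by norm_num) (by decide)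
      (by simp)
    have hg3 : (g : Perm (Fin 7)).IsThreeCycle := card_support_eq_three_iff.1 hg2
    obtain ⟨y, hy⟩ := Cfsg.Agent.H412.AltIndex.exists_conj_mem H Nat.prime_three hHi' g (m := 1) (by
      apply Subtype.ext
      have := hg3.orderOf
      have h := pow_orderOf_eq_one (g : Perm (Fin 7))
      rw [this] at h
      simpa using h)
    let K : Subgroup (Perm (Fin 7)) := H.map (alternatingGroup (Fin 7)).subtype
    have hxK : (x : Perm (Fin 7)) ∈ K := ⟨x, hxH, rfl⟩
    have htr : IsPretransitive K (Fin 7) := by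
      have hsupp : ∀ i : Fin 7, (x : Perm (Fin 7)) i ≠ i := by
        intro i
        have h1 : (x : Perm (Fin 7)).support = Finset.univ := by
          apply Finset.eq_univ_of_card
          rw [hx2]; simp
        rw [← Perm.mem_support, h1]
        exact Finset.mem_univ i
      refine ⟨fun i j => ?_⟩
      obtain ⟨k, hk⟩ := hx1.exists_zpow_eq (hsupp i) (hsupp j)
      exact ⟨⟨(x : Perm (Fin 7)) ^ k, K.zpow_mem hxK k⟩, hk⟩
    have hprim : IsPreprimitive K (Fin 7) := by
      apply IsPreprimitive.of_prime_card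
      simp only [Nat.card_eq_fintype_card, Fintype.card_fin]
      norm_num
    have hgK : ((y⁻¹ * g * y : alternatingGroup (Fin 7)) : Perm (Fin 7)) ∈ K := ⟨_, hy, rfl⟩
    have hg4 : ((y⁻¹ * g * y : alternatingGroup (Fin 7)) : Perm (Fin 7)).IsThreeCycle := by
      have h1 : ((y⁻¹ * g * y : alternatingGroup (Fin 7)) : Perm (Fin 7)) =
          (y : Perm (Fin 7))⁻¹ * g * ((y : Perm (Fin 7))⁻¹)⁻¹ := by
        simp
      rw [Perm.IsThreeCycle, h1, Perm.cycleType_conj]
      exact hg3
    have h20 := Perm.alternatingGroup_le_of_isPreprimitive_of_isThreeCycle_mem hprim hg4 hgK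
    rw [eq_top_iff]
    intro s _
    obtain ⟨t, ht, hts⟩ := h20 s.2
    have : t = s := Subtype.ext hts
    rwa [← this]
  · obtain ⟨ψ, hψ, hψn, d, hψ1, hd⟩ := exists_chi_b φ hn hφf
    refine ⟨χ, ψ, hnm, ⟨hψ, hψn, fun hm => ?_⟩, ?_⟩
    · obtain ⟨H, h1, h2, h3, h4⟩ := index_bound hna f hN hψn hm
      have h6 : H.index = d := by
        have : ((H.index : ℕ) : ℂ) = (d : ℂ) := by rw [← h3, hψ1]
        exact_mod_cast this
      apply h1
      have h7 : (H.map φ).index ∣ (n - 1) * (n - 2) := by
        rw [← hd, ← h6]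
        have h8 : H.index * Nat.card H = Nat.card A := H.index_mul_card
        have h9 : (H.map φ).index * Nat.card (H.map φ) = n.factorial := by
          rw [Subgroup.index_mul_card, Nat.card_perm]; simp
        have h10 : Nat.card (H.map φ) = Nat.card H := Nat.card_congr (H.equivMapOfInjective φ hφ).toEquiv.symm
        rw [h10] at h9
        have h11 : Nat.card φ.range = Nat.card A := Nat.card_congr (MonoidHom.ofInjective hφ).toEquiv.symm
        have h12 : φ.range.index ∣ 2 := by
          have : Nontrivial (Fin n) := Fin.nontrivial_iff_two_le.2 (by omega)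
          have h13 := Subgroup.index_dvd_of_le (range_le φ hφf)
          rwa [alternatingGroup.index_eq_two] at h13
        have h14 : φ.range.index * Nat.card A = n.factorial := by
          rw [← h11, Subgroup.index_mul_card, Nat.card_perm]; simp
        obtain ⟨e, he⟩ := h12
        refine ⟨e, ?_⟩
        have hpos : 0 < Nat.card H := Nat.card_pos
        apply Nat.eq_of_mul_eq_mul_right hpos
        calc 2 * H.index * Nat.card H = 2 * Nat.card A := by rw [mul_assoc, h8]
          _ = φ.range.index * Nat.card A * e := by rw [he]; ring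
          _ = (H.map φ).index * Nat.card H * e := by rw [h14, h9]
          _ = (H.map φ).index * e * Nat.card H := by ring
      have h9 := alt_le h8 (H.map φ) h7
      rintro _ ⟨s, rfl⟩
      obtain ⟨a, ha, has⟩ := h9 s.2
      rw [← hφf] at has
      rwa [← hφ has]
    · rw [hχ1, hψ1]
      intro h
      have h1 : n - 1 = d := by exact_mod_cast h
      obtain ⟨m, rfl⟩ : ∃ m, n = m + 2 := ⟨n - 2, by omega⟩
      have e1 : m + 2 - 1 = m + 1 := rfl
      have e2 : m + 2 - 2 = m := rfl
      rw [e1] at h1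
      rw [e1, e2, ← h1] at hd
      nlinarith

end Cfsg.Agent.H902.MonoAlt
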