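import Cfsg.Agent.H902.MonoRankB
import Cfsg.Agent.H902.MonoTI
import Cfsg.Agent.H488.PsuTwo
import Cfsg.Agent.H934.OutB
import Cfsg.Agent.Lib.Zsigmondy
import Cfsg.Agent.S0815
import Cfsg.Agent.S2148
import Cfsg.Agent.S2149

/-!
# The three-dimensional unitary groups (S4572)
-/

set_option autoImplicit false
set_option linter.unusedSectionVars false

namespace Cfsg.Agent.H902.MonoPSU

open MulAction Cfsg Cfsg.Agent.H649.MN Cfsg.Agent.H902.Mono Cfsg.Agent.H902.MonoRank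
open scoped Pointwise

theorem two_mul_le (f : ℕ) (hf : 1 ≤ f) : 2 * f ≤ 2 ^ f := by
  obtain ⟨k, rfl⟩ : ∃ k, f = k + 1 := ⟨f - 1, by omega⟩
  have h1 : k < 2 ^ k := Nat.lt_two_pow_self
  rw [pow_succ]
  omega

theorem good_psu3 {F : Type*} [Field F] [Fintype F] {q r : ℕ} [hr : Fact r.Prime] [hc : CharP F r]
    (hF : Fintype.card F = q ^ 2) (hq : 3 ≤ q) [hs : IsSimpleGroup (Cfsg.PSU 3 F q)]
    (hgood : Cfsg.Agent.H408.Core.Good r (Cfsg.PSU 3 F q)) : GoodMono (Cfsg.PSU 3 F q) := by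
  have hfin : Finite (Cfsg.PSU 3 F q) := inferInstance
  obtain ⟨f, hf⟩ : ∃ f, q = r ^ f := by
    obtain ⟨n, -, hn⟩ := FiniteField.card F r
    rw [hF] at hn
    obtain ⟨f, -, hf⟩ := (Nat.dvd_prime_pow hr.out).1 (Dvd.intro _ ((pow_two q).symm.trans hn))
    exact ⟨f, hf⟩
  have hf1 : 1 ≤ f := by
    rcases Nat.eq_zero_or_pos f with h0 | h0
    · rw [h0, pow_zero] at hf; omega
    · exact h0
  have hrq : r ∣ q := by rw [hf]; exact dvd_pow_self r (by omega)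
  obtain ⟨hP, hcs, hPne⟩ := Cfsg.Agent.H488.PsuTwo.card_sylow (p := r) hF (by omega) (MulEquiv.refl (Cfsg.PSU 3 F q)) hs
  have hTI := Cfsg.Agent.H488.PsuTwo.ti (p := r) hF (MulEquiv.refl (Cfsg.PSU 3 F q))
  have hna : ¬ IsMulCommutative (Cfsg.PSU 3 F q) := MonoTI.not_comm (r := r) (by
    rw [hcs]
    have h0 : 0 < q ^ 3 := by positivity
    omega)
  obtain ⟨P⟩ : Nonempty (Sylow r (Cfsg.PSU 3 F q)) := inferInstance
  have hP' := hP P
  -- the order of the normaliser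
  have hcard := Cfsg.Agent.H438.ConstFix.psu_card hF (by omega : 1 ≤ q)
  have hd0 : 0 < Nat.gcd 3 (q + 1) := Nat.gcd_pos_of_pos_left _ (by norm_num)
  have hN : Nat.gcd 3 (q + 1) * Nat.card (Subgroup.normalizer ((P : Subgroup (Cfsg.PSU 3 F q)) : Set (Cfsg.PSU 3 F q))) =
      q ^ 3 * (q ^ 2 - 1) := by
    have h1 := card_mul P
    rw [hcs] at h1
    rw [← h1] at hcard
    apply Nat.eq_of_mul_eq_mul_right (show 0 < q ^ 3 + 1 by positivity)
    rw [mul_assoc, hcard]; ring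
  have hNle : Nat.card (Subgroup.normalizer ((P : Subgroup (Cfsg.PSU 3 F q)) : Set (Cfsg.PSU 3 F q))) ≤
      q ^ 3 * (q ^ 2 - 1) := by
    rw [← hN]
    exact Nat.le_mul_of_pos_left _ hd0
  -- outer automorphisms
  have hout : Nat.card (Cfsg.Out (Cfsg.PSU 3 F q)) = Nat.gcd 3 (q + 1) * (2 * f) :=
    Cfsg.Agent.H934.OutB.card_out_of_aut hna
      (Cfsg.Agent.S0815.result r f hf1 hf hF 3 le_rfl (by rintro ⟨-, h⟩; omega))
  obtain ⟨c, hcd⟩ : ∃ c, c = (2 * f).factorization r := ⟨_, rfl⟩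
  have hc1 : r ^ c ∣ 2 * f := by rw [hcd]; exact Nat.ordProj_dvd _ _
  have hc2 : ¬ r ^ (c + 1) ∣ 2 * f := by
    rw [hcd]; exact Nat.pow_succ_factorization_not_dvd (by omega) hr.out
  have hc3 : r ^ c ≤ 2 * f := Nat.le_of_dvd (by omega) hc1
  have h2f : 2 * f ≤ q := by
    rw [hf]
    exact (two_mul_le f hf1).trans (Nat.pow_le_pow_left hr.out.two_le f)
  have hcop : ¬ r ∣ Nat.gcd 3 (q + 1) := by
    intro h
    have h1 : r ∣ q + 1 := h.trans (Nat.gcd_dvd_right _ _)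
    have h2 : r ∣ 1 := (Nat.dvd_add_right hrq).1 h1
    exact hr.out.one_lt.ne' (Nat.dvd_one.1 h2)
  have hout2 : ¬ r ^ (c + 1) ∣ Nat.card (Cfsg.Out (Cfsg.PSU 3 F q)) := by
    rw [hout]
    intro h
    exact hc2 (Nat.Coprime.dvd_of_dvd_mul_left (((Nat.Prime.coprime_iff_not_dvd hr.out).2 hcop).pow_left _) h)
  -- the prime
  have hp2 : ¬ (r = 2 ∧ f * 6 = 6) := by
    rintro ⟨h1, h2⟩
    have h3 : f = 1 := by omega
    rw [h1, h3] at hf
    omega
  obtain ⟨l, hl, hl1, hl2, hl3⟩ : ∃ l : ℕ, l.Prime ∧ (∀ m, l ∣ (r ^ f) ^ m - 1 ↔ f * 6 ∣ f * m) ∧ f * 6 < l ∧ ¬ l ∣ r := by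
    obtain ⟨l, hl, h1, h2, h4⟩ := Cfsg.Agent.Lib.Zsigmondy.exists_primitive hr.out.two_le (by omega : 2 ≤ f * 6)
      (fun h => by omega) hp2
    refine ⟨l, hl, fun m => ?_, ?_, h4⟩
    · rw [← pow_mul]
      exact h1 _
    · have h5 := Nat.le_of_dvd (by have := hl.two_le; omega) h2
      have := hl.two_le
      omega
  rw [← hf] at hl1
  have hdiv : ∀ k, l ∣ q ^ k - 1 ↔ 6 ∣ k := fun k => by
    rw [hl1, Nat.mul_dvd_mul_iff_left (by omega)]
  have hlq : l ∣ q ^ 3 + 1 := by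
    have h1 : l ∣ q ^ 6 - 1 := (hdiv 6).2 dvd_rfl
    have h2 : q ^ 6 - 1 = (q ^ 3 - 1) * (q ^ 3 + 1) := by
      have h3 : 1 ≤ q ^ 3 := Nat.one_le_pow _ _ (by omega)
      obtain ⟨a, ha⟩ : ∃ a, q ^ 3 = a + 1 := ⟨q ^ 3 - 1, by omega⟩
      have h4 : q ^ 6 = (a + 1) * (a + 1) := by rw [← ha]; ring
      rw [h4, ha, Nat.add_sub_cancel]
      have h5 : (a + 1) * (a + 1) = a * (a + 1 + 1) + 1 := by ring
      rw [h5, Nat.add_sub_cancel]
    rw [h2] at h1
    rcases hl.dvd_mul.1 h1 with h3 | h3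
    · exact absurd ((hdiv 3).1 h3) (by norm_num)
    · exact h3
  have hlN : ¬ l ∣ Nat.card (Subgroup.normalizer ((P : Subgroup (Cfsg.PSU 3 F q)) : Set (Cfsg.PSU 3 F q))) := by
    intro h
    have h0 : l ∣ q ^ 3 * (q ^ 2 - 1) := by rw [← hN]; exact h.mul_left _
    rcases hl.dvd_mul.1 h0 with h1 | h1
    · have h2 := hl.dvd_of_dvd_pow h1
      rw [hf] at h2
      exact hl3 (hl.dvd_of_dvd_pow h2)
    · exact absurd ((hdiv 2).1 h1) (by norm_num)
  obtain ⟨x, hxo, hx⟩ := exists_x P hl (by rw [hcs]; exact hlq) hlN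
  have hq2 : 3 * q ≤ q ^ 2 := by rw [sq]; exact Nat.mul_le_mul_right _ hq
  refine good_of (r := r) hna P hTI (by rw [hcs, hP']) c hout2 ?_ hgood ?_ x hx ?_
  · intro H hH
    rw [hP']
    by_cases h5 : q = 5
    · have hr5 : r = 5 := by
        have h1 : r ∣ 5 := h5 ▸ hrq
        exact (Nat.prime_dvd_prime_iff_eq hr.out (by norm_num)).1 h1
      have hf5 : f = 1 := by
        rw [hr5, h5] at hf
        have h2 : (5 : ℕ) ^ 1 = 5 ^ f := by rw [pow_one]; exact hf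
        exact (Nat.pow_right_injective (le_refl 2 |>.trans (by norm_num : 2 ≤ 5)) h2).symm
      have hc0 : c = 0 := by
        rw [hcd, hf5, hr5]
        exact Nat.factorization_eq_zero_of_not_dvd (by norm_num)
      have hidx : 50 ≤ H.index := by
        subst h5
        exact (Cfsg.Agent.S2149.result (by rw [hF]; norm_num)).1 H hH
      obtain ⟨N, hNd⟩ : ∃ N, N = Nat.card (Subgroup.normalizer ((P : Subgroup (Cfsg.PSU 3 F q)) : Set (Cfsg.PSU 3 F q))) :=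
        ⟨_, rfl⟩
      rw [← hNd] at hN ⊢
      have h6 : Nat.gcd 3 (q + 1) = 3 := by rw [h5]; norm_num
      have h7 : q ^ 3 = 125 := by rw [h5]; norm_num
      have h8 : q ^ 2 - 1 = 24 := by rw [h5]; norm_num
      rw [h6, h7, h8] at hN
      rw [hc0, pow_zero, one_mul, h7]
      omega
    · have hidx := (Cfsg.Agent.S2148.result q hF hq h5).1 H hH
      have h1 : r ^ c * (q ^ 2 - 1) < H.index := by
        calc r ^ c * (q ^ 2 - 1) ≤ q * (q ^ 2 - 1) := Nat.mul_le_mul_right _ (hc3.trans h2f)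
          _ ≤ q * q ^ 2 := Nat.mul_le_mul_left _ (by omega)
          _ = q ^ 3 := by ring
          _ < H.index := by omega
      calc r ^ c * Nat.card (Subgroup.normalizer ((P : Subgroup (Cfsg.PSU 3 F q)) : Set (Cfsg.PSU 3 F q))) ≤
          r ^ c * (q ^ 3 * (q ^ 2 - 1)) := Nat.mul_le_mul_left _ hNle
        _ = (r ^ c * (q ^ 2 - 1)) * q ^ 3 := by ring
        _ < H.index * q ^ 3 := Nat.mul_lt_mul_of_pos_right h1 (by positivity)
  · rw [hP', hf, ← pow_mul]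
    refine pow_dvd_pow r ?_
    have h1 : c < r ^ c := Nat.lt_pow_self hr.out.one_lt
    omega
  · rw [hxo]
    omega

end Cfsg.Agent.H902.MonoPSU
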