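import Cfsg.Agent.H902.MonoRankB
import Cfsg.Agent.H902.MonoTI
import Cfsg.Agent.H410.RankOne
import Cfsg.Agent.S1162
import Cfsg.Agent.S1163
import Cfsg.Agent.S2126

/-!
# The Suzuki groups (S4572)
-/

set_option autoImplicit false
set_option linter.unusedSectionVars false

namespace Cfsg.Agent.H902.MonoSz

open MulAction Cfsg Cfsg.Agent.H649.MN Cfsg.Agent.H902.Mono Cfsg.Agent.H902.MonoRank
open scoped Pointwise

/-- The Sylow 2-subgroups of `Sz(q)`. -/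
theorem sylow {F : Type*} [Field F] [Fintype F] {m : ℕ} (hm : 1 ≤ m) (hF : Fintype.card F = 2 ^ (2 * m + 1)) :
    ∃ P : Sylow 2 ↥(Cfsg.Lie.Sz F (2 ^ (m + 1))),
      (∀ Q Q' : Sylow 2 ↥(Cfsg.Lie.Sz F (2 ^ (m + 1))), Q ≠ Q' → (Q : Subgroup ↥(Cfsg.Lie.Sz F (2 ^ (m + 1)))) ⊓
        (Q' : Subgroup ↥(Cfsg.Lie.Sz F (2 ^ (m + 1)))) = ⊥) ∧
      Nat.card P = (2 ^ (2 * m + 1)) ^ 2 ∧
      Nat.card (Sylow 2 ↥(Cfsg.Lie.Sz F (2 ^ (m + 1)))) = (2 ^ (2 * m + 1)) ^ 2 + 1 ∧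
      Nat.card (Subgroup.normalizer ((P : Subgroup ↥(Cfsg.Lie.Sz F (2 ^ (m + 1)))) :
        Set ↥(Cfsg.Lie.Sz F (2 ^ (m + 1))))) = (2 ^ (2 * m + 1)) ^ 2 * (2 ^ (2 * m + 1) - 1) := by
  have : Fact (Nat.Prime 2) := ⟨Nat.prime_two⟩
  set S := ↥(Cfsg.Lie.Sz F (2 ^ (m + 1))) with hSdef
  have hfin : Finite S := inferInstance
  obtain ⟨hcard, P, hN, hi, -, hreg⟩ := S1163.result hm hF
  set q : ℕ := 2 ^ (2 * m + 1) with hq
  have h8 : 8 ≤ q := by
    calc 8 = 2 ^ 3 := by norm_num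
      _ ≤ 2 ^ (2 * m + 1) := Nat.pow_le_pow_right two_pos (by omega)
  have h2q : 2 ∣ q := by rw [hq]; exact dvd_pow_self 2 (by omega)
  have hP : Nat.card P = q ^ 2 := by
    have h1 : Nat.card S = 2 ^ ((2 * m + 1) * 2) * ((q - 1) * (q ^ 2 + 1)) := by
      rw [hcard, pow_mul, ← hq, mul_assoc]
    have h2 : ¬ 2 ∣ (q - 1) * (q ^ 2 + 1) := by
      intro h3
      rcases (Nat.Prime.dvd_mul Nat.prime_two).1 h3 with h4 | h4
      · omega
      · have : 2 ∣ q ^ 2 := dvd_pow h2q (by norm_num)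
        omega
    have h4 := Sylow.card_eq_multiplicity P
    rw [h4, h1, Nat.factorization_mul (by positivity) (by
      intro h0
      rw [h0] at h2
      exact h2 (dvd_zero 2)), Nat.Prime.factorization_pow Nat.prime_two]
    simp only [Finsupp.coe_add, Pi.add_apply, Finsupp.single_eq_same]
    rw [Nat.factorization_eq_zero_of_not_dvd h2, add_zero, pow_mul, ← hq]
  have hcs : Nat.card (Sylow 2 S) = q ^ 2 + 1 := by
    have h1 : Nat.card (Sylow 2 S) = (Subgroup.normalizer ((P : Subgroup S) : Set S)).index :=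
      Sylow.card_eq_index_normalizer P
    rw [h1, hi]
  exact ⟨P, MonoTI.ti_of_regular P hreg, hP, hcs, hN⟩

theorem good_sz {F : Type*} [Field F] [Fintype F] {m : ℕ} (hm : 1 ≤ m) (hF : Fintype.card F = 2 ^ (2 * m + 1))
    (hgood : Cfsg.Agent.H408.Core.Good 2 ↥(Cfsg.Lie.Sz F (2 ^ (m + 1)))) :
    GoodMono ↥(Cfsg.Lie.Sz F (2 ^ (m + 1))) := by
  have : Fact (Nat.Prime 2) := ⟨Nat.prime_two⟩
  have hs : IsSimpleGroup ↥(Cfsg.Lie.Sz F (2 ^ (m + 1))) := S1162.result hm hF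
  obtain ⟨P, hTI, hP, hcs, hN⟩ := sylow hm hF
  set q : ℕ := 2 ^ (2 * m + 1) with hq
  have h8 : 8 ≤ q := by
    calc 8 = 2 ^ 3 := by norm_num
      _ ≤ 2 ^ (2 * m + 1) := Nat.pow_le_pow_right two_pos (by omega)
  have h2q : 2 ∣ q := by rw [hq]; exact dvd_pow_self 2 (by omega)
  obtain ⟨l, hl, hld⟩ := Nat.exists_prime_and_dvd (n := q ^ 2 + 1) (by nlinarith)
  have hlN : ¬ l ∣ q ^ 2 * (q - 1) := by
    intro h
    rcases hl.dvd_mul.1 h with h1 | h1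
    · have h2 : l ∣ 1 := (Nat.dvd_add_right h1).1 hld
      exact hl.one_lt.ne' (Nat.dvd_one.1 h2)
    · have h2 : l ∣ 2 := by
        have h3 : l ∣ (q - 1) * (q + 1) := h1.mul_right _
        have h4 : (q - 1) * (q + 1) + 2 = q ^ 2 + 1 := by
          obtain ⟨a, ha⟩ : ∃ a, q = a + 1 := ⟨q - 1, by omega⟩
          rw [ha, Nat.add_sub_cancel]; ring
        rw [← h4] at hld
        exact (Nat.dvd_add_right h3).1 hld
      have h3 : l = 2 := (Nat.prime_dvd_prime_iff_eq hl Nat.prime_two).1 h2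
      rw [h3] at h1
      omega
  obtain ⟨x, hxo, hx⟩ := exists_x P hl (by rw [hcs]; exact hld) (by rw [hN]; exact hlN)
  refine good_of_zero (r := 2) (MonoTI.not_comm (r := 2) (by rw [hcs]; nlinarith)) P ?_ hTI (by rw [hcs, hP]) ?_ hgood x hx ?_
  · intro h
    have h1 : Nat.card P = 1 := Subgroup.card_eq_one.2 h
    rw [hP] at h1
    nlinarith
  · rw [S2126.result hm hF]
    omega
  · rintro rfl
    rw [orderOf_one] at hxo
    exact hl.one_lt.ne hxo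

end Cfsg.Agent.H902.MonoSz
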