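import Cfsg.Agent.H902.Compare
import Cfsg.Agent.H902.Iso
import Cfsg.Agent.S0252
import Cfsg.Agent.S0253
import Cfsg.Agent.S0254
import Cfsg.Agent.S0255
import Cfsg.Agent.S0256
import Cfsg.Agent.S0822

/-!
# Canonical names of the known simple groups
-/

set_option autoImplicit false

namespace Cfsg.Agent.H902.Names

open Cfsg Cfsg.Agent.OrdDiv Finset
open Cfsg.Agent.H902

universe u v

/-- canonical names, one for each isomorphism type -/
inductive Nice (g : Grp) (M : ℕ) : Prop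
  | n2 (h : N2 g M) (hM : ¬ Exc M) (hs : ∀ x ∈ spor, M ≠ x.2) : Nice g M
  | e60 (hM : M = 60) (hg : g = .alt 5) : Nice g M
  | e168 (hM : M = 168) (hg : g = .psl 2 7) : Nice g M
  | e360 (hM : M = 360) (hg : g = .alt 6) : Nice g M
  | e20160 (hM : M = 20160) (hg : g = .alt 8 ∨ g = .psl 3 4) : Nice g M
  | e25920 (hM : M = 25920) (hg : g = .psp 2 3) : Nice g M
  | spor (x : Grp × ℕ) (hx : x ∈ spor) (hg : g = x.1) (hM : M = x.2) : Nice g M

theorem spor_inj : ∀ x ∈ OrdDiv.spor, ∀ y ∈ OrdDiv.spor, x.2 = y.2 → x.1 = y.1 := by decide +kernel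

theorem spor_exc : ∀ x ∈ OrdDiv.spor, x.2 ≠ 60 ∧ x.2 ≠ 168 ∧ x.2 ≠ 360 ∧ x.2 ≠ 20160 ∧ x.2 ≠ 25920 := by
  decide +kernel

theorem nice_cmp {g g' : Grp} {M : ℕ} (h : Nice g M) (h' : Nice g' M) :
    g = g' ∨ (g = .alt 8 ∧ g' = .psl 3 4) ∨ (g = .psl 3 4 ∧ g' = .alt 8) ∨
      (∃ m q, 3 ≤ m ∧ Odd q ∧ g = .psp m q ∧ g' = .oodd m q) ∨
      (∃ m q, 3 ≤ m ∧ Odd q ∧ g = .oodd m q ∧ g' = .psp m q) := by
  cases h with
  | n2 h hM hs =>
    cases h' with
    | n2 h' hM' hs' =>
      rcases n2_unique h h' hM with h | h | h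
      · exact Or.inl h
      · exact Or.inr (Or.inr (Or.inr (Or.inl h)))
      · exact Or.inr (Or.inr (Or.inr (Or.inr h)))
    | spor x hx hg hM' => exact absurd hM' (hs x hx)
    | _ hM' hg => exact absurd (by unfold Exc; omega) hM
  | spor x hx hg hMx =>
    have h1 := spor_exc x hx
    cases h' with
    | n2 h' hM' hs' => exact absurd hMx (hs' x hx)
    | spor y hy hg' hMy =>
      left
      rw [hg, hg']
      exact spor_inj x hx y hy (hMx.symm.trans hMy)
    | _ hM' hg => exfalso; omega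
  | e60 hM hg =>
    cases h' with
    | n2 h' hM' hs' => exact absurd (Or.inl hM) hM'
    | spor y hy hg' hMy => exact absurd (hMy.symm.trans hM) (spor_exc y hy).1
    | e60 hM' hg' => exact Or.inl (hg.trans hg'.symm)
    | _ hM' hg => exfalso; omega
  | e168 hM hg =>
    cases h' with
    | n2 h' hM' hs' => exact absurd (Or.inr (Or.inl hM)) hM'
    | spor y hy hg' hMy => exact absurd (hMy.symm.trans hM) (spor_exc y hy).2.1
    | e168 hM' hg' => exact Or.inl (hg.trans hg'.symm)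
    | _ hM' hg => exfalso; omega
  | e360 hM hg =>
    cases h' with
    | n2 h' hM' hs' => exact absurd (Or.inr (Or.inr (Or.inl hM))) hM'
    | spor y hy hg' hMy => exact absurd (hMy.symm.trans hM) (spor_exc y hy).2.2.1
    | e360 hM' hg' => exact Or.inl (hg.trans hg'.symm)
    | _ hM' hg => exfalso; omega
  | e25920 hM hg =>
    cases h' with
    | n2 h' hM' hs' => exact absurd (Or.inr (Or.inr (Or.inr (Or.inr hM)))) hM'
    | spor y hy hg' hMy => exact absurd (hMy.symm.trans hM) (spor_exc y hy).2.2.2.2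
    | e25920 hM' hg' => exact Or.inl (hg.trans hg'.symm)
    | _ hM' hg => exfalso; omega
  | e20160 hM hg =>
    cases h' with
    | n2 h' hM' hs' => exact absurd (Or.inr (Or.inr (Or.inr (Or.inl hM)))) hM'
    | spor y hy hg' hMy => exact absurd (hMy.symm.trans hM) (spor_exc y hy).2.2.2.1
    | e20160 hM' hg' =>
      rcases hg with rfl | rfl <;> rcases hg' with rfl | rfl
      · exact Or.inl rfl
      · exact Or.inr (Or.inl ⟨rfl, rfl⟩)
      · exact Or.inr (Or.inr (Or.inl ⟨rfl, rfl⟩))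
      · exact Or.inl rfl
    | _ hM' hg => exfalso; omega

/-- among three canonical names of the same order two are equal -/
theorem nice_three {g₁ g₂ g₃ : Grp} {M : ℕ} (h₁ : Nice g₁ M) (h₂ : Nice g₂ M) (h₃ : Nice g₃ M) :
    g₁ = g₂ ∨ g₂ = g₃ ∨ g₁ = g₃ := by
  rcases nice_cmp h₁ h₂ with h | ⟨rfl, rfl⟩ | ⟨rfl, rfl⟩ | ⟨m, q, -, -, rfl, rfl⟩ | ⟨m, q, -, -, rfl, rfl⟩
  · exact Or.inl h
  · rcases nice_cmp h₂ h₃ with h | ⟨h, h'⟩ | ⟨h, h'⟩ | ⟨m, q, -, -, h, h'⟩ | ⟨m, q, -, -, h, h'⟩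
    · exact Or.inr (Or.inl h)
    · exact absurd h (by decide)
    · exact Or.inr (Or.inr h'.symm)
    · exact absurd h (by simp)
    · exact absurd h (by simp)
  · rcases nice_cmp h₂ h₃ with h | ⟨h, h'⟩ | ⟨h, h'⟩ | ⟨m, q, -, -, h, h'⟩ | ⟨m, q, -, -, h, h'⟩
    · exact Or.inr (Or.inl h)
    · exact Or.inr (Or.inr h'.symm)
    · exact absurd h (by decide)
    · exact absurd h (by simp)
    · exact absurd h (by simp)
  · rcases nice_cmp h₂ h₃ with h | ⟨h, h'⟩ | ⟨h, h'⟩ | ⟨m', q', -, -, h, h'⟩ | ⟨m', q', -, -, h, h'⟩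
    · exact Or.inr (Or.inl h)
    · exact absurd h (by simp)
    · exact absurd h (by simp)
    · exact absurd h (by simp)
    · rw [Grp.oodd.injEq] at h
      obtain ⟨rfl, rfl⟩ := h
      exact Or.inr (Or.inr h'.symm)
  · rcases nice_cmp h₂ h₃ with h | ⟨h, h'⟩ | ⟨h, h'⟩ | ⟨m', q', -, -, h, h'⟩ | ⟨m', q', -, -, h, h'⟩
    · exact Or.inr (Or.inl h)
    · exact absurd h (by simp)
    · exact absurd h (by simp)
    · rw [Grp.psp.injEq] at h
      obtain ⟨rfl, rfl⟩ := h
      exact Or.inr (Or.inr h'.symm)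
    · exact absurd h (by simp)

/-- every known nonabelian simple group has a canonical name -/
theorem exists_nice (T : OrderTable.{u}) {S : Type u} [Group S] (h : IsKnownSimple' S)
    (hna : ¬ ∀ a b : S, a * b = b * a) : ∃ g, OrdDiv.Real g S ∧ Nice g (Nat.card S) := by
  by_cases hs : ∀ x ∈ spor, Nat.card S ≠ x.2
  · by_cases hM : Exc (Nat.card S)
    · rcases hM with hM | hM | hM | hM | hM
      · obtain ⟨g, hg, hr⟩ := exc_real T h hna (by decide +kernel) Spec.c60 hM
        refine ⟨.alt 5, ?_, .e60 hM rfl⟩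
        rw [List.mem_cons, List.mem_cons, List.mem_singleton] at hg
        rcases hg with rfl | rfl | rfl
        · exact hr
        · obtain ⟨F, _, _, hF, ⟨e⟩⟩ := hr
          obtain ⟨f⟩ := S0252.result hF
          exact ⟨e.trans f⟩
        · obtain ⟨F, _, _, hF, ⟨e⟩⟩ := hr
          obtain ⟨f⟩ := S0253.result hF
          exact ⟨e.trans f⟩
      · obtain ⟨g, hg, hr⟩ := exc_real T h hna (by decide +kernel) Spec.c168 hM
        refine ⟨.psl 2 7, ?_, .e168 hM rfl⟩
        rw [List.mem_cons, List.mem_singleton] at hg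
        rcases hg with rfl | rfl
        · obtain ⟨F, _, _, hF, ⟨e⟩⟩ := hr
          have : Fact (Nat.Prime 7) := ⟨by norm_num⟩
          obtain ⟨f⟩ := S0255.result (F := ZMod 7) (K := F) (by rw [ZMod.card]) hF
          exact ⟨ZMod 7, inferInstance, inferInstance, by rw [ZMod.card], ⟨e.trans f.symm⟩⟩
        · exact hr
      · obtain ⟨g, hg, hr⟩ := exc_real T h hna (by decide +kernel) Spec.c360 hM
        refine ⟨.alt 6, ?_, .e360 hM rfl⟩
        rw [List.mem_cons, List.mem_singleton] at hg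
        rcases hg with rfl | rfl
        · exact hr
        · obtain ⟨F, _, _, hF, ⟨e⟩⟩ := hr
          obtain ⟨f⟩ := S0254.result hF
          exact ⟨e.trans f⟩
      · obtain ⟨g, hg, hr⟩ := exc_real T h hna (by decide +kernel) Spec.c20160 hM
        rw [List.mem_cons, List.mem_cons, List.mem_singleton] at hg
        rcases hg with rfl | rfl | rfl
        · exact ⟨.alt 8, hr, .e20160 hM (Or.inl rfl)⟩
        · obtain ⟨F, _, _, hF, ⟨e⟩⟩ := hr
          obtain ⟨f⟩ := S0256.result hF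
          exact ⟨.alt 8, ⟨e.trans f⟩, .e20160 hM (Or.inl rfl)⟩
        · exact ⟨.psl 3 4, hr, .e20160 hM (Or.inr rfl)⟩
      · obtain ⟨g, hg, hr⟩ := exc_real T h hna (by decide +kernel) Spec.c25920 hM
        refine ⟨.psp 2 3, ?_, .e25920 hM rfl⟩
        rw [List.mem_cons, List.mem_singleton] at hg
        rcases hg with rfl | rfl
        · exact hr
        · obtain ⟨F, _, _, hF, ⟨e⟩⟩ := hr
          have : Fact (Nat.Prime 3) := ⟨by norm_num⟩
          obtain ⟨f⟩ := S0822.result (F := F) (K := ZMod 3) hF (by rw [ZMod.card])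
          exact ⟨ZMod 3, inferInstance, inferInstance, by rw [ZMod.card], ⟨e.trans f⟩⟩
    · obtain ⟨g, hr, hn⟩ := exists_n2 T h hna hs
      exact ⟨g, hr, .n2 hn hM hs⟩
  · push Not at hs
    obtain ⟨x, hx, hM⟩ := hs
    exact ⟨x.1, spor_real T h hna hx hM, .spor x hx rfl hM⟩

end Cfsg.Agent.H902.Names
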