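import Cfsg.Agent.H902.MonoRankB
import Cfsg.Agent.H902.MonoTI
import Cfsg.Agent.H212.U3.Dick
import Cfsg.Agent.H934.OutB
import Cfsg.Agent.Lib.Zsigmondy
import Cfsg.Agent.S0813

/-!
# The groups `PSL₂(q)`, `q ≥ 8`, `q ≠ 11` (S4572)
-/

set_option autoImplicit false
set_option linter.unusedSectionVars false

namespace Cfsg.Agent.H902.MonoPSL2

open MulAction Cfsg Matrix Cfsg.Agent.H649.MN Cfsg.Agent.H902.Mono Cfsg.Agent.H902.MonoRank
open scoped Pointwise

section num

theorem sq_sub (q : ℕ) : q ^ 2 - 1 = (q + 1) * (q - 1) := by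
  have := Nat.sq_sub_sq q 1
  rwa [one_pow] at this

theorem cop_succ (q : ℕ) : Nat.Coprime (q + 1) q := by
  rw [Nat.coprime_comm]
  exact (Nat.coprime_self_add_right.2 (Nat.coprime_one_right q))

/-- The order of a subgroup of index a power of the characteristic. -/
theorem good_num {q r n N d k : ℕ} (hr : r.Prime) (hrq : r ∣ q) (hq : 8 ≤ q) (h11 : q ≠ 11) (hd : d = Nat.gcd 2 (q - 1))
    (hN : N * d = q * (q ^ 2 - 1)) (hn : r ^ k * n = N)
    (h : (∃ k : ℕ, (k ∣ (q + 1) / Nat.gcd 2 (q - 1) ∨ k ∣ (q - 1) / Nat.gcd 2 (q - 1)) ∧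
      (n = k ∨ n = 2 * k)) ∨ (n * Nat.gcd 2 (q - 1) ∣ q * (q - 1)) ∨ n = 12 ∨ n = 24 ∨ n = 60 ∨
      ∃ q₀ m : ℕ, 2 ≤ q₀ ∧ q₀ ^ m = q ∧ (n * Nat.gcd 2 (q₀ - 1) = q₀ * (q₀ ^ 2 - 1) ∨
        n = q₀ * (q₀ ^ 2 - 1))) : n = N := by
  have hcop : Nat.Coprime (q ^ 2 - 1) (r ^ k) := by
    apply Nat.Coprime.pow_right
    rw [Nat.coprime_comm, Nat.Prime.coprime_iff_not_dvd hr]
    intro h1
    have h2 : r ∣ q ^ 2 := dvd_pow hrq (by norm_num)
    have h3 : q ^ 2 = (q ^ 2 - 1) + 1 := by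
      have : 1 ≤ q ^ 2 := Nat.one_le_pow _ _ (by omega)
      omega
    rw [h3] at h2
    exact hr.one_lt.ne' (Nat.dvd_one.1 ((Nat.dvd_add_right h1).1 h2))
  have hdn : q ^ 2 - 1 ∣ n * d := by
    have h1 : q ^ 2 - 1 ∣ r ^ k * (n * d) := by
      rw [← mul_assoc, hn, hN]
      exact Dvd.intro_left _ rfl
    exact hcop.dvd_of_dvd_mul_left h1
  have hd12 : d = 1 ∨ d = 2 := by
    have h1 : d ∣ 2 := hd ▸ Nat.gcd_dvd_left _ _
    exact (Nat.dvd_prime Nat.prime_two).1 h1
  have hn0 : 0 < n := by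
    rcases Nat.eq_zero_or_pos n with h0 | h0
    · exfalso
      rw [h0, mul_zero] at hn
      rw [← hn, zero_mul] at hN
      have : 0 < q * (q ^ 2 - 1) := Nat.mul_pos (by omega) (by
        have : 8 ^ 2 ≤ q ^ 2 := Nat.pow_le_pow_left hq 2
        omega)
      omega
    · exact h0
  have hdpos : 0 < d := by omega
  have hle := Nat.le_of_dvd (Nat.mul_pos hn0 hdpos) hdn
  have hq2 : q ^ 2 - 1 = (q + 1) * (q - 1) := sq_sub q
  have h64 : 64 ≤ q ^ 2 := by
    have : 8 ^ 2 ≤ q ^ 2 := Nat.pow_le_pow_left hq 2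
    omega
  rcases h with ⟨j, hj, hnj⟩ | h | h | h | h | ⟨q₀, m, hq₀, hm, h⟩
  · exfalso
    have h1 : j * d ≤ q + 1 := by
      rw [← hd] at hj
      rcases hj with hj | hj
      · have h2 : j ≤ (q + 1) / d := by
          apply Nat.le_of_dvd _ hj
          exact Nat.div_pos (by omega) hdpos
        exact (Nat.mul_le_mul_right d h2).trans (Nat.div_mul_le_self _ _)
      · have h2 : j ≤ (q - 1) / d := by
          apply Nat.le_of_dvd _ hj
          exact Nat.div_pos (by omega) hdpos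
        exact ((Nat.mul_le_mul_right d h2).trans (Nat.div_mul_le_self _ _)).trans (by omega)
    have h2 : n * d ≤ 2 * (q + 1) := by
      rcases hnj with rfl | rfl
      · omega
      · rw [mul_assoc]; omega
    rw [hq2] at hle
    have h3 : (q + 1) * (q - 1) ≤ (q + 1) * 2 := by omega
    have h4 := Nat.le_of_mul_le_mul_left h3 (by omega)
    omega
  · exfalso
    rw [← hd] at h
    have h1 : q ^ 2 - 1 ∣ q * (q - 1) := hdn.trans h
    rw [hq2] at h1
    have h2 : q + 1 ∣ q * (q - 1) := (Dvd.intro _ rfl).trans h1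
    have h3 : q + 1 ∣ q - 1 := (cop_succ q).dvd_of_dvd_mul_left h2
    have h4 := Nat.le_of_dvd (by omega) h3
    omega
  · exfalso
    rw [h] at hle hdn
    have hq4 : q ^ 2 ≤ 25 := by omega
    omega
  · exfalso
    rw [h] at hle hdn
    have hq4 : q ^ 2 ≤ 49 := by omega
    omega
  · exfalso
    rw [h] at hle hdn
    have hq4 : q ^ 2 ≤ 121 := by omega
    have hq5 : q ≤ 11 := by nlinarith
    interval_cases q
    · rw [hd] at hle; norm_num at hle
    · rw [hd] at hdn; norm_num at hdn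
    · rw [hd] at hle; norm_num at hle
    · exact h11 rfl
  · -- subfield
    have hm0 : m ≠ 0 := by
      rintro rfl
      rw [pow_zero] at hm; omega
    have hq₀q : q₀ ∣ q := by rw [← hm]; exact dvd_pow_self _ hm0
    have hm1 : m = 1 := by
      by_contra hm1
      have hm2 : 2 ≤ m := by omega
      have hqq : q₀ ^ 2 ≤ q := by rw [← hm]; exact Nat.pow_le_pow_right (by omega) hm2
      have hn1 : n ∣ q₀ * (q₀ ^ 2 - 1) := by
        rcases h with h | h
        · exact ⟨_, h.symm⟩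
        · rw [h]
      have h1 : q ^ 2 - 1 ∣ q₀ * ((q₀ ^ 2 - 1) * d) := by
        rw [← mul_assoc]
        exact hdn.trans (Nat.mul_dvd_mul_right hn1 d)
      have h2 : Nat.Coprime (q ^ 2 - 1) q₀ := by
        have h3 : Nat.Coprime (q ^ 2 - 1) q := by
          rw [hq2]
          apply Nat.Coprime.mul_left (cop_succ q)
          have h4 := cop_succ (q - 1)
          rw [Nat.sub_add_cancel (by omega)] at h4
          exact h4.symm
        exact h3.coprime_dvd_right hq₀q
      have h3 := h2.dvd_of_dvd_mul_left h1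
      have h5 : 4 ≤ q₀ ^ 2 := by
        have : 2 ^ 2 ≤ q₀ ^ 2 := Nat.pow_le_pow_left hq₀ 2
        omega
      have h4 := Nat.le_of_dvd (Nat.mul_pos (by omega) hdpos) h3
      have h6 : (q₀ ^ 2 - 1) * d ≤ (q - 1) * 2 := Nat.mul_le_mul (by omega) (by omega)
      rw [hq2] at h4
      have h7 : (q - 1) * (q + 1) ≤ (q - 1) * 2 := by
        calc (q - 1) * (q + 1) = (q + 1) * (q - 1) := mul_comm _ _
          _ ≤ _ := h4.trans h6
      have h8 := Nat.le_of_mul_le_mul_left h7 (by omega)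
      omega
    rw [hm1, pow_one] at hm
    subst hm
    have hnN : n ≤ N := by
      rw [← hn]
      exact Nat.le_mul_of_pos_left _ (pow_pos hr.pos _)
    rcases h with h | h
    · rw [← hd, ← hN] at h
      exact Nat.eq_of_mul_eq_mul_right hdpos h
    · rw [← hN] at h
      have : N ≤ N * d := Nat.le_mul_of_pos_right _ hdpos
      omega

/-- The order of a subgroup containing a nonsplit element and almost a Sylow subgroup. -/
theorem core_num {q n N d k e : ℕ} (hq : 16 ≤ q) (hd : d = Nat.gcd 2 (q - 1))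
    (hN : N * d = q * (q ^ 2 - 1)) (hnN : n ≤ N) (hn0 : 0 < n) (h1 : q + 1 ∣ n) (h2 : q ∣ k * n) (hk : 0 < k) (hke : k ≤ e)
    (he : 4 * e ≤ q)
    (h : (∃ k : ℕ, (k ∣ (q + 1) / Nat.gcd 2 (q - 1) ∨ k ∣ (q - 1) / Nat.gcd 2 (q - 1)) ∧
      (n = k ∨ n = 2 * k)) ∨ (n * Nat.gcd 2 (q - 1) ∣ q * (q - 1)) ∨ n = 12 ∨ n = 24 ∨ n = 60 ∨
      ∃ q₀ m : ℕ, 2 ≤ q₀ ∧ q₀ ^ m = q ∧ (n * Nat.gcd 2 (q₀ - 1) = q₀ * (q₀ ^ 2 - 1) ∨
        n = q₀ * (q₀ ^ 2 - 1))) : n = N := by
  have hd12 : d = 1 ∨ d = 2 := by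
    have h1 : d ∣ 2 := hd ▸ Nat.gcd_dvd_left _ _
    exact (Nat.dvd_prime Nat.prime_two).1 h1
  have hdpos : 0 < d := by omega
  have hq2 : q ^ 2 - 1 = (q + 1) * (q - 1) := sq_sub q
  have hn4 : 4 * (q + 1) ≤ n := by
    obtain ⟨m, hm⟩ := h1
    have hm0 : 0 < m := by
      rcases Nat.eq_zero_or_pos m with h0 | h0
      · rw [h0, mul_zero] at hm; omega
      · exact h0
    have h3 : q ∣ (q + 1) * (k * m) := by
      have : (q + 1) * (k * m) = k * n := by rw [hm]; ring
      rw [this]; exact h2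
    have h4 : q ∣ k * m := (cop_succ q).symm.dvd_of_dvd_mul_left h3
    have h5 := Nat.le_of_dvd (Nat.mul_pos hk hm0) h4
    have h6 : 4 ≤ m := by
      by_contra hcon
      push Not at hcon
      have h7 : k * m ≤ k * 3 := Nat.mul_le_mul_left _ (by omega)
      omega
    rw [hm, mul_comm]
    exact Nat.mul_le_mul_left _ h6
  rcases h with ⟨j, hj, hnj⟩ | h | h | h | h | ⟨q₀, m, hq₀, hm, h⟩
  · exfalso
    have h1 : j ≤ q + 1 := by
      rw [← hd] at hj
      rcases hj with hj | hj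
      · exact (Nat.le_of_dvd (Nat.div_pos (by omega) hdpos) hj).trans (Nat.div_le_self _ _)
      · exact ((Nat.le_of_dvd (Nat.div_pos (by omega) hdpos) hj).trans (Nat.div_le_self _ _)).trans (by omega)
    omega
  · exfalso
    have h4 : q + 1 ∣ q * (q - 1) := (h1.trans (Dvd.intro _ rfl)).trans h
    have h3 : q + 1 ∣ q - 1 := (cop_succ q).dvd_of_dvd_mul_left h4
    have h4 := Nat.le_of_dvd (by omega) h3
    omega
  · omega
  · omega
  · omega
  · have hm0 : m ≠ 0 := by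
      rintro rfl
      rw [pow_zero] at hm; omega
    have hq₀q : q₀ ∣ q := by rw [← hm]; exact dvd_pow_self _ hm0
    have hm1 : m = 1 := by
      by_contra hm1
      have hm2 : 2 ≤ m := by omega
      have hqq : q₀ ^ 2 ≤ q := by rw [← hm]; exact Nat.pow_le_pow_right (by omega) hm2
      have hn1 : n ∣ q₀ * (q₀ ^ 2 - 1) := by
        rcases h with h | h
        · exact ⟨_, h.symm⟩
        · rw [h]
      have h3 : q + 1 ∣ q₀ ^ 2 - 1 := ((cop_succ q).coprime_dvd_right hq₀q).dvd_of_dvd_mul_left (h1.trans hn1)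
      have h5 : 4 ≤ q₀ ^ 2 := by
        have : 2 ^ 2 ≤ q₀ ^ 2 := Nat.pow_le_pow_left hq₀ 2
        omega
      have h4 := Nat.le_of_dvd (by omega) h3
      omega
    rw [hm1, pow_one] at hm
    subst hm
    rcases h with h | h
    · rw [← hd, ← hN] at h
      exact Nat.eq_of_mul_eq_mul_right hdpos h
    · rw [← hN] at h
      have : N ≤ N * d := Nat.le_mul_of_pos_right _ hdpos
      omega

theorem four_mul_le {r e : ℕ} (hr : r.Prime) (he : r ∣ e) (he0 : 0 < e) (h4 : ¬ (r = 2 ∧ e = 2)) :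
    4 * e ≤ r ^ e ∧ 16 ≤ r ^ e := by
  have hre : r ≤ e := Nat.le_of_dvd he0 he
  have hr2 := hr.two_le
  have h1 : ∀ k, 4 * (k + 4) ≤ 2 ^ (k + 4) := by
    intro k
    induction k with
    | zero => norm_num
    | succ k ih => rw [show k + 1 + 4 = (k + 4) + 1 by ring, pow_succ]; omega
  rcases Nat.lt_or_ge e 4 with h | h
  · have h3 : e = 3 ∧ r = 3 := by
      have : e = 2 ∨ e = 3 := by omega
      rcases this with rfl | rfl
      · have : r = 2 := by omega
        exact absurd ⟨this, rfl⟩ h4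
      · exact ⟨rfl, (Nat.prime_dvd_prime_iff_eq hr Nat.prime_three).1 he⟩
    obtain ⟨rfl, rfl⟩ := h3
    norm_num
  · obtain ⟨k, rfl⟩ : ∃ k, e = k + 4 := ⟨e - 4, by omega⟩
    have h2 := h1 k
    have h3 : 2 ^ (k + 4) ≤ r ^ (k + 4) := Nat.pow_le_pow_left hr2 _
    omega

/-- A prime divisor of `q + 1` prime to the order of the Borel subgroup. -/
theorem exists_prime {q N : ℕ} (hq : 6 ≤ q) (hN : N * Nat.gcd 2 (q - 1) = q * (q - 1)) :
    ∃ l : ℕ, l.Prime ∧ l ∣ q + 1 ∧ ¬ l ∣ N := by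
  by_cases hodd : ∃ l : ℕ, l.Prime ∧ l ∣ q + 1 ∧ l ≠ 2
  · obtain ⟨l, hl, h1, h2⟩ := hodd
    refine ⟨l, hl, h1, fun h => ?_⟩
    have h3 : l ∣ q * (q - 1) := by rw [← hN]; exact h.mul_right _
    rcases hl.dvd_mul.1 h3 with h4 | h4
    · exact hl.one_lt.ne' (Nat.dvd_one.1 ((Nat.dvd_add_right h4).1 h1))
    · have h5 : l ∣ (q + 1) - (q - 1) := Nat.dvd_sub h1 h4
      have h6 : (q + 1) - (q - 1) = 2 := by omega
      rw [h6] at h5
      exact h2 ((Nat.prime_dvd_prime_iff_eq hl Nat.prime_two).1 h5)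
  · push Not at hodd
    have hpow : ∃ a, q + 1 = 2 ^ a := by
      refine ⟨_, Nat.eq_prime_pow_of_unique_prime_dvd (by omega) (fun {d} hd hdq => hodd d hd hdq)⟩
    obtain ⟨a, ha⟩ := hpow
    have ha2 : 2 ≤ a := by
      by_contra h
      have : 2 ^ a ≤ 2 ^ 1 := Nat.pow_le_pow_right (by norm_num) (by omega)
      omega
    have h4 : 4 ∣ q + 1 := by
      rw [ha]
      exact pow_dvd_pow 2 ha2 
    refine ⟨2, Nat.prime_two, by omega, fun h => ?_⟩
    have h5 : Nat.gcd 2 (q - 1) = 2 := Nat.gcd_eq_left (by omega)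
    rw [h5] at hN
    obtain ⟨M, hM⟩ := h
    have h6 : q * (q - 1) = 4 * M := by rw [← hN, hM]; ring
    have h7 : q % 4 = 3 := by omega
    have h8 : (q - 1) % 4 = 2 := by omega
    have h9 : (q * (q - 1)) % 4 = 2 := by rw [Nat.mul_mod, h7, h8]
    omega

end num

section main

variable {F : Type*} [Field F] [Fintype F] {q : ℕ}

theorem main (hF : Fintype.card F = q) (hq : 8 ≤ q) (h11 : q ≠ 11) [hs : IsSimpleGroup (ProjectiveSpecialLinearGroup (Fin 2) F)] :
    GoodMono (ProjectiveSpecialLinearGroup (Fin 2) F) := by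
  have hfin : Finite (ProjectiveSpecialLinearGroup (Fin 2) F) := inferInstance
  obtain ⟨r, hcr⟩ := CharP.exists F
  have hr : Fact r.Prime := ⟨CharP.char_is_prime F r⟩
  obtain ⟨e, hf⟩ : ∃ e, q = r ^ e := by
    obtain ⟨n, -, hn⟩ := FiniteField.card F r
    exact ⟨n, hF ▸ hn⟩
  have he1 : 1 ≤ e := by
    rcases Nat.eq_zero_or_pos e with h0 | h0
    · rw [h0, pow_zero] at hf; omega
    · exact h0
  have hrq : r ∣ q := by rw [hf]; exact dvd_pow_self r (by omega)
  have hcard := Cfsg.Agent.ClassicalGeometry.PSL2Basic.card_PSL2_gcd (F := F)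
  rw [hF] at hcard
  obtain ⟨d, hd⟩ : ∃ d, d = Nat.gcd 2 (q - 1) := ⟨_, rfl⟩
  have hd12 : d = 1 ∨ d = 2 := by
    have h1 : d ∣ 2 := hd ▸ Nat.gcd_dvd_left _ _
    exact (Nat.dvd_prime Nat.prime_two).1 h1
  have hdpos : 0 < d := by omega
  obtain ⟨P⟩ : Nonempty (Sylow r (ProjectiveSpecialLinearGroup (Fin 2) F)) := inferInstance
  have hcs : Nat.card (Sylow r (ProjectiveSpecialLinearGroup (Fin 2) F)) = q + 1 := by
    have h0 : Nat.card (Sylow r (ProjectiveSpecialLinearGroup (Fin 2) F)) = (Subgroup.normalizer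
      ((P : Subgroup (ProjectiveSpecialLinearGroup (Fin 2) F)) : Set (ProjectiveSpecialLinearGroup (Fin 2) F))).index :=
      Sylow.card_eq_index_normalizer P
    rw [h0, Cfsg.Agent.H436.TT.index_normalizer r P, hF]
  have hTI : ∀ Q Q' : Sylow r (ProjectiveSpecialLinearGroup (Fin 2) F), Q ≠ Q' →
      (Q : Subgroup (ProjectiveSpecialLinearGroup (Fin 2) F)) ⊓ (Q' : Subgroup (ProjectiveSpecialLinearGroup (Fin 2) F)) = ⊥ := by
    intro Q Q' hne
    rw [eq_bot_iff]
    intro x hx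
    rw [Subgroup.mem_bot]
    by_contra hx1
    exact hne (Cfsg.Agent.ClassicalGeometry.PSL2ElemOrder.sylow_eq_of_mem r Q Q' x hx1 hx.1 hx.2)
  have hna : ¬ IsMulCommutative (ProjectiveSpecialLinearGroup (Fin 2) F) := MonoTI.not_comm (r := r) (by rw [hcs]; omega)
  have hP : Nat.card P = q := by
    obtain ⟨M, hM⟩ : ∃ M, Nat.card (ProjectiveSpecialLinearGroup (Fin 2) F) = r ^ e * M ∧ ¬ r ∣ M := by
      have h1 : q ∣ Nat.card (ProjectiveSpecialLinearGroup (Fin 2) F) := by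
        have h2 : q ∣ Nat.card (ProjectiveSpecialLinearGroup (Fin 2) F) * Nat.gcd 2 (q - 1) := by
          rw [hcard]; exact Dvd.intro _ rfl
        have hcop : Nat.Coprime (r ^ e) (Nat.gcd 2 (q - 1)) := by
          apply Nat.Coprime.pow_left
          rw [Nat.Prime.coprime_iff_not_dvd hr.out]
          intro h3
          have h4 : r ∣ q - 1 := h3.trans (Nat.gcd_dvd_right _ _)
          have h5 : r ∣ (q - 1) + 1 := by rw [Nat.sub_add_cancel (by omega)]; exact hrq
          exact hr.out.one_lt.ne' (Nat.dvd_one.1 ((Nat.dvd_add_right h4).1 h5))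
        rw [← hf] at hcop
        exact Nat.Coprime.dvd_of_dvd_mul_right hcop h2
      obtain ⟨M, hM⟩ := h1
      refine ⟨M, by rw [hM, hf], fun h => ?_⟩
      rw [hM, mul_assoc] at hcard
      have h6 := Nat.eq_of_mul_eq_mul_left (by omega) hcard
      have h7 : r ∣ q ^ 2 - 1 := by rw [← h6]; exact h.mul_right _
      have h8 : r ∣ (q ^ 2 - 1) + 1 := by
        have : 1 ≤ q ^ 2 := Nat.one_le_pow _ _ (by omega)
        rw [Nat.sub_add_cancel this]
        exact dvd_pow hrq (by norm_num)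
      exact hr.out.one_lt.ne' (Nat.dvd_one.1 ((Nat.dvd_add_right h7).1 h8))
    rw [P.card_eq_multiplicity, hM.1, Nat.factorization_mul (pow_ne_zero _ hr.out.ne_zero) (by
      rintro rfl
      exact hM.2 (dvd_zero _)), Nat.Prime.factorization_pow hr.out]
    simp only [Finsupp.coe_add, Pi.add_apply, Finsupp.single_eq_same]
    rw [Nat.factorization_eq_zero_of_not_dvd hM.2, add_zero, ← hf]
  have hN : Nat.card (Subgroup.normalizer ((P : Subgroup (ProjectiveSpecialLinearGroup (Fin 2) F)) :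
      Set (ProjectiveSpecialLinearGroup (Fin 2) F))) * Nat.gcd 2 (q - 1) = q * (q - 1) := by
    have h1 := card_mul P
    rw [hcs] at h1
    rw [← h1, sq_sub] at hcard
    apply Nat.eq_of_mul_eq_mul_left (show 0 < q + 1 by omega)
    calc _ = _ := by ring
      _ = _ := hcard
      _ = _ := by ring
  -- outer automorphisms
  have hout : Nat.card (Cfsg.Out (ProjectiveSpecialLinearGroup (Fin 2) F)) = d * e := by
    apply Cfsg.Agent.H934.OutB.card_out_of_aut hna
    have h1 := Cfsg.Agent.S0813.result (F := F) r e he1 (hF.trans hf) 2 le_rfl (fun _ => by rw [← hf]; omega)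
    rw [h1, if_pos rfl, one_mul, Cfsg.Agent.ClassicalGeometry.PSL2Basic.card_PGL2, hF, ← hcard, hd]
    ring
  have hrd : ¬ r ∣ d := by
    intro h
    rw [hd] at h
    have h4 : r ∣ q - 1 := h.trans (Nat.gcd_dvd_right _ _)
    have h5 : r ∣ (q - 1) + 1 := by rw [Nat.sub_add_cancel (by omega)]; exact hrq
    exact hr.out.one_lt.ne' (Nat.dvd_one.1 ((Nat.dvd_add_right h4).1 h5))
  -- the defining characteristic
  have hgood : Cfsg.Agent.H408.Core.Good r (ProjectiveSpecialLinearGroup (Fin 2) F) := by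
    intro H k hH
    have h1 := Cfsg.Agent.H212.U3.Dick.orders hF r H
    have h2 : r ^ k * Nat.card H = Nat.card (ProjectiveSpecialLinearGroup (Fin 2) F) := by
      rw [← hH]; exact H.index_mul_card
    have h3 := good_num hr.out hrq hq h11 hd (by rw [hd]; exact hcard) h2 h1
    exact Subgroup.eq_top_of_card_eq H h3
  obtain ⟨c, hcd⟩ : ∃ c, c = e.factorization r := ⟨_, rfl⟩
  have hc1 : r ^ c ∣ e := by rw [hcd]; exact Nat.ordProj_dvd _ _
  have hc2 : ¬ r ^ (c + 1) ∣ e := by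
    rw [hcd]; exact Nat.pow_succ_factorization_not_dvd (by omega) hr.out
  have hc3 : r ^ c ≤ e := Nat.le_of_dvd (by omega) hc1
  have hout2 : ¬ r ^ (c + 1) ∣ Nat.card (Cfsg.Out (ProjectiveSpecialLinearGroup (Fin 2) F)) := by
    rw [hout]
    intro h
    exact hc2 (Nat.Coprime.dvd_of_dvd_mul_left (((Nat.Prime.coprime_iff_not_dvd hr.out).2 hrd).pow_left _) h)
  have hPc : r ^ (c + 1) ∣ Nat.card P := by
    rw [hP, hf]
    refine pow_dvd_pow r ?_
    have h1 : c < r ^ c := Nat.lt_pow_self hr.out.one_lt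
    omega
  rcases Nat.eq_zero_or_pos c with hc0 | hc0
  · obtain ⟨l, hl, hlq, hlN⟩ := exists_prime (by omega) hN
    obtain ⟨x, hxo, hx⟩ := exists_x P hl (by rw [hcs]; exact hlq) hlN
    have hx1 : x ≠ 1 := by
      rintro rfl
      rw [orderOf_one] at hxo
      exact hl.one_lt.ne hxo
    refine good_of_zero (r := r) hna P ?_ hTI (by rw [hcs, hP]) ?_ hgood x hx hx1
    · intro h
      have h1 : Nat.card P = 1 := Subgroup.card_eq_one.2 h
      rw [hP] at h1
      omega
    · rw [hc0] at hout2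
      simpa using hout2
  · -- `r ∣ e`
    have hre : r ∣ e := (dvd_pow_self r (by omega)).trans hc1
    obtain ⟨h4e, h16⟩ := four_mul_le hr.out hre (by omega) (by
      rintro ⟨h1, h2⟩
      rw [h1, h2] at hf
      omega)
    rw [← hf] at h4e h16
    have he2 : 2 ≤ e := hr.out.two_le.trans (Nat.le_of_dvd (by omega) hre)
    have hp2 : ¬ (r = 2 ∧ e * 2 = 6) := by
      rintro ⟨h1, h2⟩
      have h3 : e = 3 := by omega
      rw [h1, h3] at hre
      omega
    obtain ⟨l, hl, hl1, hl2, hl3⟩ : ∃ l : ℕ, l.Prime ∧ (∀ m, l ∣ (r ^ e) ^ m - 1 ↔ e * 2 ∣ e * m) ∧ e * 2 < l ∧ ¬ l ∣ r := by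
      obtain ⟨l, hl, h1, h2, h4⟩ := Cfsg.Agent.Lib.Zsigmondy.exists_primitive hr.out.two_le (by omega : 2 ≤ e * 2)
        (fun h => by omega) hp2
      refine ⟨l, hl, fun m => ?_, ?_, h4⟩
      · rw [← pow_mul]
        exact h1 _
      · have h5 := Nat.le_of_dvd (by have := hl.two_le; omega) h2
        have := hl.two_le
        omega
    rw [← hf] at hl1
    have hdiv : ∀ k, l ∣ q ^ k - 1 ↔ 2 ∣ k := fun k => by
      rw [hl1, Nat.mul_dvd_mul_iff_left (by omega)]
    have hlq1 : ¬ l ∣ q - 1 := by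
      intro h
      have h2 : l ∣ q ^ 1 - 1 := by rwa [pow_one]
      exact absurd ((hdiv 1).1 h2) (by norm_num)
    have hlq : l ∣ q + 1 := by
      have h1 : l ∣ q ^ 2 - 1 := (hdiv 2).2 dvd_rfl
      rw [sq_sub] at h1
      exact (hl.dvd_mul.1 h1).resolve_right hlq1
    have hlN : ¬ l ∣ Nat.card (Subgroup.normalizer ((P : Subgroup (ProjectiveSpecialLinearGroup (Fin 2) F)) :
        Set (ProjectiveSpecialLinearGroup (Fin 2) F))) := by
      intro h
      have h0 : l ∣ q * (q - 1) := by rw [← hN]; exact h.mul_right _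
      rcases hl.dvd_mul.1 h0 with h1 | h1
      · rw [hf] at h1
        exact hl3 (hl.dvd_of_dvd_pow h1)
      · exact hlq1 h1
    obtain ⟨x, hxo, hx⟩ := exists_x P hl (by rw [hcs]; exact hlq) hlN
    have hx1 : x ≠ 1 := by
      rintro rfl
      rw [orderOf_one] at hxo
      exact hl.one_lt.ne hxo
    refine good_core (r := r) hna P hTI (by rw [hcs, hP]) c hout2 hgood hPc x hx1 ?_
    intro H hxH hH
    obtain ⟨U, htr, Q₀, hQU, hQH, k, hk, hkc⟩ := trans_of P hTI (by rw [hcs, hP]) c x hx (by rw [hxo]; omega) H hxH hH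
    have hUq : Nat.card U = q := by rw [card_eq_aux U P, hP]
    have hO : Nat.card (orbit H U) * Nat.card (stabilizer H U) = Nat.card H := orb_stab (G := H) U
    have hOu : orbit H U = Set.univ := by
      ext V
      simp only [Set.mem_univ, iff_true]
      obtain ⟨h, hh, hV⟩ := htr V
      exact ⟨⟨h, hh⟩, hV⟩
    rw [hOu, Nat.card_congr (Equiv.Set.univ _), hcs] at hO
    have hkpos : 0 < k := Nat.pos_of_dvd_of_pos hkc (pow_pos hr.out.pos _)
    have hke : k ≤ e := (Nat.le_of_dvd (pow_pos hr.out.pos _) hkc).trans hc3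
    have h3 := core_num (k := k) (e := e) h16 hd (by rw [hd]; exact hcard) (Subgroup.card_le_card_group H) Nat.card_pos (Dvd.intro _ hO) (by
      rw [← hUq, hk]
      exact Nat.mul_dvd_mul_left k (Subgroup.card_dvd_of_le hQH)) hkpos hke h4e
      (Cfsg.Agent.H212.U3.Dick.orders hF r H)
    exact Subgroup.eq_top_of_card_eq H h3

end main

end Cfsg.Agent.H902.MonoPSL2
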