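import Mathlib
import Cfsg.Agent.H902.MonoCore

/-!
# Rank one groups: a subgroup containing a nonsplit element and almost a Sylow subgroup is everything (S4572)

`rank_one` : the Sylow `r`-subgroups of `S` meet pairwise trivially and there are `|P| + 1` of them; `x` is an element no
nontrivial power of which normalises a Sylow `r`-subgroup, of order larger than `r ^ c`. A subgroup `H` containing `x` with
`r ^ (c + 1) ∤ |S : H|` is `S`, provided that proper subgroups have index larger than `r ^ c |N(P) : P|`.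

`good_of` : `GoodMono S` in this situation.
-/

set_option autoImplicit false
set_option linter.unusedSectionVars false

namespace Cfsg.Agent.H902.MonoRank

open MulAction Cfsg Cfsg.Agent.H649.MN Cfsg.Agent.H902.Mono
open scoped Pointwise

section group

variable {S : Type*} [Group S] [Finite S] {r : ℕ} [hr : Fact r.Prime]

theorem orb_stab {G X : Type*} [Group G] [Finite G] [MulAction G X] (x : X) :
    Nat.card (orbit G x) * Nat.card (stabilizer G x) = Nat.card G := by
  rw [Nat.card_coe_set_eq, ← index_stabilizer]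
  exact Subgroup.index_mul_card _

/-- A subgroup none of whose non-identity elements fixes a point of the invariant set `O` has order dividing `|O|`. -/
theorem card_dvd_of_free {G X : Type*} [Group G] [Finite G] [MulAction G X] [Finite X] (Q : Subgroup G) (O : Set X)
    (hO : ∀ g ∈ Q, ∀ v ∈ O, g • v ∈ O) (hfree : ∀ g ∈ Q, ∀ v ∈ O, g • v = v → g = 1) : Nat.card Q ∣ Nat.card O := by
  classical
  let act : MulAction Q O :=
    { smul := fun g v => ⟨(g : G) • (v : X), hO g g.2 v v.2⟩
      one_smul := fun v => Subtype.ext (one_smul G (v : X))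
      mul_smul := fun a b v => Subtype.ext (mul_smul (a : G) (b : G) (v : X)) }
  have hst : ∀ v : O, stabilizer Q v = ⊥ := by
    intro v
    rw [eq_bot_iff]
    intro g hg
    rw [mem_stabilizer_iff] at hg
    have h1 : (g : G) • (v : X) = v := congrArg Subtype.val hg
    rw [Subgroup.mem_bot]
    exact Subtype.ext (hfree g g.2 v v.2 h1)
  have hcard : ∀ ω : Quotient (orbitRel Q O), Nat.card (orbitRel.Quotient.orbit ω) = Nat.card Q := by
    intro ω
    induction ω using Quotient.inductionOn' with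
    | h v =>
      rw [orbitRel.Quotient.orbit_mk, Nat.card_coe_set_eq, ← Nat.card_coe_set_eq]
      have h1 := orb_stab (G := Q) v
      rw [hst v, Subgroup.card_bot, mul_one] at h1
      exact h1
  have h2 : Nat.card O = Nat.card (Quotient (orbitRel Q O)) * Nat.card Q := by
    have h3 : O ≃ Σ ω : Quotient (orbitRel Q O), orbitRel.Quotient.orbit ω := selfEquivSigmaOrbits' Q O
    rw [Nat.card_congr h3]
    have := Fintype.ofFinite (Quotient (orbitRel Q O))
    rw [Nat.card_sigma, Finset.sum_congr rfl fun ω _ => hcard ω, Finset.sum_const, Finset.card_univ, smul_eq_mul,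
      ← Nat.card_eq_fintype_card]
  rw [h2]
  exact Dvd.intro_left _ rfl

/-- `H` is transitive on the Sylow `r`-subgroups. -/
theorem trans_of (P : Sylow r S) (hTI : ∀ Q Q' : Sylow r S, Q ≠ Q' → (Q : Subgroup S) ⊓ (Q' : Subgroup S) = ⊥)
    (hcard : Nat.card (Sylow r S) = Nat.card P + 1) (c : ℕ)
    (x : S) (hx : ∀ Q : Sylow r S, ∀ g ∈ Subgroup.zpowers x, g • Q = Q → g = 1) (hxo : r ^ c < orderOf x)
    (H : Subgroup S) (hxH : x ∈ H) (hH : ¬ r ^ (c + 1) ∣ H.index) :
    ∃ U : Sylow r S, (∀ V : Sylow r S, ∃ h ∈ H, h • U = V) ∧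
      ∃ Q₀ : Subgroup S, Q₀ ≤ U ∧ Q₀ ≤ H ∧ ∃ k : ℕ, Nat.card U = k * Nat.card Q₀ ∧ k ∣ r ^ c := by
  classical
  -- Sylow subgroup of `H`
  obtain ⟨T⟩ : Nonempty (Sylow r H) := inferInstance
  let Q₀ : Subgroup S := (T : Subgroup H).map H.subtype
  have hQ₀p : IsPGroup r Q₀ := T.isPGroup'.map _
  obtain ⟨U, hU⟩ := hQ₀p.exists_le_sylow
  have hQ₀H : Q₀ ≤ H := by
    rintro _ ⟨t, _, rfl⟩
    exact t.2
  have hcardQ : Nat.card Q₀ = Nat.card (T : Subgroup H) :=
    (Nat.card_congr ((T : Subgroup H).equivMapOfInjective _ H.subtype_injective).toEquiv).symm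
  have hUP : Nat.card U = Nat.card P := by rw [U.card_eq_multiplicity, P.card_eq_multiplicity]
  -- `|U| ∣ |Q₀| r ^ c`
  have hT := T.card_eq_multiplicity
  have hU' := U.card_eq_multiplicity
  set a := (Nat.card S).factorization r with ha
  set b := (Nat.card H).factorization r with hb
  have hab : a ≤ b + c := by
    have h1 : H.index * Nat.card H = Nat.card S := H.index_mul_card
    have h2 : a = H.index.factorization r + b := by
      rw [ha, ← h1, Nat.factorization_mul H.index_ne_zero_of_finite Nat.card_pos.ne']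
      rfl
    have h3 : H.index.factorization r < c + 1 := by
      by_contra h4
      push Not at h4
      exact hH ((hr.out.pow_dvd_iff_le_factorization H.index_ne_zero_of_finite).2 h4)
    omega
  have hba : b ≤ a := by
    have h1 : H.index * Nat.card H = Nat.card S := H.index_mul_card
    rw [ha, ← h1, Nat.factorization_mul H.index_ne_zero_of_finite Nat.card_pos.ne']
    exact Nat.le_add_left _ _
  have hQb : Nat.card Q₀ = r ^ b := by rw [hcardQ, hT]
  have hUa : Nat.card U = r ^ a := hU'
  set k : ℕ := r ^ (a - b) with hk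
  have hkc : k ≤ r ^ c := Nat.pow_le_pow_right hr.out.pos (by omega)
  have hUk : Nat.card U = k * Nat.card Q₀ := by
    rw [hUa, hQb, hk, ← pow_add]
    congr 1; omega
  -- the orbit of `U`
  let X := Sylow r S
  let O : Set X := orbit H U
  have hOfin : Finite O := inferInstance
  have hO : ∀ g ∈ H, ∀ v ∈ O, g • v ∈ O := fun g hg v hv => mem_orbit_of_mem_orbit (⟨g, hg⟩ : H) hv
  have hUO : U ∈ O := mem_orbit_self (M := H) U
  -- elements of `Q₀` fix only `U`
  have hfixQ : ∀ g ∈ Q₀, ∀ V : Sylow r S, V ≠ U → g • V = V → g = 1 := by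
    intro g hg V hV hgV
    have hgU : g ∈ (U : Subgroup S) := hU hg
    have hgN : g ∈ Subgroup.normalizer ((V : Subgroup S) : Set S) := by
      have h0 : g ∈ stabilizer S V := hgV
      rw [Sylow.stabilizer_eq_normalizer] at h0
      exact h0
    have hgV' : g ∈ (V : Subgroup S) := by
      have h1 : IsPGroup r (Subgroup.zpowers g) := hQ₀p.to_le (by simpa using hg)
      have h2 : Subgroup.zpowers g ≤ Subgroup.normalizer ((V : Subgroup S) : Set S) := by simpa using hgN
      have h3 : IsPGroup r (Subgroup.zpowers g ⊔ V : Subgroup S) := h1.to_sup_of_normal_right' V.isPGroup' h2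
      have h4 : (Subgroup.zpowers g ⊔ V : Subgroup S) = V := V.3 h3 le_sup_right
      rw [← h4]
      exact Subgroup.mem_sup_left (Subgroup.mem_zpowers g)
    have h5 : g ∈ (V : Subgroup S) ⊓ (U : Subgroup S) := ⟨hgV', hgU⟩
    rw [hTI V U hV] at h5
    exact h5
  have hdQ : Nat.card Q₀ ∣ Nat.card (O \ {U} : Set X) := by
    apply card_dvd_of_free Q₀ (O \ {U})
    · rintro g hg v ⟨hv, hvU⟩
      refine ⟨hO g (hQ₀H hg) v hv, fun h => hvU ?_⟩
      have h1 : g • U = U := by
        have : g ∈ stabilizer S U := by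
          rw [Sylow.stabilizer_eq_normalizer]
          exact Subgroup.le_normalizer (hU hg)
        exact this
      have h2 : g • v = g • U := by rw [h1]; exact h
      exact smul_left_cancel g h2
    · rintro g hg v ⟨_, hvU⟩ hgv
      exact hfixQ g hg v hvU hgv
  have hOcard : Nat.card O = Nat.card (O \ {U} : Set X) + 1 := by
    rw [Nat.card_coe_set_eq, Nat.card_coe_set_eq]
    have := Set.ncard_sdiff_singleton_add_one hUO (Set.toFinite O)
    exact this.symm
  -- `x` acts freely
  have hdx : ∀ O' : Set X, (∀ g ∈ Subgroup.zpowers x, ∀ v ∈ O', g • v ∈ O') → orderOf x ∣ Nat.card O' := by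
    intro O' hO'
    rw [← Nat.card_zpowers]
    exact card_dvd_of_free _ O' hO' (fun g hg v _ h => hx v g hg h)
  have hx1 : orderOf x ∣ Nat.card O := hdx O fun g hg v hv => hO g ((Subgroup.zpowers_le.2 hxH) hg) v hv
  have hx2 : orderOf x ∣ Nat.card U + 1 := by
    have h1 := hdx Set.univ fun g _ v _ => Set.mem_univ _
    have h2 : Nat.card (Set.univ : Set X) = Nat.card X := Nat.card_congr (Equiv.Set.univ X)
    rw [h2] at h1
    rw [hUP, ← hcard]
    exact h1
  obtain ⟨m, hm⟩ := hdQ
  have hQpos : 0 < Nat.card Q₀ := Nat.card_pos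
  -- `m ≤ k`
  have hmk : m ≤ k := by
    have h1 : Nat.card O ≤ Nat.card X := Nat.card_le_card_of_injective _ Subtype.val_injective
    have h2 : Nat.card X = Nat.card U + 1 := by rw [hUP]; exact hcard
    rw [hOcard, hm, h2, hUk] at h1
    have h3 : Nat.card Q₀ * m ≤ Nat.card Q₀ * k := by
      have : k * Nat.card Q₀ = Nat.card Q₀ * k := mul_comm _ _
      omega
    exact Nat.le_of_mul_le_mul_left h3 hQpos
  have hcop : (orderOf x).Coprime (Nat.card Q₀) := by
    have h1 : (orderOf x).Coprime (Nat.card U) := by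
      rw [Nat.coprime_iff_gcd_eq_one]
      have h2 : (orderOf x).gcd (Nat.card U) ∣ Nat.card U + 1 := (Nat.gcd_dvd_left _ _).trans hx2
      have h3 : (orderOf x).gcd (Nat.card U) ∣ Nat.card U := Nat.gcd_dvd_right _ _
      exact Nat.dvd_one.1 ((Nat.dvd_add_right h3).1 h2)
    exact h1.coprime_dvd_right ⟨k, by rw [hUk, mul_comm]⟩
  have hdvd : orderOf x ∣ k - m := by
    have h1 : orderOf x ∣ (Nat.card U + 1) - Nat.card O := Nat.dvd_sub hx2 hx1
    have h2 : (Nat.card U + 1) - Nat.card O = Nat.card Q₀ * (k - m) := by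
      rw [hOcard, hm, hUk, Nat.mul_sub]
      have : k * Nat.card Q₀ = Nat.card Q₀ * k := mul_comm _ _
      omega
    rw [h2] at h1
    exact hcop.dvd_of_dvd_mul_left h1
  have hkm : k = m := by
    rcases Nat.eq_zero_or_pos (k - m) with h0 | h0
    · omega
    · have h1 := Nat.le_of_dvd h0 hdvd
      have h2 : 0 < m := by
        rcases Nat.eq_zero_or_pos m with h3 | h3
        · exfalso
          rw [h3, mul_zero] at hm
          rw [hOcard, hm, zero_add, Nat.dvd_one] at hx1
          rw [hx1] at hxo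
          have : 0 < r ^ c := pow_pos hr.out.pos _
          omega
        · exact h3
      omega
  have hOeq : Nat.card O = Nat.card U + 1 := by
    rw [hOcard, hm, hUk, hkm, mul_comm]
  refine ⟨U, fun V => ?_, Q₀, hU, hQ₀H, k, hUk, pow_dvd_pow r (by omega)⟩
  have hOu : O = Set.univ := by
    apply Set.eq_of_subset_of_ncard_le (Set.subset_univ _) _ (Set.toFinite _)
    rw [Set.ncard_univ, ← Nat.card_coe_set_eq, hOeq, hUP]
    exact hcard.le
  have hV : V ∈ O := hOu ▸ Set.mem_univ V
  obtain ⟨h, hh⟩ := hV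
  exact ⟨h, h.2, hh⟩

theorem card_eq_aux (U P : Sylow r S) : Nat.card U = Nat.card P := by
  rw [U.card_eq_multiplicity, P.card_eq_multiplicity]

theorem card_mul (P : Sylow r S) :
    Nat.card (Subgroup.normalizer ((P : Subgroup S) : Set S)) * Nat.card (Sylow r S) = Nat.card S := by
  have h6 : Nat.card (orbit S P) * Nat.card (stabilizer S P) = Nat.card S := orb_stab (G := S) P
  rw [Sylow.stabilizer_eq_normalizer, orbit_eq_univ, Nat.card_congr (Equiv.Set.univ (Sylow r S))] at h6
  rw [mul_comm]; exact h6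

/-- A subgroup transitive on the Sylow subgroups and containing `Q₀ ≤ U`. -/
theorem index_mul_le {U : Sylow r S} {H : Subgroup S} (htr : ∀ V : Sylow r S, ∃ h ∈ H, h • U = V) {Q₀ : Subgroup S}
    (hQU : Q₀ ≤ U) (hQH : Q₀ ≤ H) :
    H.index * Nat.card Q₀ ≤ Nat.card (Subgroup.normalizer ((U : Subgroup S) : Set S)) := by
  have h1 : Nat.card (orbit H U) * Nat.card (stabilizer H U) = Nat.card H := orb_stab (G := H) U
  have hO : orbit H U = Set.univ := by
    ext V
    simp only [Set.mem_univ, iff_true]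
    obtain ⟨h, hh, hV⟩ := htr V
    exact ⟨⟨h, hh⟩, hV⟩
  rw [hO, Nat.card_congr (Equiv.Set.univ (Sylow r S))] at h1
  have h2 : Nat.card Q₀ ≤ Nat.card (stabilizer H U) := by
    refine Nat.card_le_card_of_injective (fun q : Q₀ => (⟨⟨q, hQH q.2⟩, ?_⟩ : stabilizer H U)) ?_
    · have h4 : (q : S) ∈ stabilizer S U := by
        rw [Sylow.stabilizer_eq_normalizer]
        exact Subgroup.le_normalizer (hQU q.2)
      exact h4
    · intro a b hab
      have := congrArg (fun z : stabilizer H U => ((z : H) : S)) hab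
      exact Subtype.ext this
  have h5 := card_mul U
  have h7 : H.index * Nat.card H = Nat.card S := H.index_mul_card
  have hpos : 0 < Nat.card (Sylow r S) := Nat.card_pos
  have h8 : H.index * Nat.card (stabilizer H U) = Nat.card (Subgroup.normalizer ((U : Subgroup S) : Set S)) := by
    apply Nat.eq_of_mul_eq_mul_right hpos
    rw [h5, ← h7, ← h1]; ring
  rw [← h8]
  exact Nat.mul_le_mul_left _ h2

theorem rank_one (P : Sylow r S) (hTI : ∀ Q Q' : Sylow r S, Q ≠ Q' → (Q : Subgroup S) ⊓ (Q' : Subgroup S) = ⊥)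
    (hcard : Nat.card (Sylow r S) = Nat.card P + 1) (c : ℕ)
    (hmin : ∀ H : Subgroup S, H ≠ ⊤ → r ^ c * Nat.card (Subgroup.normalizer ((P : Subgroup S) : Set S)) <
      H.index * Nat.card P)
    (x : S) (hx : ∀ Q : Sylow r S, ∀ g ∈ Subgroup.zpowers x, g • Q = Q → g = 1) (hxo : r ^ c < orderOf x)
    (H : Subgroup S) (hxH : x ∈ H) (hH : ¬ r ^ (c + 1) ∣ H.index) : H = ⊤ := by
  by_contra hne
  have hlt := hmin H hne
  obtain ⟨U, htr, Q₀, hQU, hQH, k, hk, hkc⟩ := trans_of P hTI hcard c x hx hxo H hxH hH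
  have h1 := index_mul_le htr hQU hQH
  have h2 : Nat.card (Subgroup.normalizer ((U : Subgroup S) : Set S)) =
      Nat.card (Subgroup.normalizer ((P : Subgroup S) : Set S)) := by
    have h3 := card_mul U
    have h4 := card_mul P
    exact Nat.eq_of_mul_eq_mul_right Nat.card_pos (h3.trans h4.symm)
  have h3 : k ≤ r ^ c := Nat.le_of_dvd (pow_pos hr.out.pos _) hkc
  have h5 : Nat.card P = k * Nat.card Q₀ := by rw [← hk]; exact card_eq_aux P U
  rw [h2] at h1
  rw [h5] at hlt
  have h6 : H.index * (k * Nat.card Q₀) ≤ r ^ c * Nat.card (Subgroup.normalizer ((P : Subgroup S) : Set S)) := by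
    calc H.index * (k * Nat.card Q₀) = k * (H.index * Nat.card Q₀) := by ring
      _ ≤ _ := Nat.mul_le_mul h3 h1
  omega

/-- The case `c = 0`: no bound on the index is needed. -/
theorem rank_one_zero [IsSimpleGroup S] (P : Sylow r S) (hP : (P : Subgroup S) ≠ ⊥)
    (hTI : ∀ Q Q' : Sylow r S, Q ≠ Q' → (Q : Subgroup S) ⊓ (Q' : Subgroup S) = ⊥)
    (hcard : Nat.card (Sylow r S) = Nat.card P + 1)
    (x : S) (hx : ∀ Q : Sylow r S, ∀ g ∈ Subgroup.zpowers x, g • Q = Q → g = 1) (hx1 : x ≠ 1)
    (H : Subgroup S) (hxH : x ∈ H) (hH : ¬ r ∣ H.index) : H = ⊤ := by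
  have hxo : r ^ 0 < orderOf x := by
    rw [pow_zero]
    have h1 : orderOf x ≠ 1 := fun h => hx1 (orderOf_eq_one_iff.1 h)
    have h2 : 0 < orderOf x := orderOf_pos x
    omega
  obtain ⟨U, htr, Q₀, hQU, hQH, k, hk, hkc⟩ := trans_of P hTI hcard 0 x hx hxo H hxH (by simpa using hH)
  have hk1 : k = 1 := by simpa using hkc
  rw [hk1, one_mul] at hk
  have hUQ : Q₀ = (U : Subgroup S) := Subgroup.eq_of_le_of_card_ge hQU hk.le
  have hUH : (U : Subgroup S) ≤ H := hUQ ▸ hQH
  have hall : ∀ V : Sylow r S, (V : Subgroup S) ≤ H := by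
    intro V
    obtain ⟨h, hh, hV⟩ := htr V
    intro y hy
    rw [← hV, Sylow.smul_def] at hy
    obtain ⟨u, hu, rfl⟩ := (Subgroup.mem_smul_pointwise_iff_exists _ _ _).1 hy
    have : MulAut.conj h • u = h * u * h⁻¹ := rfl
    rw [this]
    exact H.mul_mem (H.mul_mem hh (hUH hu)) (H.inv_mem hh)
  have hn : (⨆ V : Sylow r S, (V : Subgroup S)).Normal := by
    refine ⟨fun n hn g => ?_⟩
    have h1 : (⨆ V : Sylow r S, (V : Subgroup S)) ≤
        (⨆ V : Sylow r S, (V : Subgroup S)).comap (MulAut.conj g).toMonoidHom := by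
      refine iSup_le fun V y hy => ?_
      rw [Subgroup.mem_comap]
      apply Subgroup.mem_iSup_of_mem (g • V)
      rw [Sylow.smul_def]
      exact Subgroup.smul_mem_pointwise_smul y (MulAut.conj g) (V : Subgroup S) hy
    exact h1 hn
  rcases hn.eq_bot_or_eq_top with h | h
  · exfalso
    apply hP
    rw [eq_bot_iff, ← h]
    exact le_iSup (fun V : Sylow r S => (V : Subgroup S)) P
  · rw [eq_top_iff, ← h]
    exact iSup_le hall

end group

end Cfsg.Agent.H902.MonoRank
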