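import Mathlib
import Cfsg.Prelude.Def_KGroupFacts
import Cfsg.Agent.H902.MonoRank
import Cfsg.Agent.S0157

/-!
# Rank one groups: `GoodMono` (S4572)
-/

set_option autoImplicit false
set_option linter.unusedSectionVars false

namespace Cfsg.Agent.H902.MonoRank

open MulAction Cfsg Cfsg.Agent.H649.MN Cfsg.Agent.H902.Mono
open scoped Pointwise

section two

variable {S : Type*} [Group S] [Finite S] {r : ℕ} [hr : Fact r.Prime]

/-- Elements of a Sylow subgroup fix only one Sylow subgroup. -/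
theorem fix_eq_one (hTI : ∀ Q Q' : Sylow r S, Q ≠ Q' → (Q : Subgroup S) ⊓ (Q' : Subgroup S) = ⊥) (U V : Sylow r S)
    (hne : V ≠ U) {g : S} (hg : g ∈ (U : Subgroup S)) (hgV : g • V = V) : g = 1 := by
  have hgN : g ∈ Subgroup.normalizer ((V : Subgroup S) : Set S) := by
    have h0 : g ∈ stabilizer S V := hgV
    rw [Sylow.stabilizer_eq_normalizer] at h0
    exact h0
  have hgV' : g ∈ (V : Subgroup S) := by
    have h1 : IsPGroup r (Subgroup.zpowers g) := U.isPGroup'.to_le (by simpa using hg)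
    have h2 : Subgroup.zpowers g ≤ Subgroup.normalizer ((V : Subgroup S) : Set S) := by simpa using hgN
    have h3 : IsPGroup r (Subgroup.zpowers g ⊔ V : Subgroup S) := h1.to_sup_of_normal_right' V.isPGroup' h2
    have h4 : (Subgroup.zpowers g ⊔ V : Subgroup S) = V := V.3 h3 le_sup_right
    rw [← h4]
    exact Subgroup.mem_sup_left (Subgroup.mem_zpowers g)
  have h5 : g ∈ (V : Subgroup S) ⊓ (U : Subgroup S) := ⟨hgV', hg⟩
  rw [hTI V U hne] at h5
  exact h5

theorem card_eq (U P : Sylow r S) : Nat.card U = Nat.card P := by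
  rw [U.card_eq_multiplicity, P.card_eq_multiplicity]

/-- `U` is transitive on the other Sylow subgroups. -/
theorem trans_other (P : Sylow r S) (hTI : ∀ Q Q' : Sylow r S, Q ≠ Q' → (Q : Subgroup S) ⊓ (Q' : Subgroup S) = ⊥)
    (hcard : Nat.card (Sylow r S) = Nat.card P + 1) (U V W : Sylow r S) (hV : V ≠ U) (hW : W ≠ U) :
    ∃ g ∈ (U : Subgroup S), g • V = W := by
  classical
  let f : ↥(U : Subgroup S) → {Z : Sylow r S // Z ≠ U} := fun g => ⟨(g : S) • V, fun h => hV (by
    have h1 : (g : S) • U = U := by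
      have : (g : S) ∈ stabilizer S U := by
        rw [Sylow.stabilizer_eq_normalizer]
        exact Subgroup.le_normalizer g.2
      exact this
    exact smul_left_cancel (g : S) (h.trans h1.symm))⟩
  have hinj : Function.Injective f := by
    intro a b hab
    have h1 : (a : S) • V = (b : S) • V := congrArg Subtype.val hab
    have h2 : ((b : S)⁻¹ * a) • V = V := by rw [mul_smul, h1, inv_smul_smul]
    have h3 := fix_eq_one hTI U V hV ((U : Subgroup S).mul_mem ((U : Subgroup S).inv_mem b.2) a.2) h2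
    exact Subtype.ext (inv_mul_eq_one.1 h3).symm
  have hc : Nat.card {Z : Sylow r S // Z ≠ U} = Nat.card (U : Subgroup S) := by
    have := Fintype.ofFinite (Sylow r S)
    rw [Nat.card_eq_fintype_card, Fintype.card_subtype_compl, Fintype.card_subtype_eq, ← Nat.card_eq_fintype_card,
      hcard, Nat.add_sub_cancel]
    exact (card_eq U P).symm
  have hbij : Function.Bijective f := (Nat.bijective_iff_injective_and_card f).2 ⟨hinj, hc.symm⟩
  obtain ⟨g, hg⟩ := hbij.2 ⟨W, hW⟩
  exact ⟨g, g.2, congrArg Subtype.val hg⟩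

theorem two_trans (P : Sylow r S) (hTI : ∀ Q Q' : Sylow r S, Q ≠ Q' → (Q : Subgroup S) ⊓ (Q' : Subgroup S) = ⊥)
    (hcard : Nat.card (Sylow r S) = Nat.card P + 1) (a b c d : Sylow r S) (hab : a ≠ b) (hcd : c ≠ d) :
    ∃ g : S, g • a = c ∧ g • b = d := by
  obtain ⟨g, hg⟩ := exists_smul_eq S a c
  have h1 : g • b ≠ c := fun h => hab (smul_left_cancel g (hg.trans h.symm))
  obtain ⟨u, hu, hub⟩ := trans_other P hTI hcard c (g • b) d h1 hcd.symm
  refine ⟨u * g, ?_, by rw [mul_smul, hub]⟩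
  rw [mul_smul, hg]
  have : u ∈ stabilizer S c := by
    rw [Sylow.stabilizer_eq_normalizer]
    exact Subgroup.le_normalizer hu
  exact this

end two

section out

variable {S A : Type*} [Group S] [Group A] (f : S →* A) (hf : Function.Injective f) (hN : (f.range).Normal)

/-- The action of `A` on `S`. -/
theorem exists_rho (hf : Function.Injective f) (hN : (f.range).Normal) :
    ∃ ρ : A →* MulAut S, ∀ a s, f (ρ a s) = a * f s * a⁻¹ := by
  have := hN
  refine ⟨(MulAut.congr (MonoidHom.ofInjective hf).symm).toMonoidHom.comp MulAut.conjNormal, fun a s => ?_⟩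
  have h1 : f ((MonoidHom.ofInjective hf).symm (MulAut.conjNormal a ((MonoidHom.ofInjective hf) s))) =
      ((MulAut.conjNormal a ((MonoidHom.ofInjective hf) s) : f.range) : A) := by
    have := congrArg Subtype.val ((MonoidHom.ofInjective hf).apply_symm_apply
      (MulAut.conjNormal a ((MonoidHom.ofInjective hf) s)))
    exact this
  change f ((MonoidHom.ofInjective hf).symm (MulAut.conjNormal a ((MonoidHom.ofInjective hf) s))) = _
  rw [h1, MulAut.conjNormal_apply]
  rfl

theorem rho_conj (hf : Function.Injective f) {ρ : A →* MulAut S} (hρ : ∀ a s, f (ρ a s) = a * f s * a⁻¹) (s : S) :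
    ρ (f s) = MulAut.conj s := by
  ext t
  apply hf
  rw [hρ, MulAut.conj_apply, map_mul, map_mul, map_inv]

theorem rho_injective {ρ : A →* MulAut S} (hρ : ∀ a s, f (ρ a s) = a * f s * a⁻¹)
    (hC : Subgroup.centralizer (f.range : Set A) = ⊥) : Function.Injective ρ := by
  rw [injective_iff_map_eq_one]
  intro a ha
  have h3 : a ∈ Subgroup.centralizer (f.range : Set A) := by
    rw [Subgroup.mem_centralizer_iff]
    rintro _ ⟨s, rfl⟩
    have h4 := hρ a s
    rw [ha, MulAut.one_apply] at h4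
    calc f s * a = (a * f s * a⁻¹) * a := by rw [← h4]
      _ = a * f s := by group
  rw [hC] at h3
  exact h3

/-- `|A : S|` divides `|Out S|`. -/
theorem index_dvd_out [Finite S] (hf : Function.Injective f) (hN : (f.range).Normal)
    (hC : Subgroup.centralizer (f.range : Set A) = ⊥) : (f.range).index ∣ Nat.card (Cfsg.Out S) := by
  obtain ⟨ρ, hρ⟩ := exists_rho f hf hN
  have hinj := rho_injective f hρ hC
  have hfin : Finite A := Finite.of_injective _ hinj
  have h1 : (f.range).map ρ = (MulAut.conj : S →* MulAut S).range := by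
    ext φ
    constructor
    · rintro ⟨_, ⟨s, rfl⟩, rfl⟩
      exact ⟨s, (rho_conj f hf hρ s).symm⟩
    · rintro ⟨s, rfl⟩
      exact ⟨f s, ⟨s, rfl⟩, rho_conj f hf hρ s⟩
  have h2 : ((f.range).map ρ).relIndex ρ.range = (f.range).index := by
    have h3 : ((f.range).map ρ).relIndex ((⊤ : Subgroup A).map ρ) = (f.range).relIndex ⊤ :=
      Subgroup.relIndex_map_map_of_injective (f.range) ⊤ hinj
    rw [← MonoidHom.range_eq_map ρ] at h3
    rw [h3, Subgroup.relIndex_top_right]
  have h4 : ((MulAut.conj : S →* MulAut S).range).relIndex ρ.range = (f.range).index := by rw [← h1, h2]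
  have h5 : (MulAut.conj : S →* MulAut S).range ≤ ρ.range := by
    rw [← h1, MonoidHom.range_eq_map ρ]
    exact Subgroup.map_mono le_top
  show (f.range).index ∣ ((MulAut.conj : S →* MulAut S).range).index
  rw [← h4]
  exact Subgroup.relIndex_dvd_index_of_le h5

end out

section good

variable {S : Type*} [Group S] [Finite S] [IsSimpleGroup S] {r : ℕ} [hr : Fact r.Prime]

/-- The Steinberg character of `A`. -/
theorem exists_st (P : Sylow r S)
    (hTI : ∀ Q Q' : Sylow r S, Q ≠ Q' → (Q : Subgroup S) ⊓ (Q' : Subgroup S) = ⊥)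
    (hcard : Nat.card (Sylow r S) = Nat.card P + 1) {A : Type*} [Group A] [Fintype A] (f : S →* A)
    (hf : Function.Injective f) (hN : (f.range).Normal) :
    ∃ χ : A → ℂ, IsIrrCharacter A χ ∧ (∃ s : S, χ (f s) ≠ χ 1) ∧ χ 1 = ((Nat.card P : ℕ) : ℂ) := by
  classical
  obtain ⟨ρ, hρ⟩ := exists_rho f hf hN
  let act : MulAction A (Sylow r S) := MulAction.compHom (Sylow r S) ρ
  have hact : ∀ (s : S) (V : Sylow r S), f s • V = s • V := by
    intro s V
    change ρ (f s) • V = s • V
    rw [rho_conj f hf hρ]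
    rfl
  have hX : 2 ≤ Nat.card (Sylow r S) := by
    rw [hcard]
    have : 0 < Nat.card P := Nat.card_pos
    omega
  have htr : IsPretransitive A (Sylow r S) := ⟨fun a b => by
    obtain ⟨s, hs⟩ := exists_smul_eq S a b
    exact ⟨f s, by rw [hact, hs]⟩⟩
  have h2 : IsMultiplyPretransitive A (Sylow r S) 2 := by
    rw [is_two_pretransitive_iff]
    intro a b c d hab hcd
    obtain ⟨s, h1, h2⟩ := two_trans P hTI hcard a b c d hab hcd
    exact ⟨f s, by rw [hact, h1], by rw [hact, h2]⟩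
  have hirr := (Cfsg.Agent.S0157.result (G := A) (Sylow r S) hX).2 h2
  set χ : A → ℂ := fun g => (Nat.card (fixedBy (Sylow r S) g) : ℂ) - 1 with hχ
  have hχ1 : χ 1 = ((Nat.card P : ℕ) : ℂ) := by
    have h3 : fixedBy (Sylow r S) (1 : A) = Set.univ := by
      ext V; simp
    rw [hχ]
    simp only
    rw [h3, Nat.card_congr (Equiv.Set.univ (Sylow r S)), hcard]
    push_cast
    ring
  refine ⟨χ, hirr, ?_, hχ1⟩
  by_contra hcon
  push Not at hcon
  have hne : ∃ V W : Sylow r S, V ≠ W := by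
    have : Nontrivial (Sylow r S) := (Finite.one_lt_card_iff_nontrivial).1 (by omega)
    exact exists_pair_ne _
  obtain ⟨V, W, hVW⟩ := hne
  obtain ⟨s, hs⟩ := exists_smul_eq S V W
  have h3 := hcon s
  rw [hχ1, hχ] at h3
  simp only at h3
  have h4 : Nat.card (fixedBy (Sylow r S) (f s)) = Nat.card (Sylow r S) := by
    have : ((Nat.card (fixedBy (Sylow r S) (f s)) : ℕ) : ℂ) = ((Nat.card P + 1 : ℕ) : ℂ) := by
      push_cast
      linear_combination h3
    rw [hcard]
    exact_mod_cast this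
  have h5 : fixedBy (Sylow r S) (f s) = Set.univ := by
    apply Set.eq_of_subset_of_ncard_le (Set.subset_univ _) _ (Set.toFinite _)
    rw [Set.ncard_univ, ← Nat.card_coe_set_eq, h4]
  have h6 : V ∈ fixedBy (Sylow r S) (f s) := h5 ▸ Set.mem_univ V
  rw [mem_fixedBy, hact, hs] at h6
  exact hVW h6.symm

/-- If the Steinberg character is not monomial. -/
theorem pair_of_st (hna : ¬ IsMulCommutative S) {c D : ℕ} (hout : ¬ r ^ (c + 1) ∣ Nat.card (Cfsg.Out S))
    (hD : r ^ (c + 1) ∣ D) {A : Type*} [Group A] [Fintype A] (f : S →* A)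
    (hf : Function.Injective f) (hN : (f.range).Normal) (hC : Subgroup.centralizer (f.range : Set A) = ⊥)
    {χ : A → ℂ} (hSt : NonMono f χ) (hχ1 : χ 1 = (D : ℂ)) (x : S) (hx1 : x ≠ 1)
    (hcore : ∀ H : Subgroup S, x ∈ H → ¬ r ^ (c + 1) ∣ H.index → H = ⊤) :
    ∃ χ ψ : A → ℂ, NonMono f χ ∧ NonMono f ψ ∧ χ 1 ≠ ψ 1 := by
  by_contra hcon
  push Not at hcon
  obtain ⟨H, hH, hxH, hHi⟩ := exists_sub hna f hN hr.out
    (fun h => hout (h.trans (index_dvd_out f hf hN hC))) hD
    (fun ψ hψ => by rw [hcon ψ χ hψ hSt, hχ1]) hf x hx1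
  exact hH (hcore H hxH hHi)

theorem good_core (hna : ¬ IsMulCommutative S) (P : Sylow r S)
    (hTI : ∀ Q Q' : Sylow r S, Q ≠ Q' → (Q : Subgroup S) ⊓ (Q' : Subgroup S) = ⊥)
    (hcard : Nat.card (Sylow r S) = Nat.card P + 1) (c : ℕ) (hout : ¬ r ^ (c + 1) ∣ Nat.card (Cfsg.Out S))
    (hgood : Cfsg.Agent.H408.Core.Good r S) (hPc : r ^ (c + 1) ∣ Nat.card P)
    (x : S) (hx1 : x ≠ 1) (hcore : ∀ H : Subgroup S, x ∈ H → ¬ r ^ (c + 1) ∣ H.index → H = ⊤) :
    GoodMono S := by
  classical
  intro A _ _ f hf hN hC _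
  obtain ⟨χ, hirr, hnt, hχ1⟩ := exists_st P hTI hcard f hf hN
  have hSt : NonMono f χ := nonMono_of_lt hna f hN hirr hnt hχ1 (fun H hH hd => by
    obtain ⟨n, hn⟩ := P.isPGroup'.exists_card_eq
    rw [hn] at hd
    obtain ⟨k, -, hk⟩ := (Nat.dvd_prime_pow hr.out).1 hd
    exact hH (hgood H k hk))
  exact pair_of_st hna hout hPc f hf hN hC hSt hχ1 x hx1 hcore

/-- The version with a bound on the index. -/
theorem good_of (hna : ¬ IsMulCommutative S) (P : Sylow r S)
    (hTI : ∀ Q Q' : Sylow r S, Q ≠ Q' → (Q : Subgroup S) ⊓ (Q' : Subgroup S) = ⊥)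
    (hcard : Nat.card (Sylow r S) = Nat.card P + 1) (c : ℕ) (hout : ¬ r ^ (c + 1) ∣ Nat.card (Cfsg.Out S))
    (hmin : ∀ H : Subgroup S, H ≠ ⊤ → r ^ c * Nat.card (Subgroup.normalizer ((P : Subgroup S) : Set S)) <
      H.index * Nat.card P)
    (hgood : Cfsg.Agent.H408.Core.Good r S) (hPc : r ^ (c + 1) ∣ Nat.card P)
    (x : S) (hx : ∀ Q : Sylow r S, ∀ g ∈ Subgroup.zpowers x, g • Q = Q → g = 1) (hxo : r ^ c < orderOf x) :
    GoodMono S := by
  have hx1 : x ≠ 1 := by
    rintro rfl
    rw [orderOf_one] at hxo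
    have : 0 < r ^ c := pow_pos hr.out.pos _
    omega
  exact good_core hna P hTI hcard c hout hgood hPc x hx1
    (fun H hxH hH => rank_one P hTI hcard c hmin x hx hxo H hxH hH)

/-- The version with `c = 0`. -/
theorem good_of_zero (hna : ¬ IsMulCommutative S) (P : Sylow r S) (hP : (P : Subgroup S) ≠ ⊥)
    (hTI : ∀ Q Q' : Sylow r S, Q ≠ Q' → (Q : Subgroup S) ⊓ (Q' : Subgroup S) = ⊥)
    (hcard : Nat.card (Sylow r S) = Nat.card P + 1) (hout : ¬ r ∣ Nat.card (Cfsg.Out S))
    (hgood : Cfsg.Agent.H408.Core.Good r S)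
    (x : S) (hx : ∀ Q : Sylow r S, ∀ g ∈ Subgroup.zpowers x, g • Q = Q → g = 1) (hx1 : x ≠ 1) :
    GoodMono S := by
  have hPr : r ^ (0 + 1) ∣ Nat.card P := by
    obtain ⟨n, hn⟩ := P.isPGroup'.exists_card_eq
    rw [hn]
    rcases Nat.eq_zero_or_pos n with h0 | h0
    · exfalso
      apply hP
      rw [h0, pow_zero] at hn
      exact (Subgroup.card_eq_one).1 hn
    · exact pow_dvd_pow r h0
  exact good_core hna P hTI hcard 0 (by simpa using hout) hgood hPr x hx1
    (fun H hxH hH => rank_one_zero P hP hTI hcard x hx hx1 H hxH (by simpa using hH))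

/-- A prime `ℓ` dividing `|Syl|` but not `|N(P)|` gives a good `x`. -/
theorem exists_x (P : Sylow r S) {l : ℕ} (hl : l.Prime) (h1 : l ∣ Nat.card (Sylow r S))
    (h2 : ¬ l ∣ Nat.card (Subgroup.normalizer ((P : Subgroup S) : Set S))) :
    ∃ x : S, orderOf x = l ∧ ∀ Q : Sylow r S, ∀ g ∈ Subgroup.zpowers x, g • Q = Q → g = 1 := by
  have := Fact.mk hl
  have h3 : l ∣ Nat.card S := by
    rw [← card_mul P]
    exact h1.mul_left _
  obtain ⟨x, hx⟩ := exists_prime_orderOf_dvd_card' l h3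
  refine ⟨x, hx, fun Q g hg hgQ => ?_⟩
  by_contra hne
  apply h2
  have h4 : orderOf g = l := by
    have h5 : orderOf g ∣ l := by
      rw [← hx]; exact orderOf_dvd_of_mem_zpowers hg
    rcases (Nat.dvd_prime hl).1 h5 with h6 | h6
    · exact absurd (orderOf_eq_one_iff.1 h6) hne
    · exact h6
  have h6 : g ∈ Subgroup.normalizer ((Q : Subgroup S) : Set S) := by
    have h0 : g ∈ stabilizer S Q := hgQ
    rw [Sylow.stabilizer_eq_normalizer] at h0
    exact h0
  have h7 : Nat.card (Subgroup.normalizer ((Q : Subgroup S) : Set S)) =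
      Nat.card (Subgroup.normalizer ((P : Subgroup S) : Set S)) :=
    Nat.eq_of_mul_eq_mul_right Nat.card_pos ((card_mul Q).trans (card_mul P).symm)
  rw [← h7, ← h4]
  have := Subgroup.orderOf_dvd_natCard _ h6
  exact this

end good

end Cfsg.Agent.H902.MonoRank
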