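import Cfsg.Agent.H902.MonoSmallC
import Cfsg.Agent.H902.MonoPSU
import Cfsg.Agent.H902.MonoSz
import Cfsg.Agent.H902.MonoRee
import Cfsg.Agent.S0283
import Cfsg.Agent.TwoFusion.SLTwoFacts

/-!
# The rows of S4572 of Lie rank one
-/

set_option autoImplicit false

namespace Cfsg.Agent.H902.MonoRows

open Cfsg Matrix Cfsg.Agent.H649.MN

theorem row_psl2 (F : Type) [Field F] [Fintype F] (hF : 4 ≤ Fintype.card F) :
    GoodMono (Matrix.ProjectiveSpecialLinearGroup (Fin 2) F) := by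
  have := Cfsg.Agent.TwoFusion.SLTwoFacts.isSimpleGroup_psl (F := F) (by omega)
  exact MonoSmall.psl2 hF

/-- `PSU₃(q)`: given the same-characteristic part of S3608. -/
theorem row_psu3 (hgood : ∀ (r : ℕ) (F : Type) [Field F] [Fintype F] [CharP F r] (q : ℕ), r.Prime → Fintype.card F = q ^ 2 →
      3 ≤ q → Cfsg.Agent.H408.Core.Good r (PSU 3 F q))
    (F : Type) [Field F] [Fintype F] (q : ℕ) (hF : Fintype.card F = q ^ 2) (hq : q ≠ 2) : GoodMono (PSU 3 F q) := by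
  have h1 : 1 < Fintype.card F := Fintype.one_lt_card
  have hq3 : 3 ≤ q := by
    rw [hF] at h1
    have : q ≠ 0 := by rintro rfl; norm_num at h1
    have : q ≠ 1 := by rintro rfl; norm_num at h1
    omega
  obtain ⟨r, hcr⟩ := CharP.exists F
  have hr : Fact r.Prime := ⟨CharP.char_is_prime F r⟩
  have hs : IsSimpleGroup (PSU 3 F q) := S0283.result hF 3 le_rfl (by rintro ⟨-, h⟩; omega)
  exact MonoPSU.good_psu3 hF hq3 (hgood r F q hr.out hF hq3)

theorem row_sz (hgood : ∀ (F : Type) [Field F] [Fintype F] (m : ℕ), 1 ≤ m → Fintype.card F = 2 ^ (2 * m + 1) →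
      Cfsg.Agent.H408.Core.Good 2 ↥(Cfsg.Lie.Sz F (2 ^ (m + 1))))
    {G : Type*} [Group G] (h : Lie.IsoSuzuki G) : GoodMono G := by
  obtain ⟨F, _, _, m, hm, hF, ⟨e⟩⟩ := h
  exact (MonoSz.good_sz hm hF (hgood F m hm hF)).congr e.symm

theorem row_ree (hgood : ∀ (F : Type) [Field F] [Fintype F] (m : ℕ), 1 ≤ m → Fintype.card F = 3 ^ (2 * m + 1) →
      Cfsg.Agent.H408.Core.Good 3 ↥(Cfsg.Lie.twistedG2 F (3 ^ m)))
    {G : Type*} [Group G] (h : Lie.IsoRee G) : GoodMono G := by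
  obtain ⟨F, _, _, m, hm, hF, ⟨e⟩⟩ := h
  exact (MonoRee.good_ree hm hF (hgood F m hm hF)).congr e.symm

end Cfsg.Agent.H902.MonoRows
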