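import Cfsg.Agent.H902.MonoPSL2
import Cfsg.Agent.H410.Basic
import Cfsg.Agent.S2140
import Cfsg.Agent.S0255
import Cfsg.Agent.S0252
import Cfsg.Agent.S0253

/-!
# The groups `PSL₂(q)`, `q = 4, 5, 7, 11` (S4572): tools
-/

set_option autoImplicit false
set_option linter.unusedSectionVars false

namespace Cfsg.Agent.H902.MonoSmall

open MulAction Cfsg Matrix Cfsg.Agent.H649.MN Cfsg.Agent.H902.Mono Cfsg.Agent.H902.MonoRank Cfsg.Agent.Characters.Core
open scoped Pointwise

section gen

/-- the action on cosets of a proper subgroup of a simple group -/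
theorem card_dvd_factorial {S : Type*} [Group S] [Finite S] [IsSimpleGroup S] (H : Subgroup S) (hH : H ≠ ⊤) :
    Nat.card S ∣ H.index.factorial := by
  have hker : (toPermHom S (S ⧸ H)).ker = ⊥ := by
    rcases (inferInstance : (toPermHom S (S ⧸ H)).ker.Normal).eq_bot_or_eq_top with h | h
    · exact h
    · exfalso
      apply hH
      rw [eq_top_iff, ← h, ← Subgroup.normalCore_eq_ker]
      exact H.normalCore_le
  have h1 := Subgroup.card_dvd_of_injective (toPermHom S (S ⧸ H)) ((MonoidHom.ker_eq_bot_iff _).1 hker)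
  rwa [Nat.card_perm] at h1

theorem index_ge {S : Type*} [Group S] [Finite S] [IsSimpleGroup S] {p : ℕ} (hp : p.Prime) (hS : p ∣ Nat.card S)
    (H : Subgroup S) (hH : H ≠ ⊤) : p ≤ H.index :=
  (hp.dvd_factorial).1 (hS.trans (card_dvd_factorial H hH))

variable {A : Type*} [Group A] [Fintype A]

/-- An induced linear character is not `-1` at an element at whose conjugates the linear character is `1`. -/
theorem indFun_ne (H : Subgroup A) (lam : H →* ℂˣ) (y : A) (hy : ∀ (a : A) (h : a⁻¹ * y * a ∈ H), lam ⟨_, h⟩ = 1) :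
    indFun H (fun h => (lam h : ℂ)) y ≠ -1 := by
  classical
  rw [indFun_apply]
  have h1 : ∀ a : A, extendByZero H (fun h => (lam h : ℂ)) (a⁻¹ * y * a) = ((if a⁻¹ * y * a ∈ H then 1 else 0 : ℕ) : ℂ) := by
    intro a
    by_cases h : a⁻¹ * y * a ∈ H
    · rw [extendByZero_of_mem H _ h, if_pos h, hy a h]
      simp
    · rw [extendByZero_of_notMem H _ h, if_neg h]
      simp
  rw [Finset.sum_congr rfl fun a _ => h1 a, ← Nat.cast_sum]
  intro h
  have h0 : (Nat.card H : ℂ) ≠ 0 := by exact_mod_cast Nat.card_pos.ne'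
  have h2 : ((∑ a : A, (if a⁻¹ * y * a ∈ H then 1 else 0) : ℕ) : ℂ) = - (Nat.card H : ℂ) := by
    have h3 := congrArg (fun z => (Nat.card H : ℂ) * z) h
    rw [← mul_assoc, mul_inv_cancel₀ h0, one_mul] at h3
    rw [h3]; ring
  have h3 : ((∑ a : A, (if a⁻¹ * y * a ∈ H then 1 else 0) + Nat.card H : ℕ) : ℂ) = 0 := by
    push_cast at h2 ⊢
    rw [h2]; ring
  have h4 : (∑ a : A, (if a⁻¹ * y * a ∈ H then 1 else 0) + Nat.card H : ℕ) = 0 := by exact_mod_cast h3
  have h5 : 0 < Nat.card H := Nat.card_pos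
  omega

variable {S : Type*} [Group S] [Finite S] (f : S →* A)

/-- The core of a subgroup not containing `S`. -/
theorem core_eq_bot [IsSimpleGroup S] (hN : (f.range).Normal)
    (hC : Subgroup.centralizer (f.range : Set A) = ⊥) {H : Subgroup A} (hH : ¬ f.range ≤ H) : H.normalCore = ⊥ := by
  have h1 : (H.normalCore.comap f).Normal := inferInstance
  have h2 : H.normalCore.comap f = ⊥ := by
    rcases h1.eq_bot_or_eq_top with h | h
    · exact h
    · exfalso
      apply hH
      rintro _ ⟨s, rfl⟩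
      have : s ∈ H.normalCore.comap f := h ▸ Subgroup.mem_top s
      exact H.normalCore_le this
  rw [eq_bot_iff, ← hC]
  intro a ha
  rw [Subgroup.mem_centralizer_iff]
  rintro _ ⟨s, rfl⟩
  have h3 : f s * a * (f s)⁻¹ * a⁻¹ ∈ H.normalCore :=
    mul_mem (Subgroup.Normal.conj_mem inferInstance a ha (f s)) (inv_mem ha)
  have h4 : f s * a * (f s)⁻¹ * a⁻¹ ∈ f.range := by
    have h5 : a * (f s)⁻¹ * a⁻¹ ∈ f.range := hN.conj_mem _ (inv_mem ⟨s, rfl⟩) a
    have h6 : f s * a * (f s)⁻¹ * a⁻¹ = f s * (a * (f s)⁻¹ * a⁻¹) := by group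
    rw [h6]
    exact mul_mem ⟨s, rfl⟩ h5
  obtain ⟨t, ht⟩ := h4
  have h7 : t ∈ H.normalCore.comap f := by
    rw [Subgroup.mem_comap, ht]; exact h3
  rw [h2, Subgroup.mem_bot] at h7
  rw [h7, map_one] at ht
  have h8 : f s * a * (f s)⁻¹ * a⁻¹ = 1 := ht.symm
  calc f s * a = (f s * a * (f s)⁻¹ * a⁻¹) * (a * f s) := by group
    _ = a * f s := by rw [h8, one_mul]

/-- The Steinberg character of `A`, with values. -/
theorem exists_st' {r : ℕ} [hr : Fact r.Prime] (P : Sylow r S)
    (hTI : ∀ Q Q' : Sylow r S, Q ≠ Q' → (Q : Subgroup S) ⊓ (Q' : Subgroup S) = ⊥)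
    (hcard : Nat.card (Sylow r S) = Nat.card P + 1)
    (hf : Function.Injective f) (hN : (f.range).Normal) :
    ∃ χ : A → ℂ, IsIrrCharacter A χ ∧ (∃ s : S, χ (f s) ≠ χ 1) ∧ χ 1 = ((Nat.card P : ℕ) : ℂ) ∧
      ∀ x : S, (∀ Q : Sylow r S, x • Q ≠ Q) → χ (f x) = -1 := by
  classical
  obtain ⟨ρ, hρ⟩ := exists_rho f hf hN
  let act : MulAction A (Sylow r S) := MulAction.compHom (Sylow r S) ρ
  have hact : ∀ (s : S) (V : Sylow r S), f s • V = s • V := by
    intro s V
    change ρ (f s) • V = s • V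
    rw [rho_conj f hf hρ]
    rfl
  have hX : 2 ≤ Nat.card (Sylow r S) := by
    rw [hcard]
    have : 0 < Nat.card P := Nat.card_pos
    omega
  have htr : IsPretransitive A (Sylow r S) := ⟨fun a b => by
    obtain ⟨s, hs⟩ := exists_smul_eq S a b
    exact ⟨f s, by rw [hact, hs]⟩⟩
  have h2 : IsMultiplyPretransitive A (Sylow r S) 2 := by
    rw [is_two_pretransitive_iff]
    intro a b c d hab hcd
    obtain ⟨s, h1, h2⟩ := two_trans P hTI hcard a b c d hab hcd
    exact ⟨f s, by rw [hact, h1], by rw [hact, h2]⟩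
  have hirr := (Cfsg.Agent.S0157.result (G := A) (Sylow r S) hX).2 h2
  set χ : A → ℂ := fun g => (Nat.card (fixedBy (Sylow r S) g) : ℂ) - 1 with hχ
  have hχ1 : χ 1 = ((Nat.card P : ℕ) : ℂ) := by
    have h3 : fixedBy (Sylow r S) (1 : A) = Set.univ := by
      ext V; simp
    rw [hχ]
    simp only
    rw [h3, Nat.card_congr (Equiv.Set.univ (Sylow r S)), hcard]
    push_cast
    ring
  have hval : ∀ x : S, (∀ Q : Sylow r S, x • Q ≠ Q) → χ (f x) = -1 := by
    intro x hx
    have h3 : fixedBy (Sylow r S) (f x) = ∅ := by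
      ext V
      rw [mem_fixedBy, hact]
      simp [hx V]
    rw [hχ]
    simp only
    rw [h3]
    simp
  refine ⟨χ, hirr, ?_, hχ1, hval⟩
  by_contra hcon
  push Not at hcon
  have hne : ∃ V W : Sylow r S, V ≠ W := by
    have : Nontrivial (Sylow r S) := (Finite.one_lt_card_iff_nontrivial).1 (by omega)
    exact exists_pair_ne _
  obtain ⟨V, W, hVW⟩ := hne
  obtain ⟨s, hs⟩ := exists_smul_eq S V W
  have h3 := hcon s
  rw [hχ1, hχ] at h3
  simp only at h3
  have h4 : Nat.card (fixedBy (Sylow r S) (f s)) = Nat.card (Sylow r S) := by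
    have : ((Nat.card (fixedBy (Sylow r S) (f s)) : ℕ) : ℂ) = ((Nat.card P + 1 : ℕ) : ℂ) := by
      push_cast
      linear_combination h3
    rw [hcard]
    exact_mod_cast this
  have h5 : fixedBy (Sylow r S) (f s) = Set.univ := by
    apply Set.eq_of_subset_of_ncard_le (Set.subset_univ _) _ (Set.toFinite _)
    rw [Set.ncard_univ, ← Nat.card_coe_set_eq, h4]
  have h6 : V ∈ fixedBy (Sylow r S) (f s) := h5 ▸ Set.mem_univ V
  rw [mem_fixedBy, hact, hs] at h6
  exact hVW h6.symm

end gen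

section perm

/-- An element of order three of a symmetric group of degree five is a product of two involutions fixing the same
points. -/
theorem three_eq_mul {Ω : Type*} [Finite Ω] (h5 : Nat.card Ω = 5) (σ : Equiv.Perm Ω) (h3 : σ ^ 3 = 1) (o : Ω) (ho : σ o = o) :
    ∃ s t : Equiv.Perm Ω, σ = s * t ∧ s * s = 1 ∧ t * t = 1 ∧ s o = o ∧ t o = o := by
  classical
  by_cases h1 : σ = 1
  · exact ⟨1, 1, by simp [h1], by simp, by simp, rfl, rfl⟩
  obtain ⟨x, hx⟩ : ∃ x, σ x ≠ x := by
    by_contra hcon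
    push Not at hcon
    exact h1 (Equiv.ext hcon)
  have h3' : ∀ w, σ (σ (σ w)) = w := fun w => by
    have := congrArg (fun τ : Equiv.Perm Ω => τ w) h3
    simpa [pow_succ, Equiv.Perm.mul_apply] using this
  set y := σ x with hy
  set z := σ y with hz
  have hzx : σ z = x := h3' x
  have hyx : y ≠ x := hx
  have hzy : z ≠ y := fun h => hx (σ.injective h)
  have hzx' : z ≠ x := by
    intro h
    have h6 : σ z = y := by rw [h]
    rw [hzx] at h6
    exact hyx h6.symm
  -- other points are fixed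
  have hfix : ∀ w, w ≠ x → w ≠ y → w ≠ z → σ w = w := by
    intro w hwx hwy hwz
    by_contra hw
    have hinj : Function.Injective ![x, y, z, w, σ w, σ (σ w)] := by
      have a1 : σ w ≠ x := fun h => hwz (σ.injective (h.trans hzx.symm))
      have a2 : σ w ≠ y := fun h => hwx (σ.injective h)
      have a3 : σ w ≠ z := fun h => hwy (σ.injective h)
      have b1 : σ (σ w) ≠ x := fun h => a3 (σ.injective (h.trans hzx.symm))
      have b2 : σ (σ w) ≠ y := fun h => a1 (σ.injective h)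
      have b3 : σ (σ w) ≠ z := fun h => a2 (σ.injective h)
      have b4 : σ (σ w) ≠ w := by
        intro h
        have h6 := h3' w
        rw [h] at h6
        exact hw h6
      have b5 : σ (σ w) ≠ σ w := fun h => hw (σ.injective h)
      intro i j hij
      fin_cases i <;> fin_cases j <;> simp_all [Ne.symm]
    have := Nat.card_le_card_of_injective _ hinj
    rw [h5, Nat.card_eq_fintype_card, Fintype.card_fin] at this
    omega
  have hox : o ≠ x := fun h => hyx (by rw [h] at ho; exact ho)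
  have hoy : o ≠ y := fun h => hzy (by rw [h] at ho; exact ho)
  have hoz : o ≠ z := fun h => hzx' (by rw [h, hzx] at ho; exact ho.symm)
  refine ⟨Equiv.swap x y, Equiv.swap y z, ?_, Equiv.swap_mul_self _ _, Equiv.swap_mul_self _ _,
    Equiv.swap_apply_of_ne_of_ne hox hoy, Equiv.swap_apply_of_ne_of_ne hoy hoz⟩
  ext w
  rw [Equiv.Perm.mul_apply]
  by_cases hwx : w = x
  · rw [hwx, Equiv.swap_apply_of_ne_of_ne hyx.symm hzx'.symm, Equiv.swap_apply_left]
  by_cases hwy : w = y
  · rw [hwy, Equiv.swap_apply_left, Equiv.swap_apply_of_ne_of_ne hzx' hzy]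
  by_cases hwz : w = z
  · rw [hwz, Equiv.swap_apply_right, Equiv.swap_apply_right, hzx]
  · rw [Equiv.swap_apply_of_ne_of_ne hwy hwz, Equiv.swap_apply_of_ne_of_ne hwx hwy, hfix w hwx hwy hwz]

/-- Linear characters of a point stabiliser in the symmetric group of degree five. -/
theorem lam_eq_one {A : Type*} [Group A] [Finite A] (hA : Nat.card A = 120) (H : Subgroup A) (hH : H.index = 5)
    (hcore : H.normalCore = ⊥) (lam : H →* ℂˣ) (h : H) (h3 : h ^ 3 = 1) : lam h = 1 := by
  classical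
  let φ : A →* Equiv.Perm (A ⧸ H) := toPermHom A (A ⧸ H)
  have hinj : Function.Injective φ := by
    rw [← MonoidHom.ker_eq_bot_iff, ← Subgroup.normalCore_eq_ker]
    exact hcore
  have hΩ : Nat.card (A ⧸ H) = 5 := hH
  have hbij : Function.Bijective φ := by
    rw [Nat.bijective_iff_injective_and_card]
    refine ⟨hinj, ?_⟩
    rw [Nat.card_perm, hΩ, hA]
    rfl
  let o : A ⧸ H := QuotientGroup.mk 1
  have ho : ∀ a : A, φ a o = o ↔ a ∈ H := by
    intro a
    change (QuotientGroup.mk (a * 1) : A ⧸ H) = QuotientGroup.mk 1 ↔ a ∈ H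
    rw [QuotientGroup.eq, mul_one, mul_one, inv_mem_iff]
  obtain ⟨s, t, hst, hs, ht, hso, hto⟩ := three_eq_mul hΩ (φ h) (by
    rw [← map_pow, ← Subgroup.coe_pow, h3]
    exact map_one φ) o ((ho h).2 h.2)
  obtain ⟨s', rfl⟩ := hbij.2 s
  obtain ⟨t', rfl⟩ := hbij.2 t
  have hs' : s' ∈ H := (ho s').1 hso
  have ht' : t' ∈ H := (ho t').1 hto
  have h1 : h = (⟨s', hs'⟩ : H) * ⟨t', ht'⟩ := by
    apply Subtype.ext
    apply hinj
    rw [hst, ← map_mul]
    rfl
  have h2 : lam ⟨s', hs'⟩ * lam ⟨s', hs'⟩ = 1 := by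
    rw [← map_mul, ← map_one lam]
    congr 1
    apply Subtype.ext
    apply hinj
    rw [Subgroup.coe_mul, map_mul, hs]
    exact (map_one φ).symm
  have h4 : lam ⟨t', ht'⟩ * lam ⟨t', ht'⟩ = 1 := by
    rw [← map_mul, ← map_one lam]
    congr 1
    apply Subtype.ext
    apply hinj
    rw [Subgroup.coe_mul, map_mul, ht]
    exact (map_one φ).symm
  have h5 : lam h * lam h = 1 := by
    rw [h1, map_mul]
    calc _ = (lam ⟨s', hs'⟩ * lam ⟨s', hs'⟩) * (lam ⟨t', ht'⟩ * lam ⟨t', ht'⟩) := by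
          rw [mul_mul_mul_comm]
      _ = 1 := by rw [h2, h4, one_mul]
  have h6 : lam h ^ 3 = 1 := by rw [← map_pow, h3, map_one]
  calc lam h = (lam h ^ 3) * (lam h * lam h)⁻¹ := by group
    _ = 1 := by rw [h6, h5]; simp

/-- No subgroup of order `336` of the symmetric group of degree seven. -/
theorem not_336 {Ω : Type*} [Finite Ω] (h7 : Nat.card Ω = 7) (K : Subgroup (Equiv.Perm Ω)) (hK : Nat.card K = 336) : False := by
  classical
  have := Fintype.ofFinite Ω
  have h7' : Fintype.card Ω = 7 := by rw [← Nat.card_eq_fintype_card]; exact h7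
  have hidx : K.index = 15 := by
    have h1 := K.index_mul_card
    rw [Nat.card_perm, h7, hK] at h1
    have h2 : (7 : ℕ).factorial = 15 * 336 := by decide
    rw [h2] at h1
    exact Nat.eq_of_mul_eq_mul_right (by norm_num) h1
  have hnt : Nontrivial Ω := Fintype.one_lt_card_iff_nontrivial.1 (by omega)
  obtain ⟨x, y, hxy⟩ := exists_pair_ne Ω
  let τ := Equiv.swap x y
  have hp : IsPGroup 2 (Subgroup.zpowers τ) := by
    apply IsPGroup.of_card (n := 1)
    rw [Nat.card_zpowers, pow_one]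
    apply orderOf_eq_prime
    · rw [sq]; exact Equiv.swap_mul_self _ _
    · intro h
      apply hxy
      have h1 : Equiv.swap x y x = (1 : Equiv.Perm Ω) x := by rw [show Equiv.swap x y = 1 from h]
      rw [Equiv.swap_apply_left] at h1
      exact h1.symm
  have : Fact (Nat.Prime 2) := ⟨Nat.prime_two⟩
  obtain ⟨c, hc⟩ := hp.nonempty_fixed_point_of_prime_not_dvd_card (Equiv.Perm Ω ⧸ K) (by
    change ¬ 2 ∣ K.index
    rw [hidx]; norm_num)
  obtain ⟨g, rfl⟩ := QuotientGroup.mk_surjective c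
  have h1 := hc ⟨τ, Subgroup.mem_zpowers τ⟩
  have h2 : (QuotientGroup.mk (τ * g) : Equiv.Perm Ω ⧸ K) = QuotientGroup.mk g := h1
  rw [QuotientGroup.eq] at h2
  have h3 : g⁻¹ * τ * g ∈ K := by
    have h4 : g⁻¹ * τ * g = ((τ * g)⁻¹ * g)⁻¹ := by group
    rw [h4]; exact inv_mem h2
  have h4 : (g⁻¹ * τ * g).IsSwap := by
    refine ⟨g⁻¹ x, g⁻¹ y, fun h => hxy (g⁻¹.injective h), ?_⟩
    have h5 := Equiv.swap_apply_apply g⁻¹ x y
    rw [h5, inv_inv]
  have h5 : K = ⊤ := by
    apply Equiv.Perm.subgroup_eq_top_of_swap_mem (τ := g⁻¹ * τ * g) (by rw [h7']; norm_num) ?_ h3 h4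
    rw [h7', ← Nat.card_eq_fintype_card, hK]
    norm_num
  rw [h5, Subgroup.index_top] at hidx
  omega

end perm

end Cfsg.Agent.H902.MonoSmall
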