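import Cfsg.Agent.H902.MonoSmall

/-!
# The groups `PSL₂(q)`, `q = 4, 5, 7, 11` (S4572)
-/

set_option autoImplicit false
set_option linter.unusedSectionVars false

namespace Cfsg.Agent.H902.MonoSmall

open MulAction Cfsg Matrix Cfsg.Agent.H649.MN Cfsg.Agent.H902.Mono Cfsg.Agent.H902.MonoRank Cfsg.Agent.Characters.Core
open scoped Pointwise

section facts

variable {F : Type*} [Field F] [Fintype F] {q r e : ℕ} [hr : Fact r.Prime] [hcr : CharP F r]

/-- The Sylow subgroups in the defining characteristic and the outer automorphisms. -/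
theorem facts (hF : Fintype.card F = q) (hq : 4 ≤ q) (hf : q = r ^ e) (he1 : 1 ≤ e)
    [hs : IsSimpleGroup (ProjectiveSpecialLinearGroup (Fin 2) F)] (P : Sylow r (ProjectiveSpecialLinearGroup (Fin 2) F)) :
    (∀ Q Q' : Sylow r (ProjectiveSpecialLinearGroup (Fin 2) F), Q ≠ Q' →
      (Q : Subgroup (ProjectiveSpecialLinearGroup (Fin 2) F)) ⊓ (Q' : Subgroup (ProjectiveSpecialLinearGroup (Fin 2) F)) = ⊥) ∧
    Nat.card P = q ∧ Nat.card (Sylow r (ProjectiveSpecialLinearGroup (Fin 2) F)) = q + 1 ∧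
    Nat.card (Subgroup.normalizer ((P : Subgroup (ProjectiveSpecialLinearGroup (Fin 2) F)) :
      Set (ProjectiveSpecialLinearGroup (Fin 2) F))) * Nat.gcd 2 (q - 1) = q * (q - 1) ∧
    Nat.card (ProjectiveSpecialLinearGroup (Fin 2) F) * Nat.gcd 2 (q - 1) = q * (q ^ 2 - 1) ∧
    Nat.card (Cfsg.Out (ProjectiveSpecialLinearGroup (Fin 2) F)) = Nat.gcd 2 (q - 1) * e ∧
    ¬ IsMulCommutative (ProjectiveSpecialLinearGroup (Fin 2) F) := by
  have hrq : r ∣ q := by rw [hf]; exact dvd_pow_self r (by omega)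
  have hcard := Cfsg.Agent.ClassicalGeometry.PSL2Basic.card_PSL2_gcd (F := F)
  rw [hF] at hcard
  have hcs : Nat.card (Sylow r (ProjectiveSpecialLinearGroup (Fin 2) F)) = q + 1 := by
    have h0 : Nat.card (Sylow r (ProjectiveSpecialLinearGroup (Fin 2) F)) = (Subgroup.normalizer
      ((P : Subgroup (ProjectiveSpecialLinearGroup (Fin 2) F)) : Set (ProjectiveSpecialLinearGroup (Fin 2) F))).index :=
      Sylow.card_eq_index_normalizer P
    rw [h0, Cfsg.Agent.H436.TT.index_normalizer r P, hF]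
  have hTI : ∀ Q Q' : Sylow r (ProjectiveSpecialLinearGroup (Fin 2) F), Q ≠ Q' →
      (Q : Subgroup (ProjectiveSpecialLinearGroup (Fin 2) F)) ⊓ (Q' : Subgroup (ProjectiveSpecialLinearGroup (Fin 2) F)) = ⊥ := by
    intro Q Q' hne
    rw [eq_bot_iff]
    intro x hx
    rw [Subgroup.mem_bot]
    by_contra hx1
    exact hne (Cfsg.Agent.ClassicalGeometry.PSL2ElemOrder.sylow_eq_of_mem r Q Q' x hx1 hx.1 hx.2)
  have hna : ¬ IsMulCommutative (ProjectiveSpecialLinearGroup (Fin 2) F) := MonoTI.not_comm (r := r) (by rw [hcs]; omega)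
  have hP : Nat.card P = q := by
    obtain ⟨M, hM⟩ : ∃ M, Nat.card (ProjectiveSpecialLinearGroup (Fin 2) F) = r ^ e * M ∧ ¬ r ∣ M := by
      have h1 : q ∣ Nat.card (ProjectiveSpecialLinearGroup (Fin 2) F) := by
        have h2 : q ∣ Nat.card (ProjectiveSpecialLinearGroup (Fin 2) F) * Nat.gcd 2 (q - 1) := by
          rw [hcard]; exact Dvd.intro _ rfl
        have hcop : Nat.Coprime (r ^ e) (Nat.gcd 2 (q - 1)) := by
          apply Nat.Coprime.pow_left
          rw [Nat.Prime.coprime_iff_not_dvd hr.out]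
          intro h3
          have h4 : r ∣ q - 1 := h3.trans (Nat.gcd_dvd_right _ _)
          have h5 : r ∣ (q - 1) + 1 := by rw [Nat.sub_add_cancel (by omega)]; exact hrq
          exact hr.out.one_lt.ne' (Nat.dvd_one.1 ((Nat.dvd_add_right h4).1 h5))
        rw [← hf] at hcop
        exact Nat.Coprime.dvd_of_dvd_mul_right hcop h2
      obtain ⟨M, hM⟩ := h1
      refine ⟨M, by rw [hM, hf], fun h => ?_⟩
      rw [hM, mul_assoc] at hcard
      have h6 := Nat.eq_of_mul_eq_mul_left (by omega) hcard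
      have h7 : r ∣ q ^ 2 - 1 := by rw [← h6]; exact h.mul_right _
      have h8 : r ∣ (q ^ 2 - 1) + 1 := by
        have : 1 ≤ q ^ 2 := Nat.one_le_pow _ _ (by omega)
        rw [Nat.sub_add_cancel this]
        exact dvd_pow hrq (by norm_num)
      exact hr.out.one_lt.ne' (Nat.dvd_one.1 ((Nat.dvd_add_right h7).1 h8))
    rw [P.card_eq_multiplicity, hM.1, Nat.factorization_mul (pow_ne_zero _ hr.out.ne_zero) (by
      rintro rfl
      exact hM.2 (dvd_zero _)), Nat.Prime.factorization_pow hr.out]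
    simp only [Finsupp.coe_add, Pi.add_apply, Finsupp.single_eq_same]
    rw [Nat.factorization_eq_zero_of_not_dvd hM.2, add_zero, ← hf]
  have hN : Nat.card (Subgroup.normalizer ((P : Subgroup (ProjectiveSpecialLinearGroup (Fin 2) F)) :
      Set (ProjectiveSpecialLinearGroup (Fin 2) F))) * Nat.gcd 2 (q - 1) = q * (q - 1) := by
    have h1 := card_mul P
    rw [hcs] at h1
    have hcard' := hcard
    rw [← h1, MonoPSL2.sq_sub] at hcard'
    apply Nat.eq_of_mul_eq_mul_left (show 0 < q + 1 by omega)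
    calc _ = _ := by ring
      _ = _ := hcard'
      _ = _ := by ring
  have hout : Nat.card (Cfsg.Out (ProjectiveSpecialLinearGroup (Fin 2) F)) = Nat.gcd 2 (q - 1) * e := by
    apply Cfsg.Agent.H934.OutB.card_out_of_aut hna
    have h1 := Cfsg.Agent.S0813.result (F := F) r e he1 (hF.trans hf) 2 le_rfl (fun _ => by rw [← hf]; omega)
    rw [h1, if_pos rfl, one_mul, Cfsg.Agent.ClassicalGeometry.PSL2Basic.card_PGL2, hF, ← hcard]
    ring
  exact ⟨hTI, hP, hcs, hN, hcard, hout, hna⟩

end facts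

section general

variable {S : Type*} [Group S] [Finite S] [IsSimpleGroup S]

/-- all non-monomial characters of the same degree `D`: a contradiction from an element `x`, if `A = S` -/
theorem pair_of_top (hna : ¬ IsMulCommutative S) {A : Type*} [Group A] [Fintype A] (f : S →* A)
    (hf : Function.Injective f) (hN : (f.range).Normal) {r D : ℕ} (hr : r.Prime) (hidx : ¬ r ∣ (f.range).index)
    (hD : r ∣ D) {χ : A → ℂ} (hχ : NonMono f χ) (hχ1 : χ 1 = (D : ℂ)) (x : S) (hx : x ≠ 1)
    (hcore : ∀ H : Subgroup S, H ≠ ⊤ → x ∈ H → ¬ r ∣ H.index → False) :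
    ∃ χ ψ : A → ℂ, NonMono f χ ∧ NonMono f ψ ∧ χ 1 ≠ ψ 1 := by
  by_contra hcon
  push Not at hcon
  obtain ⟨H, hH, hxH, hHi⟩ := exists_sub (c := 0) hna f hN hr (by simpa using hidx) (by simpa using hD)
    (fun ψ hψ => by rw [hcon ψ χ hψ hχ, hχ1]) hf x hx
  exact hcore H hH hxH (by simpa using hHi)

end general

section seven

variable {F : Type*} [Field F] [Fintype F]

theorem seven (hF : Fintype.card F = 7) [hs : IsSimpleGroup (ProjectiveSpecialLinearGroup (Fin 2) F)] :
    GoodMono (ProjectiveSpecialLinearGroup (Fin 2) F) := by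
  classical
  have hr : Fact (Nat.Prime 7) := ⟨by norm_num⟩
  have hcr : CharP F 7 := charP_of_card_eq_prime hF
  have hfin : Finite (ProjectiveSpecialLinearGroup (Fin 2) F) := inferInstance
  obtain ⟨P⟩ : Nonempty (Sylow 7 (ProjectiveSpecialLinearGroup (Fin 2) F)) := inferInstance
  obtain ⟨hTI, hP, hcs, hNc, hcard, hout, hna⟩ := facts (q := 7) (r := 7) (e := 1) hF (by norm_num) (by norm_num) le_rfl P
  have hcard' : Nat.card (ProjectiveSpecialLinearGroup (Fin 2) F) = 168 := by
    have h1 : Nat.gcd 2 (7 - 1) = 2 := by norm_num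
    rw [h1] at hcard
    omega
  have hout' : Nat.card (Cfsg.Out (ProjectiveSpecialLinearGroup (Fin 2) F)) = 2 := by rw [hout]; norm_num
  have hNc' : Nat.card (Subgroup.normalizer ((P : Subgroup (ProjectiveSpecialLinearGroup (Fin 2) F)) :
      Set (ProjectiveSpecialLinearGroup (Fin 2) F))) = 21 := by
    have h1 : Nat.gcd 2 (7 - 1) = 2 := by norm_num
    rw [h1] at hNc
    omega
  have hmin : ∀ H : Subgroup (ProjectiveSpecialLinearGroup (Fin 2) F), H ≠ ⊤ → 7 ≤ H.index := fun H hH =>
    index_ge (by norm_num) (by rw [hcard']; norm_num) H hH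
  intro A _ _ f hf hN hC _
  have hdvd : (f.range).index ∣ 2 := by
    have h0 := index_dvd_out f hf hN hC
    rwa [hout'] at h0
  have hAcard : (f.range).index * 168 = Nat.card A := by
    have h1 := (f.range).index_mul_card
    rw [← Nat.card_congr (MonoidHom.ofInjective hf).toEquiv, hcard'] at h1
    exact h1
  rcases (Nat.dvd_prime Nat.prime_two).1 hdvd with h1 | h2
  · -- `A = S`
    have hsurj : Function.Surjective f := by
      rw [← MonoidHom.range_eq_top]
      exact Subgroup.index_eq_one.1 h1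
    let e : ProjectiveSpecialLinearGroup (Fin 2) F ≃* A := MulEquiv.ofBijective f ⟨hf, hsurj⟩
    -- a subgroup of index 7
    have : Fact (Nat.Prime 2) := ⟨Nat.prime_two⟩
    have hK2 : Fintype.card (ZMod 2) = 2 := ZMod.card 2
    obtain ⟨e'⟩ := Cfsg.Agent.S0255.result hF hK2
    obtain ⟨H₀, hH₀⟩ := (Cfsg.Agent.S2140.result hK2 3 le_rfl (by omega)).2
    have hH₀' : H₀.index = 7 := by rw [hH₀]; norm_num
    let g : A ≃* ProjectiveSpecialLinearGroup (Fin 3) (ZMod 2) := e.symm.trans e'
    let H₁ : Subgroup A := H₀.comap g.toMonoidHom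
    have hH₁ : H₁.index = 7 := by
      rw [← hH₀']
      exact Subgroup.index_comap_of_surjective _ g.surjective
    have hsA : IsSimpleGroup A := e.symm.isSimpleGroup
    have hncA : ∃ a b : A, a * b ≠ b * a := by
      by_contra hcon
      push Not at hcon
      apply hna
      refine ⟨⟨fun a b => ?_⟩⟩
      apply hf
      rw [map_mul, map_mul]
      exact hcon _ _
    have hyp : Cfsg.Agent.H410.Basic.Hyp A (A ⧸ H₁) 7 :=
      { fin := inferInstance
        simple := hsA
        nc := hncA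
        prime := by norm_num
        card := hH₁
        trans := inferInstance }
    have h2t := hyp.two_trans
    have hirr := (Cfsg.Agent.S0157.result (G := A) (A ⧸ H₁) (by
      change 2 ≤ H₁.index
      rw [hH₁]; norm_num)).2 h2t
    set χ : A → ℂ := fun g => (Nat.card (fixedBy (A ⧸ H₁) g) : ℂ) - 1 with hχ
    have hχ1 : χ 1 = ((6 : ℕ) : ℂ) := by
      have h3 : fixedBy (A ⧸ H₁) (1 : A) = Set.univ := by
        ext V; simp
      rw [hχ]
      simp only
      rw [h3, Nat.card_congr (Equiv.Set.univ (A ⧸ H₁))]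
      have h4 : Nat.card (A ⧸ H₁) = 7 := hH₁
      rw [h4]
      norm_num
    have hnt : ∃ s, χ (f s) ≠ χ 1 := by
      by_contra hcon
      push Not at hcon
      have hne : H₁ ≠ ⊤ := by
        intro h
        rw [h, Subgroup.index_top] at hH₁
        omega
      obtain ⟨a, ha⟩ : ∃ a, a ∉ H₁ := by
        by_contra hcon
        push Not at hcon
        exact hne (eq_top_iff.2 fun a _ => hcon a)
      obtain ⟨s, rfl⟩ := hsurj a
      have h3 := hcon s
      rw [hχ1, hχ] at h3
      simp only at h3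
      have h4 : Nat.card (fixedBy (A ⧸ H₁) (f s)) = Nat.card (A ⧸ H₁) := by
        have h5 : Nat.card (A ⧸ H₁) = 7 := hH₁
        rw [h5]
        have : ((Nat.card (fixedBy (A ⧸ H₁) (f s)) : ℕ) : ℂ) = ((7 : ℕ) : ℂ) := by
          push_cast at h3 ⊢
          linear_combination h3
        exact_mod_cast this
      have h5 : fixedBy (A ⧸ H₁) (f s) = Set.univ := by
        apply Set.eq_of_subset_of_ncard_le (Set.subset_univ _) _ (Set.toFinite _)
        rw [Set.ncard_univ, ← Nat.card_coe_set_eq, h4]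
      have h6 : (QuotientGroup.mk 1 : A ⧸ H₁) ∈ fixedBy (A ⧸ H₁) (f s) := h5 ▸ Set.mem_univ _
      rw [mem_fixedBy] at h6
      change (QuotientGroup.mk (f s * 1) : A ⧸ H₁) = QuotientGroup.mk 1 at h6
      rw [QuotientGroup.eq, mul_one, mul_one, inv_mem_iff] at h6
      exact ha h6
    have hnm : NonMono f χ := nonMono_of_lt hna f hN hirr hnt hχ1 (fun H hH hd => by
      have h3 := hmin H hH
      have h4 := Nat.le_of_dvd (by norm_num) hd
      omega)
    obtain ⟨x, hx⟩ := exists_prime_orderOf_dvd_card' 7 (by rw [hcard']; norm_num :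
      7 ∣ Nat.card (ProjectiveSpecialLinearGroup (Fin 2) F))
    refine pair_of_top hna f hf hN Nat.prime_two (by rw [h1]; norm_num) (by norm_num : 2 ∣ 6) hnm hχ1 x (by
      rintro rfl
      rw [orderOf_one] at hx
      omega) ?_
    intro H hH hxH hodd
    have h3 := hmin H hH
    have h4 : 7 ∣ Nat.card H := hx ▸ Subgroup.orderOf_dvd_natCard _ hxH
    have h5 := H.index_mul_card
    rw [hcard'] at h5
    obtain ⟨k, hk⟩ := h4
    rw [hk] at h5
    have h6 : H.index * k = 24 := by
      have : 7 * (H.index * k) = 7 * 24 := by rw [← mul_assoc, mul_comm 7 H.index, mul_assoc, h5]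
      omega
    have h7 : H.index ∣ 24 := Dvd.intro _ h6
    have h8 : H.index ∣ 3 := by
      have h9 : Nat.Coprime H.index 8 := by
        rw [show (8 : ℕ) = 2 ^ 3 by norm_num]
        apply Nat.Coprime.pow_right
        rw [Nat.coprime_comm, Nat.Prime.coprime_iff_not_dvd Nat.prime_two]
        exact hodd
      exact h9.dvd_of_dvd_mul_left (show H.index ∣ 8 * 3 from h7)
    have h9 := Nat.le_of_dvd (by norm_num) h8
    omega
  · -- `|A : S| = 2`
    obtain ⟨χ, hirr, hnt, hχ1, hval⟩ := exists_st' f P hTI (by rw [hcs, hP]) hf hN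
    have hnm : NonMono f χ := by
      refine ⟨hirr, hnt, fun hm => ?_⟩
      obtain ⟨H, hH1, hH2, hH3, hH4⟩ := index_bound hna f hN hnt hm
      have h7 : H.index = 7 := by
        rw [hχ1, hP] at hH3
        exact_mod_cast hH3.symm
      have hcore := core_eq_bot f hN hC hH1
      let φ : A →* Equiv.Perm (A ⧸ H) := toPermHom A (A ⧸ H)
      have hinj : Function.Injective φ := by
        rw [← MonoidHom.ker_eq_bot_iff, ← Subgroup.normalCore_eq_ker]
        exact hcore
      refine not_336 (Ω := A ⧸ H) h7 φ.range ?_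
      rw [← Nat.card_congr (MonoidHom.ofInjective hinj).toEquiv, ← hAcard, h2]
    obtain ⟨x, hxo, hx⟩ := exists_x P Nat.prime_two (by rw [hcs]; norm_num) (by rw [hNc']; norm_num)
    have hx1 : x ≠ 1 := by
      rintro rfl
      rw [orderOf_one] at hxo
      omega
    refine pair_of_st (r := 7) (c := 0) (D := 7) hna (by rw [hout']; norm_num) (by norm_num) f hf hN hC hnm
      (by rw [hχ1, hP]) x hx1 ?_
    intro H hxH hH
    refine rank_one_zero P ?_ hTI (by rw [hcs, hP]) x hx hx1 H hxH (by simpa using hH)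
    intro h
    have h1 : Nat.card P = 1 := Subgroup.card_eq_one.2 h
    rw [hP] at h1
    omega

end seven

end Cfsg.Agent.H902.MonoSmall
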