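import Cfsg.Agent.H902.MonoSmallB

/-!
# The groups `PSL₂(11)` and `A₅` (S4572), and the complete row of `PSL₂`
-/

set_option autoImplicit false
set_option linter.unusedSectionVars false

namespace Cfsg.Agent.H902.MonoSmall

open MulAction Cfsg Matrix Cfsg.Agent.H649.MN Cfsg.Agent.H902.Mono Cfsg.Agent.H902.MonoRank Cfsg.Agent.Characters.Core
open scoped Pointwise

section eleven

variable {F : Type*} [Field F] [Fintype F]

/-- Homomorphisms of the subgroups of order sixty of `PSL₂(11)` into an abelian group are trivial. -/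
theorem hom_sixty (hF : Fintype.card F = 11) (K : Subgroup (ProjectiveSpecialLinearGroup (Fin 2) F)) (hK : Nat.card K = 60)
    (g : K →* ℂˣ) (k : K) : g k = 1 := by
  have hr : Fact (Nat.Prime 11) := ⟨by norm_num⟩
  have hcr : CharP F 11 := charP_of_card_eq_prime hF
  have h66 : (11 + 1) / Nat.gcd 2 (11 - 1) = 6 := by norm_num
  have h55 : (11 - 1) / Nat.gcd 2 (11 - 1) = 5 := by norm_num
  have halt : Nonempty (K ≃* alternatingGroup (Fin 5)) := by
    rcases S0799.result hF 11 K with ⟨k, hk, h⟩ | ⟨P, M, hM, ⟨e⟩⟩ | ⟨⟨e⟩⟩ | ⟨⟨e⟩⟩ | h | ⟨K₀, i1, i2, m, hm, h⟩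
    · exfalso
      rw [h66, h55] at hk
      have hk6 : k ≤ 6 := by
        rcases hk with hk | hk
        · exact Nat.le_of_dvd (by norm_num) hk
        · exact (Nat.le_of_dvd (by norm_num) hk).trans (by norm_num)
      rcases h with ⟨-, h⟩ | ⟨⟨e⟩⟩
      · omega
      · rw [Nat.card_congr e.toEquiv, DihedralGroup.nat_card] at hK
        omega
    · exfalso
      have h1 := H436.TT.index_normalizer (F := F) 11 P
      have h2 := (Subgroup.normalizer ((P : Subgroup (ProjectiveSpecialLinearGroup (Fin 2) F)) :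
        Set (ProjectiveSpecialLinearGroup (Fin 2) F))).index_mul_card
      have h3 := ClassicalGeometry.PSL2Basic.card_PSL2_gcd (F := F)
      rw [h1, hF] at h2
      rw [hF, ← h2] at h3
      have h4 : Nat.card K ∣ Nat.card (Subgroup.normalizer
          ((P : Subgroup (ProjectiveSpecialLinearGroup (Fin 2) F)) :
            Set (ProjectiveSpecialLinearGroup (Fin 2) F))) := by
        rw [Nat.card_congr e.toEquiv]
        exact Subgroup.card_dvd_of_le hM
      have h5 : Nat.card (Subgroup.normalizer
          ((P : Subgroup (ProjectiveSpecialLinearGroup (Fin 2) F)) :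
            Set (ProjectiveSpecialLinearGroup (Fin 2) F))) = 55 := by
        have h6 : Nat.gcd 2 (11 - 1) = 2 := by norm_num
        rw [h6] at h3
        omega
      rw [hK, h5] at h4
      have := Nat.le_of_dvd (by norm_num) h4
      omega
    · exfalso
      rw [Nat.card_congr e.toEquiv, nat_card_alternatingGroup, Nat.card_fin] at hK
      revert hK
      decide
    · exfalso
      rw [Nat.card_congr e.toEquiv, Nat.card_perm, Nat.card_fin] at hK
      revert hK
      decide
    · exact h
    · exfalso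
      have hm1 : m = 1 := by
        rcases Nat.lt_or_ge m 2 with h1 | h1
        · have : m ≠ 0 := by
            rintro rfl
            rw [pow_zero] at hm
            omega
          omega
        · exfalso
          have h2 : ¬ (Nat.Prime (Fintype.card K₀ ^ m)) := Nat.Prime.not_prime_pow h1
          rw [hm] at h2
          exact h2 (by norm_num)
      rw [hm1, pow_one] at hm
      rcases h with ⟨⟨e⟩⟩ | ⟨⟨e⟩⟩
      · have h3 := ClassicalGeometry.PSL2Basic.card_PSL2_gcd (F := K₀)
        rw [← Nat.card_congr e.toEquiv, hK, hm] at h3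
        norm_num at h3
      · rw [Nat.card_congr e.toEquiv, ClassicalGeometry.PSL2Basic.card_PGL2, hm] at hK
        norm_num at hK
  obtain ⟨e⟩ := halt
  have hs5 : IsSimpleGroup (alternatingGroup (Fin 5)) := inferInstance
  have hna : ¬ IsMulCommutative (alternatingGroup (Fin 5)) := by
    intro hc
    have ha : Equiv.swap 0 1 * Equiv.swap 1 2 ∈ alternatingGroup (Fin 5) := by
      rw [Equiv.Perm.mem_alternatingGroup]; decide
    have hb : Equiv.swap 0 1 * Equiv.swap 1 3 ∈ alternatingGroup (Fin 5) := by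
      rw [Equiv.Perm.mem_alternatingGroup]; decide
    have h1 := congrArg Subtype.val (hc.is_comm.comm (⟨_, ha⟩ : alternatingGroup (Fin 5)) ⟨_, hb⟩)
    change (Equiv.swap 0 1 * Equiv.swap 1 2 : Equiv.Perm (Fin 5)) * (Equiv.swap 0 1 * Equiv.swap 1 3) =
      (Equiv.swap 0 1 * Equiv.swap 1 3) * (Equiv.swap 0 1 * Equiv.swap 1 2) at h1
    exact absurd h1 (by decide)
  have h1 := hom_trivial hna (g.comp e.symm.toMonoidHom) (e k)
  rw [MonoidHom.comp_apply] at h1
  change g (e.symm (e k)) = 1 at h1
  rwa [e.symm_apply_apply] at h1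

theorem eleven (hF : Fintype.card F = 11) [hs : IsSimpleGroup (ProjectiveSpecialLinearGroup (Fin 2) F)] :
    GoodMono (ProjectiveSpecialLinearGroup (Fin 2) F) := by
  classical
  have hr : Fact (Nat.Prime 11) := ⟨by norm_num⟩
  have hcr : CharP F 11 := charP_of_card_eq_prime hF
  have hfin : Finite (ProjectiveSpecialLinearGroup (Fin 2) F) := inferInstance
  obtain ⟨P⟩ : Nonempty (Sylow 11 (ProjectiveSpecialLinearGroup (Fin 2) F)) := inferInstance
  obtain ⟨hTI, hP, hcs, hNc, hcard, hout, hna⟩ := facts (q := 11) (r := 11) (e := 1) hF (by norm_num) (by norm_num) le_rfl P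
  have hcard' : Nat.card (ProjectiveSpecialLinearGroup (Fin 2) F) = 660 := by
    have h1 : Nat.gcd 2 (11 - 1) = 2 := by norm_num
    rw [h1] at hcard
    omega
  have hout' : Nat.card (Cfsg.Out (ProjectiveSpecialLinearGroup (Fin 2) F)) = 2 := by rw [hout]; norm_num
  have hNc' : Nat.card (Subgroup.normalizer ((P : Subgroup (ProjectiveSpecialLinearGroup (Fin 2) F)) :
      Set (ProjectiveSpecialLinearGroup (Fin 2) F))) = 55 := by
    have h1 : Nat.gcd 2 (11 - 1) = 2 := by norm_num
    rw [h1] at hNc
    omega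
  obtain ⟨x, hxo, hx⟩ := exists_x P Nat.prime_three (by rw [hcs]; norm_num) (by rw [hNc']; norm_num)
  have hx1 : x ≠ 1 := by
    rintro rfl
    rw [orderOf_one] at hxo
    omega
  have hxfree : ∀ Q : Sylow 11 (ProjectiveSpecialLinearGroup (Fin 2) F), x • Q ≠ Q := fun Q h =>
    hx1 (hx Q x (Subgroup.mem_zpowers x) h)
  intro A _ _ f hf hN hC _
  obtain ⟨χ, hirr, hnt, hχ1, hval⟩ := exists_st' f P hTI (by rw [hcs, hP]) hf hN
  have hnm : NonMono f χ := by
    refine ⟨hirr, hnt, ?_⟩
    rintro ⟨H, lam, hlam⟩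
    have hle : ¬ f.range ≤ H := not_le hna f hN (H := H) (lam := lam) (by rw [← hlam]; exact hnt)
    have hidx : H.index = 11 := by
      have h1 := indFun_one H lam
      rw [← hlam, hχ1, hP] at h1
      exact_mod_cast h1.symm
    have hK := index_comap_dvd f hN H
    rw [hidx] at hK
    have hKt := comap_ne_top f hle
    have hKidx : (H.comap f).index = 11 := by
      rcases (Nat.dvd_prime (by norm_num)).1 hK with h1 | h1
      · exact absurd (Subgroup.index_eq_one.1 h1) hKt
      · exact h1
    have hKc : Nat.card (H.comap f) = 60 := by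
      have h1 := (H.comap f).index_mul_card
      rw [hKidx, hcard'] at h1
      omega
    apply indFun_ne H lam (f x) ?_ (by rw [← hlam]; exact hval x hxfree)
    intro a ha
    obtain ⟨k, hk⟩ : a⁻¹ * f x * a ∈ f.range := by
      have h1 := hN.conj_mem (f x) ⟨x, rfl⟩ a⁻¹
      rwa [inv_inv] at h1
    have hkK : k ∈ H.comap f := by
      rw [Subgroup.mem_comap, hk]; exact ha
    let j : (H.comap f) →* H :=
      { toFun := fun y => ⟨f y, y.2⟩
        map_one' := Subtype.ext (map_one f)
        map_mul' := fun a b => Subtype.ext (map_mul f _ _) }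
    have h1 := hom_sixty hF (H.comap f) hKc (lam.comp j) ⟨k, hkK⟩
    rw [MonoidHom.comp_apply] at h1
    rw [← h1]
    congr 1
    exact Subtype.ext hk.symm
  refine pair_of_st (r := 11) (c := 0) (D := 11) hna (by rw [hout']; norm_num) (by norm_num) f hf hN hC hnm
    (by rw [hχ1, hP]) x hx1 ?_
  intro H hxH hH
  refine rank_one_zero P ?_ hTI (by rw [hcs, hP]) x hx hx1 H hxH (by simpa using hH)
  intro h
  have h1 : Nat.card P = 1 := Subgroup.card_eq_one.2 h
  rw [hP] at h1
  omega

end eleven

section four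

variable {F : Type*} [Field F] [Fintype F]

theorem four (hF : Fintype.card F = 4) [hs : IsSimpleGroup (ProjectiveSpecialLinearGroup (Fin 2) F)] :
    GoodMono (ProjectiveSpecialLinearGroup (Fin 2) F) := by
  classical
  have hr : Fact (Nat.Prime 2) := ⟨Nat.prime_two⟩
  have hr5 : Fact (Nat.Prime 5) := ⟨by norm_num⟩
  have hcr : CharP F 2 := by
    have h4 : Fintype.card F = 2 ^ 2 := by rw [hF]; norm_num
    exact charP_of_card_eq_prime_pow h4
  have hfin : Finite (ProjectiveSpecialLinearGroup (Fin 2) F) := inferInstance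
  obtain ⟨P⟩ : Nonempty (Sylow 2 (ProjectiveSpecialLinearGroup (Fin 2) F)) := inferInstance
  obtain ⟨hTI, hP, hcs, hNc, hcard, hout, hna⟩ := facts (q := 4) (r := 2) (e := 2) hF (by norm_num) (by norm_num) (by norm_num) P
  have h41 : Nat.gcd 2 (4 - 1) = 1 := by norm_num
  have hcard' : Nat.card (ProjectiveSpecialLinearGroup (Fin 2) F) = 60 := by
    rw [h41] at hcard
    omega
  have hout' : Nat.card (Cfsg.Out (ProjectiveSpecialLinearGroup (Fin 2) F)) = 2 := by rw [hout]; norm_num
  have hmin : ∀ H : Subgroup (ProjectiveSpecialLinearGroup (Fin 2) F), H ≠ ⊤ → 5 ≤ H.index := fun H hH =>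
    index_ge (by norm_num) (by rw [hcard']; norm_num) H hH
  -- the Sylow 5-subgroups
  obtain ⟨Q⟩ : Nonempty (Sylow 5 (ProjectiveSpecialLinearGroup (Fin 2) F)) := inferInstance
  have hQ : ∀ Q : Sylow 5 (ProjectiveSpecialLinearGroup (Fin 2) F), Nat.card Q = 5 := by
    intro Q
    rw [Q.card_eq_multiplicity, hcard', show (60 : ℕ) = 5 ^ 1 * 12 by norm_num,
      Nat.factorization_mul (by norm_num) (by norm_num), Nat.Prime.factorization_pow (by norm_num)]
    simp only [Finsupp.coe_add, Pi.add_apply, Finsupp.single_eq_same]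
    rw [Nat.factorization_eq_zero_of_not_dvd (by norm_num)]
    norm_num
  have hTI5 : ∀ Q Q' : Sylow 5 (ProjectiveSpecialLinearGroup (Fin 2) F), Q ≠ Q' →
      (Q : Subgroup (ProjectiveSpecialLinearGroup (Fin 2) F)) ⊓ (Q' : Subgroup (ProjectiveSpecialLinearGroup (Fin 2) F)) = ⊥ := by
    intro Q Q' hne
    have h1 : Nat.card ((Q : Subgroup (ProjectiveSpecialLinearGroup (Fin 2) F)) ⊓ (Q' : Subgroup (ProjectiveSpecialLinearGroup (Fin 2) F)) : Subgroup _) ∣ 5 := by
      have h0 : Nat.card ((Q : Subgroup (ProjectiveSpecialLinearGroup (Fin 2) F)) ⊓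
          (Q' : Subgroup (ProjectiveSpecialLinearGroup (Fin 2) F)) : Subgroup _) ∣
          Nat.card (Q : Subgroup (ProjectiveSpecialLinearGroup (Fin 2) F)) :=
        Subgroup.card_dvd_of_le inf_le_left
      rwa [hQ Q] at h0
    rcases (Nat.dvd_prime (by norm_num)).1 h1 with h2 | h2
    · exact Subgroup.card_eq_one.1 h2
    · exfalso
      apply hne
      have h3 : (Q : Subgroup (ProjectiveSpecialLinearGroup (Fin 2) F)) ⊓ (Q' : Subgroup (ProjectiveSpecialLinearGroup (Fin 2) F)) = Q :=
        Subgroup.eq_of_le_of_card_ge inf_le_left (by rw [h2]; exact (hQ Q).le)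
      have h4 : (Q : Subgroup (ProjectiveSpecialLinearGroup (Fin 2) F)) ⊓ (Q' : Subgroup (ProjectiveSpecialLinearGroup (Fin 2) F)) = Q' :=
        Subgroup.eq_of_le_of_card_ge inf_le_right (by rw [h2]; exact (hQ Q').le)
      exact Sylow.ext (h3.symm.trans h4)
  have hcs5 : Nat.card (Sylow 5 (ProjectiveSpecialLinearGroup (Fin 2) F)) = 6 := by
    have h1 := card_mul Q
    have h2 : 5 ∣ Nat.card (Subgroup.normalizer ((Q : Subgroup (ProjectiveSpecialLinearGroup (Fin 2) F)) :
        Set (ProjectiveSpecialLinearGroup (Fin 2) F))) := by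
      have h0 : Nat.card (Q : Subgroup (ProjectiveSpecialLinearGroup (Fin 2) F)) ∣
          Nat.card (Subgroup.normalizer ((Q : Subgroup (ProjectiveSpecialLinearGroup (Fin 2) F)) :
            Set (ProjectiveSpecialLinearGroup (Fin 2) F))) := Subgroup.card_dvd_of_le Subgroup.le_normalizer
      rwa [hQ Q] at h0
    obtain ⟨m, hm⟩ := h2
    have h3 := card_sylow_modEq_one 5 (ProjectiveSpecialLinearGroup (Fin 2) F)
    rw [hm, hcard'] at h1
    have h4 : m * Nat.card (Sylow 5 (ProjectiveSpecialLinearGroup (Fin 2) F)) = 12 := by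
      have : 5 * (m * Nat.card (Sylow 5 (ProjectiveSpecialLinearGroup (Fin 2) F))) = 60 := by rw [← mul_assoc]; exact h1
      omega
    have h5 : Nat.card (Sylow 5 (ProjectiveSpecialLinearGroup (Fin 2) F)) ∣ 12 := Dvd.intro_left _ h4
    have h6 : Nat.card (Sylow 5 (ProjectiveSpecialLinearGroup (Fin 2) F)) ≠ 1 := by
      intro h7
      have h8 : (Subgroup.normalizer ((Q : Subgroup (ProjectiveSpecialLinearGroup (Fin 2) F)) : Set (ProjectiveSpecialLinearGroup (Fin 2) F))).index = 1 := by
        have h0 : Nat.card (Sylow 5 (ProjectiveSpecialLinearGroup (Fin 2) F)) = (Subgroup.normalizer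
          ((Q : Subgroup (ProjectiveSpecialLinearGroup (Fin 2) F)) : Set (ProjectiveSpecialLinearGroup (Fin 2) F))).index :=
          Sylow.card_eq_index_normalizer Q
        rw [← h0]; exact h7
      have h9 : (Q : Subgroup (ProjectiveSpecialLinearGroup (Fin 2) F)).Normal :=
        Subgroup.normalizer_eq_top_iff.1 (Subgroup.index_eq_one.1 h8)
      rcases h9.eq_bot_or_eq_top with h10 | h10
      · have := hQ Q
        rw [h10, Subgroup.card_bot] at this
        omega
      · have := hQ Q
        rw [h10, Subgroup.card_top, hcard'] at this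
        omega
    have h7 : Nat.card (Sylow 5 (ProjectiveSpecialLinearGroup (Fin 2) F)) ≤ 12 := Nat.le_of_dvd (by norm_num) h5
    have h8 : Nat.card (Sylow 5 (ProjectiveSpecialLinearGroup (Fin 2) F)) % 5 = 1 := h3
    generalize Nat.card (Sylow 5 (ProjectiveSpecialLinearGroup (Fin 2) F)) = n at *
    interval_cases n <;> omega
  have hNQ : Nat.card (Subgroup.normalizer ((Q : Subgroup (ProjectiveSpecialLinearGroup (Fin 2) F)) : Set (ProjectiveSpecialLinearGroup (Fin 2) F))) = 10 := by
    have h1 := card_mul Q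
    rw [hcs5, hcard'] at h1
    omega
  obtain ⟨x, hxo, hx⟩ := exists_x Q Nat.prime_three (by rw [hcs5]; norm_num) (by rw [hNQ]; norm_num)
  have hx1 : x ≠ 1 := by
    rintro rfl
    rw [orderOf_one] at hxo
    omega
  have hxfree : ∀ Q : Sylow 5 (ProjectiveSpecialLinearGroup (Fin 2) F), x • Q ≠ Q := fun Q h =>
    hx1 (hx Q x (Subgroup.mem_zpowers x) h)
  intro A _ _ f hf hN hC _
  have hdvd : (f.range).index ∣ 2 := by
    have h0 := index_dvd_out f hf hN hC
    rwa [hout'] at h0
  have hAcard : (f.range).index * 60 = Nat.card A := by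
    have h1 := (f.range).index_mul_card
    rw [← Nat.card_congr (MonoidHom.ofInjective hf).toEquiv, hcard'] at h1
    exact h1
  obtain ⟨ψ, hψirr, hψnt, hψ1, -⟩ := exists_st' f P hTI (by rw [hcs, hP]) hf hN
  have hψnm : NonMono f ψ := nonMono_of_lt hna f hN hψirr hψnt hψ1 (fun H hH hd => by
    have h3 := hmin H hH
    rw [hP] at hd
    have h4 := Nat.le_of_dvd (by norm_num) hd
    omega)
  rcases (Nat.dvd_prime Nat.prime_two).1 hdvd with h1 | h2
  · -- `A = S`
    obtain ⟨y, hy⟩ := exists_prime_orderOf_dvd_card' 5 (by rw [hcard']; norm_num :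
      5 ∣ Nat.card (ProjectiveSpecialLinearGroup (Fin 2) F))
    refine pair_of_top hna f hf hN Nat.prime_two (by rw [h1]; norm_num) (by norm_num : 2 ∣ 4) hψnm (by rw [hψ1, hP]) y (by
      rintro rfl
      rw [orderOf_one] at hy
      omega) ?_
    intro H hH hyH hodd
    have h3 := hmin H hH
    have h4 : 5 ∣ Nat.card H := hy ▸ Subgroup.orderOf_dvd_natCard _ hyH
    have h5 := H.index_mul_card
    rw [hcard'] at h5
    obtain ⟨k, hk⟩ := h4
    rw [hk] at h5
    have h6 : H.index * k = 12 := by
      have : 5 * (H.index * k) = 5 * 12 := by rw [← mul_assoc, mul_comm 5 H.index, mul_assoc, h5]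
      omega
    have h7 : H.index ∣ 12 := Dvd.intro _ h6
    have h8 : H.index ∣ 3 := by
      have h9 : Nat.Coprime H.index 4 := by
        rw [show (4 : ℕ) = 2 ^ 2 by norm_num]
        apply Nat.Coprime.pow_right
        rw [Nat.coprime_comm, Nat.Prime.coprime_iff_not_dvd Nat.prime_two]
        exact hodd
      exact h9.dvd_of_dvd_mul_left (show H.index ∣ 4 * 3 from h7)
    have h9 := Nat.le_of_dvd (by norm_num) h8
    omega
  · -- `|A : S| = 2`
    obtain ⟨χ, hirr, hnt, hχ1, hval⟩ := exists_st' f Q hTI5 (by rw [hcs5, hQ]) hf hN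
    have hnm : NonMono f χ := by
      refine ⟨hirr, hnt, ?_⟩
      rintro ⟨H, lam, hlam⟩
      have hle : ¬ f.range ≤ H := not_le hna f hN (H := H) (lam := lam) (by rw [← hlam]; exact hnt)
      have hidx : H.index = 5 := by
        have h1 := indFun_one H lam
        rw [← hlam, hχ1, hQ] at h1
        exact_mod_cast h1.symm
      have hcore := core_eq_bot f hN hC hle
      apply indFun_ne H lam (f x) ?_ (by rw [← hlam]; exact hval x hxfree)
      intro a ha
      apply lam_eq_one (by rw [← hAcard, h2]) H hidx hcore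
      apply Subtype.ext
      change (a⁻¹ * f x * a) ^ 3 = 1
      have h3 : (a⁻¹ * f x * a) ^ 3 = a⁻¹ * (f x) ^ 3 * a := by
        have := conj_pow (i := 3) (a := a⁻¹) (b := f x)
        rwa [inv_inv] at this
      rw [h3, ← map_pow, ← hxo, pow_orderOf_eq_one, map_one]
      group
    exact ⟨ψ, χ, hψnm, hnm, by rw [hψ1, hχ1, hP, hQ]; norm_num⟩

end four

/-- **The row of `PSL₂`.** -/
theorem psl2 {F : Type} [Field F] [Fintype F] (hF : 4 ≤ Fintype.card F)
    [hs : IsSimpleGroup (ProjectiveSpecialLinearGroup (Fin 2) F)] : GoodMono (ProjectiveSpecialLinearGroup (Fin 2) F) := by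
  by_cases h8 : 8 ≤ Fintype.card F
  · by_cases h11 : Fintype.card F = 11
    · exact eleven h11
    · exact MonoPSL2.main rfl h8 h11
  · have h6 : Fintype.card F ≠ 6 := by
      intro h
      have h1 : IsPrimePow (Fintype.card F) := FiniteField.isPrimePow_card F
      rw [h] at h1
      revert h1
      rw [isPrimePow_nat_iff_bounded]
      decide
    have h : Fintype.card F = 4 ∨ Fintype.card F = 5 ∨ Fintype.card F = 7 := by omega
    rcases h with h | h | h
    · exact four h
    · obtain ⟨e⟩ := Cfsg.Agent.S0253.result h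
      have : Fact (Nat.Prime 2) := ⟨Nat.prime_two⟩
      have : Fintype (GaloisField 2 2) := Fintype.ofFinite _
      have h4 : Fintype.card (GaloisField 2 2) = 4 := by
        rw [← Nat.card_eq_fintype_card, GaloisField.card 2 2 (by norm_num)]
        norm_num
      obtain ⟨e'⟩ := Cfsg.Agent.S0252.result h4
      have e'' := e.trans e'.symm
      have hs' : IsSimpleGroup (ProjectiveSpecialLinearGroup (Fin 2) (GaloisField 2 2)) := e''.symm.isSimpleGroup
      exact (four h4).congr e''.symm
    · exact seven h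

end Cfsg.Agent.H902.MonoSmall
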